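import Mathlib
import Cfsg.Agent.Lib.SympSylow.Monomial

/-!
The symplectic group as the unitary group of matrices over `M₂(F)` for the involution "transpose, adjugate
entrywise".
-/

set_option autoImplicit false
set_option linter.unusedSectionVars false

namespace CfsgLib.PronormalPSp

open Matrix Equiv CfsgLib.SympSylow

variable {F : Type*} [Field F] {α : Type*} [Fintype α] [DecidableEq α]

local notation "M2" => Matrix (Fin 2) (Fin 2) F

/-- Matrices of blocks. -/
abbrev BM (α : Type*) (F : Type*) := Matrix α α (Matrix (Fin 2) (Fin 2) F)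

theorem adj_add (a b : M2) : adjugate (a + b) = adjugate a + adjugate b := by
  rw [adjugate_fin_two, adjugate_fin_two, adjugate_fin_two]
  ext i j
  fin_cases i <;> fin_cases j <;> simp [add_comm]

theorem adj_sum {ι : Type*} (s : Finset ι) (f : ι → M2) : adjugate (∑ i ∈ s, f i) = ∑ i ∈ s, adjugate (f i) := by
  induction s using Finset.cons_induction with
  | empty => simp
  | cons a s ha ih => rw [Finset.sum_cons, Finset.sum_cons, adj_add, ih]

theorem adj_adj (a : M2) : adjugate (adjugate a) = a := by
  rw [adjugate_fin_two, adjugate_fin_two]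
  ext i j
  fin_cases i <;> fin_cases j <;> simp

theorem mul_adj (a : M2) : a * adjugate a = a.det • 1 := Matrix.mul_adjugate a

theorem adj_mul (a : M2) : adjugate a * a = a.det • 1 := Matrix.adjugate_mul a

/-- Transpose with entrywise adjugate. -/
def dag {β γ : Type*} (g : Matrix β γ M2) : Matrix γ β M2 := Matrix.of fun x y => adjugate (g y x)

theorem dag_apply {β γ : Type*} (g : Matrix β γ M2) (x : γ) (y : β) : dag g x y = adjugate (g y x) := rfl

theorem dag_dag {β γ : Type*} (g : Matrix β γ M2) : dag (dag g) = g := by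
  refine Matrix.ext fun x y => ?_; exact adj_adj _

theorem dag_mul {β γ δ : Type*} [Fintype γ] (g : Matrix β γ M2) (h : Matrix γ δ M2) :
    dag (g * h) = dag h * dag g := by
  refine Matrix.ext fun x y => ?_
  simp only [dag_apply, Matrix.mul_apply, adj_sum, adjugate_mul_distrib]

theorem dag_one {β : Type*} [DecidableEq β] : dag (1 : Matrix β β M2) = 1 := by
  refine Matrix.ext fun x y => ?_
  rw [dag_apply]
  by_cases h : x = y
  · subst h; simp
  · simp [Matrix.one_apply_ne h, Matrix.one_apply_ne (Ne.symm h)]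

/-- The unitary group. -/
def USp (α : Type*) (F : Type*) [Fintype α] [DecidableEq α] [Field F] : Subgroup (BM α F)ˣ where
  carrier := {g | (g : BM α F) * dag (g : BM α F) = 1}
  one_mem' := by simp [dag_one]
  mul_mem' {a b} ha hb := by
    show (a : BM α F) * (b : BM α F) * dag ((a : BM α F) * (b : BM α F)) = 1
    rw [dag_mul, ← mul_assoc, mul_assoc (a : BM α F), hb, mul_one, ha]
  inv_mem' {a} ha := by
    show ((a⁻¹ : (BM α F)ˣ) : BM α F) * dag ((a⁻¹ : (BM α F)ˣ) : BM α F) = 1
    have h : ((a⁻¹ : (BM α F)ˣ) : BM α F) = dag (a : BM α F) := Units.inv_eq_of_mul_eq_one_right ha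
    rw [h, dag_dag, ← h, Units.inv_mul]

/-- The matrix of an element. -/
abbrev mat (g : USp α F) : BM α F := ((g : (BM α F)ˣ) : BM α F)

theorem mat_mul (g h : USp α F) : mat (g * h) = mat g * mat h := rfl

theorem mat_one : mat (1 : USp α F) = 1 := rfl

theorem mat_inj {g h : USp α F} (e : mat g = mat h) : g = h := Subtype.ext (Units.ext e)

theorem mat_inv (g : USp α F) : mat g⁻¹ = dag (mat g) := Units.inv_eq_of_mul_eq_one_right g.2

theorem mul_dag (g : USp α F) : mat g * dag (mat g) = 1 := g.2

theorem dag_mul_self (g : USp α F) : dag (mat g) * mat g = 1 := by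
  rw [← mat_inv, ← mat_mul, inv_mul_cancel, mat_one]

/-- An element from a unitary matrix. -/
def mk (g : BM α F) (h1 : g * dag g = 1) (h2 : dag g * g = 1) : USp α F := ⟨⟨g, dag g, h1, h2⟩, h1⟩

theorem mat_mk (g : BM α F) (h1 : g * dag g = 1) (h2 : dag g * g = 1) : mat (mk g h1 h2) = g := rfl

/-! ### The isomorphism with the symplectic group -/

/-- Blocks of size two. -/
def toB : Matrix (α ⊕ α) (α ⊕ α) F ≃+* BM α F where
  toFun A := Matrix.of fun x y =>
    !![A (.inl x) (.inl y), A (.inl x) (.inr y); A (.inr x) (.inl y), A (.inr x) (.inr y)]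
  invFun B := Matrix.fromBlocks (Matrix.of fun x y => B x y 0 0) (Matrix.of fun x y => B x y 0 1)
    (Matrix.of fun x y => B x y 1 0) (Matrix.of fun x y => B x y 1 1)
  left_inv A := by ext (i | i) (j | j) <;> rfl
  right_inv B := by refine Matrix.ext fun x y => Matrix.ext fun i j => ?_; fin_cases i <;> fin_cases j <;> rfl
  map_add' A B := by refine Matrix.ext fun x y => Matrix.ext fun i j => ?_; fin_cases i <;> fin_cases j <;> rfl
  map_mul' A B := by
    refine Matrix.ext fun x y => Matrix.ext fun i j => ?_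
    rw [Matrix.mul_apply (n := α), Matrix.sum_apply]
    fin_cases i <;> fin_cases j <;>
      simp [Matrix.mul_apply, Fintype.sum_sum_type, ← Finset.sum_add_distrib]

/-- The standard alternating matrix in degree two. -/
def j0 : M2 := !![0, -1; 1, 0]

theorem j0_transpose (a : M2) : j0 * aᵀ = adjugate a * j0 := by
  rw [adjugate_fin_two]
  ext i j
  fin_cases i <;> fin_cases j <;> simp [j0, Matrix.mul_apply, Fin.sum_univ_two]

theorem toB_J : toB (Matrix.J α F) = Matrix.diagonal (fun _ => j0) := by
  refine Matrix.ext fun x y => Matrix.ext fun i j => ?_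
  by_cases h : x = y
  · subst h
    fin_cases i <;> fin_cases j <;> simp [toB, Matrix.J, j0]
  · fin_cases i <;> fin_cases j <;> simp [toB, Matrix.J, Matrix.one_apply_ne h, Matrix.diagonal_apply_ne _ h]

theorem toB_J_transpose (A : Matrix (α ⊕ α) (α ⊕ α) F) :
    toB (Matrix.J α F * Aᵀ) = dag (toB A) * Matrix.diagonal (fun _ => j0) := by
  rw [map_mul, toB_J]
  refine Matrix.ext fun x y => ?_
  rw [Matrix.diagonal_mul, Matrix.mul_diagonal, dag_apply,
    show toB Aᵀ x y = (toB A y x)ᵀ by ext i j; fin_cases i <;> fin_cases j <;> rfl, j0_transpose]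

theorem mem_symplectic_iff {A : Matrix (α ⊕ α) (α ⊕ α) F} :
    A ∈ Matrix.symplecticGroup α F ↔ toB A * dag (toB A) = 1 := by
  rw [SymplecticGroup.mem_iff, ← toB.injective.eq_iff, mul_assoc, map_mul, toB_J_transpose, toB_J, ← mul_assoc]
  refine ⟨fun h => ?_, fun h => by rw [h, one_mul]⟩
  have hu : IsUnit (Matrix.diagonal (fun _ : α => (j0 : M2))) := by
    refine ⟨⟨Matrix.diagonal fun _ => j0, Matrix.diagonal fun _ => -j0, ?_, ?_⟩, rfl⟩ <;>
    · show Matrix.diagonal _ * Matrix.diagonal _ = 1
      rw [Matrix.diagonal_mul_diagonal, ← Matrix.diagonal_one]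
      congr 1; funext _
      ext i j
      fin_cases i <;> fin_cases j <;> simp [j0, Matrix.mul_apply, Fin.sum_univ_two]
  exact hu.mul_right_cancel (by rw [h, one_mul])

/-- `Sp(2n, F)` is the unitary group. -/
noncomputable def spEquiv : Matrix.symplecticGroup α F ≃* USp α F :=
  MulEquiv.ofBijective
    ({ toFun := fun A => ⟨⟨toB (A : Matrix (α ⊕ α) (α ⊕ α) F), toB ((A⁻¹ : Matrix.symplecticGroup α F) : Matrix _ _ F),
          by rw [← map_mul, ← Submonoid.coe_mul, mul_inv_cancel]; exact map_one _,
          by rw [← map_mul, ← Submonoid.coe_mul, inv_mul_cancel]; exact map_one _⟩, mem_symplectic_iff.1 A.2⟩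
       map_one' := mat_inj (map_one toB)
       map_mul' := fun A B => mat_inj (map_mul toB _ _) } : Matrix.symplecticGroup α F →* USp α F)
    ⟨fun A B h => Subtype.ext (toB.injective (congrArg mat h)), fun g =>
      ⟨⟨toB.symm (mat g), mem_symplectic_iff.2 (by rw [toB.apply_symm_apply]; exact g.2)⟩,
        mat_inj (toB.apply_symm_apply _)⟩⟩

theorem mat_spEquiv (A : Matrix.symplecticGroup α F) :
    mat (spEquiv A) = toB (A : Matrix (α ⊕ α) (α ⊕ α) F) := rfl

/-! ### Monomial elements -/

/-- The monomial block matrix. -/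
def mbk (p : α → M2) (σ : Perm α) : BM α F := Matrix.of fun x y => if σ⁻¹ x = y then p x else 0

theorem mbk_apply (p : α → M2) (σ : Perm α) (x y : α) : mbk p σ x y = if σ⁻¹ x = y then p x else 0 := rfl

theorem mbk_mul (p q : α → M2) (σ τ : Perm α) :
    mbk p σ * mbk q τ = mbk (fun x => p x * q (σ⁻¹ x)) (σ * τ) := by
  refine Matrix.ext fun x y => ?_
  rw [Matrix.mul_apply, Finset.sum_eq_single (σ⁻¹ x)]
  · simp only [mbk, Matrix.of_apply, if_true, _root_.mul_inv_rev, Perm.mul_apply, mul_ite, mul_zero]
  · intro z _ hz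
    show (if σ⁻¹ x = z then p x else 0) * _ = 0
    rw [if_neg (Ne.symm hz), zero_mul]
  · simp

theorem mbk_one_one : mbk (fun _ => (1 : M2)) (1 : Perm α) = 1 := by
  refine Matrix.ext fun x y => ?_
  rw [mbk_apply, inv_one, Perm.one_apply, Matrix.one_apply]

theorem dag_mbk (p : α → M2) (σ : Perm α) :
    dag (mbk p σ) = mbk (fun y => adjugate (p (σ y))) σ⁻¹ := by
  refine Matrix.ext fun x y => ?_
  simp only [dag_apply, mbk_apply, inv_inv]
  by_cases h : σ⁻¹ y = x
  · subst h; simp
  · rw [if_neg h, if_neg (fun e => h (by rw [← e]; simp)), adjugate_zero]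

theorem sl_mul_adj (a : SpecialLinearGroup (Fin 2) F) : (a : M2) * adjugate (a : M2) = 1 := by
  rw [mul_adj, a.2, one_smul]

theorem sl_adj_mul (a : SpecialLinearGroup (Fin 2) F) : adjugate (a : M2) * (a : M2) = 1 := by
  rw [adj_mul, a.2, one_smul]

/-- Monomial elements. -/
def mon : Mon (SpecialLinearGroup (Fin 2) F) α →* USp α F where
  toFun w := mk (mbk (fun x => (w.left x : M2)) w.right)
    (by
      rw [dag_mbk, mbk_mul, mul_inv_cancel]
      exact (congrArg (fun p => mbk p 1) (funext fun x => by simp [sl_mul_adj])).trans mbk_one_one)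
    (by
      rw [dag_mbk, mbk_mul, inv_mul_cancel]
      exact (congrArg (fun p => mbk p 1) (funext fun x => by simp [sl_adj_mul])).trans mbk_one_one)
  map_one' := mat_inj (by simp only [mat_mk, mat_one]; exact mbk_one_one)
  map_mul' a b := mat_inj (by
    rw [mat_mul, mat_mk, mat_mk, mat_mk, mbk_mul]
    simp [mul_left_apply])

theorem mat_mon (w : Mon (SpecialLinearGroup (Fin 2) F) α) :
    mat (mon w) = mbk (fun x => (w.left x : M2)) w.right := rfl

theorem mat_mon_apply (w : Mon (SpecialLinearGroup (Fin 2) F) α) (x y : α) :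
    mat (mon w) x y = if w.right⁻¹ x = y then (w.left x : M2) else 0 := rfl

theorem sl_ne_zero (a : SpecialLinearGroup (Fin 2) F) : (a : M2) ≠ 0 := fun h => by
  have := a.2
  rw [h, det_zero] at this
  exact zero_ne_one this

theorem mon_injective : Function.Injective (mon (F := F) (α := α)) := by
  intro v w h
  have h' := congrArg mat h
  rw [mat_mon, mat_mon] at h'
  have hr : v.right = w.right := inv_injective (Equiv.ext fun x => by
    have e := congrFun (congrFun h' x) (v.right⁻¹ x)
    rw [mbk_apply, mbk_apply, if_pos rfl] at e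
    by_contra hne
    rw [if_neg (Ne.symm hne)] at e
    exact sl_ne_zero _ e)
  refine SemidirectProduct.ext (funext fun x => Subtype.ext ?_) hr
  have e := congrFun (congrFun h' x) (v.right⁻¹ x)
  rwa [mbk_apply, mbk_apply, if_pos rfl, if_pos (by rw [hr])] at e

/-- The element acting as `q` on block `x`. -/
def sgl (x : α) : SpecialLinearGroup (Fin 2) F →* USp α F :=
  mon.comp (SemidirectProduct.inl.comp (MonoidHom.mulSingle (fun _ : α => SpecialLinearGroup (Fin 2) F) x))

theorem mat_sgl (x : α) (q : SpecialLinearGroup (Fin 2) F) :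
    mat (sgl x q) = 1 + Matrix.single x x ((q : M2) - 1) := by
  show mbk _ (1 : Perm α) = _
  refine Matrix.ext fun a b => ?_
  rw [mbk_apply, Matrix.add_apply, inv_one, Perm.one_apply]
  rcases eq_or_ne a b with rfl | hab
  · rw [if_pos rfl, Matrix.one_apply_eq]
    rcases eq_or_ne a x with rfl | hax
    · simp
    · simp [hax.symm, Pi.mulSingle_eq_of_ne hax]
  · rw [if_neg hab, Matrix.one_apply_ne hab, zero_add]
    exact (Matrix.single_apply_of_ne _ _ _ _ _ fun h => hab (h.1.symm.trans h.2)).symm

theorem sgl_injective (x : α) : Function.Injective (sgl (F := F) x) := fun a b h => by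
  have := congrArg (fun w : Mon (SpecialLinearGroup (Fin 2) F) α => w.left x) (mon_injective h)
  simpa using this

theorem mon_conj_sgl (w : Mon (SpecialLinearGroup (Fin 2) F) α) (x : α) (q : SpecialLinearGroup (Fin 2) F) :
    mon w * sgl x q * (mon w)⁻¹ = sgl (w.right x) (w.left (w.right x) * q * (w.left (w.right x))⁻¹) := by
  rw [mul_inv_eq_iff_eq_mul]
  show mon w * mon _ = mon _ * mon w
  rw [← map_mul, ← map_mul]
  congr 1
  refine SemidirectProduct.ext (funext fun y => ?_) (by simp)
  rw [mul_left_apply, mul_left_apply]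
  show w.left y * Pi.mulSingle (M := fun _ : α => SpecialLinearGroup (Fin 2) F) x q (w.right⁻¹ y) =
    Pi.mulSingle (M := fun _ : α => SpecialLinearGroup (Fin 2) F) (w.right x) _ y * w.left ((1 : Perm α)⁻¹ y)
  rw [inv_one, Perm.one_apply]
  rcases eq_or_ne y (w.right x) with rfl | hy
  · simp [mul_assoc]
  · rw [Pi.mulSingle_eq_of_ne hy, Pi.mulSingle_eq_of_ne fun e => hy (by rw [← e]; simp), mul_one, one_mul]

end CfsgLib.PronormalPSp
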