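import Mathlib
import Cfsg.Agent.Lib.PronormalPSL.Klein
import Cfsg.Agent.Lib.SL2Tori.Basic
import Cfsg.Agent.Lib.SpecLin.SLTwoClassSize

/-!
Quaternion pairs in Sylow 2-subgroups of `SL₂(q)`, `q` odd, and the normaliser of such a subgroup.
-/

set_option autoImplicit false
set_option linter.unusedSectionVars false

namespace CfsgLib.PronormalPSp

open Matrix

variable {F : Type*} [Field F]

local notation "M2" => Matrix (Fin 2) (Fin 2) F
local notation "SL2" => Matrix.SpecialLinearGroup (Fin 2) F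

/-- A quaternion pair. -/
structure QPair (F : Type*) [Field F] where
  i : Matrix.SpecialLinearGroup (Fin 2) F
  j : Matrix.SpecialLinearGroup (Fin 2) F
  hi : (i : Matrix (Fin 2) (Fin 2) F) * i = -1
  hj : (j : Matrix (Fin 2) (Fin 2) F) * j = -1
  hij : (i : Matrix (Fin 2) (Fin 2) F) * j = -((j : Matrix (Fin 2) (Fin 2) F) * i)

theorem sl_val_mul (a b : SL2) : ((a * b : SL2) : M2) = (a : M2) * (b : M2) := rfl

theorem sl_ext {a b : SL2} (h : (a : M2) = (b : M2)) : a = b := Subtype.ext h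

namespace QPair

variable (P : QPair F)

/-- The central involution. -/
def z : SL2 := P.i * P.i

theorem z_val : (P.z : M2) = -1 := P.hi

theorem z_eq_j : P.z = P.j * P.j := sl_ext (P.hi.trans P.hj.symm)

theorem z_comm (x : SL2) : P.z * x = x * P.z :=
  sl_ext (by rw [sl_val_mul, sl_val_mul, P.z_val, neg_mul, one_mul, mul_neg, mul_one])

theorem z_sq : P.z * P.z = 1 := sl_ext (by rw [sl_val_mul, P.z_val, neg_mul_neg, one_mul]; rfl)

theorem i_ne_scalar (h2 : (2 : F) ≠ 0) (c : F) : (P.i : M2) ≠ c • 1 := by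
  intro hc
  have h := P.hij
  rw [hc, smul_mul_assoc, one_mul, mul_smul_comm, mul_one, eq_neg_iff_add_eq_zero, ← two_smul F, smul_smul,
    smul_eq_zero] at h
  rcases h with h | h
  · rcases mul_eq_zero.1 h with h | h
    · exact h2 h
    · have := P.hi
      rw [hc, h, zero_smul, zero_mul] at this
      exact one_ne_zero (neg_eq_zero.1 this.symm)
  · have := P.hj
    rw [h, zero_mul] at this
    exact one_ne_zero (neg_eq_zero.1 this.symm)

/-- Commuting with the pair means being scalar. -/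
theorem scalar_of_comm (h2 : (2 : F) ≠ 0) {M : M2} (hi : (P.i : M2) * M = M * P.i)
    (hj : (P.j : M2) * M = M * P.j) : ∃ c : F, M = c • 1 := by
  obtain ⟨a, b, rfl⟩ := PronormalPSL.commutant_two (P.i_ne_scalar h2) hi
  refine ⟨a, ?_⟩
  have h := hj
  rw [mul_add, add_mul, mul_smul_comm, mul_one, smul_mul_assoc, one_mul, mul_smul_comm, smul_mul_assoc,
    add_left_cancel_iff, P.hij, smul_neg, eq_neg_iff_add_eq_zero, ← two_smul F, smul_smul, smul_eq_zero] at h
  rcases h with h | h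
  · rw [(mul_eq_zero.1 h).resolve_left h2, zero_smul, add_zero]
  · exfalso
    have e : (P.i : M2) * P.j = 0 := by rw [P.hij, h, neg_zero]
    rw [← sl_val_mul] at e
    have := (P.i * P.j).2
    rw [e, det_zero] at this
    exact zero_ne_one this

/-- The pair has no invariant line. -/
theorem irreducible (h2 : (2 : F) ≠ 0) (W : Submodule F (Fin 2 → F)) {w : Fin 2 → F} (hw : w ∈ W) (hw0 : w ≠ 0)
    (hi : ∀ v ∈ W, (P.i : M2) *ᵥ v ∈ W) (hj : ∀ v ∈ W, (P.j : M2) *ᵥ v ∈ W) : W = ⊤ := by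
  have hI : GeneralLinearGroup.det (Matrix.SpecialLinearGroup.toGL P.i) = 1 := Units.ext P.i.2
  have hJ : GeneralLinearGroup.det (Matrix.SpecialLinearGroup.toGL P.j) = 1 := Units.ext P.j.2
  by_contra hne
  have hfin : Module.finrank F W = 1 := by
    have h1 := Submodule.finrank_le W
    rw [Module.finrank_fin_fun] at h1
    have h2' : Module.finrank F W ≠ 2 := fun h => hne (Submodule.eq_top_of_finrank_eq (by
      rw [h, Module.finrank_fin_fun]))
    have h0 : Module.finrank F W ≠ 0 := fun h => hw0 (by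
      rw [Submodule.finrank_eq_zero] at h; rw [h, Submodule.mem_bot] at hw; exact hw)
    omega
  have hev : ∀ M : M2, (∀ v ∈ W, M *ᵥ v ∈ W) → ∃ c : F, M *ᵥ w = c • w := fun M hM => by
    obtain ⟨c, hc⟩ := (finrank_eq_one_iff_of_nonzero' (⟨w, hw⟩ : W) (by simpa [Subtype.ext_iff] using hw0)).1
      hfin ⟨M *ᵥ w, hM w hw⟩
    exact ⟨c, (congrArg Subtype.val hc).symm⟩
  obtain ⟨a, ha⟩ := hev _ hi
  obtain ⟨b, hb⟩ := hev _ hj
  have h := congrArg (fun M : M2 => M *ᵥ w) P.hij
  simp only [neg_mulVec, ← mulVec_mulVec, hb, mulVec_smul, ha, smul_smul] at h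
  rw [eq_neg_iff_add_eq_zero, ← add_smul, smul_eq_zero, mul_comm b a, ← two_mul, mul_eq_zero] at h
  have hsq : a * a = -1 := by
    have h := congrArg (fun M : M2 => M *ᵥ w) P.hi
    simp only [← mulVec_mulVec, ha, mulVec_smul, smul_smul, neg_mulVec, one_mulVec] at h
    rw [eq_neg_iff_add_eq_zero] at h
    have : (a * a + 1) • w = 0 := by rw [add_smul, one_smul]; exact h
    exact eq_neg_of_add_eq_zero_left ((smul_eq_zero.1 this).resolve_right hw0)
  have hsq' : b * b = -1 := by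
    have h := congrArg (fun M : M2 => M *ᵥ w) P.hj
    simp only [← mulVec_mulVec, hb, mulVec_smul, smul_smul, neg_mulVec, one_mulVec] at h
    rw [eq_neg_iff_add_eq_zero] at h
    have : (b * b + 1) • w = 0 := by rw [add_smul, one_smul]; exact h
    exact eq_neg_of_add_eq_zero_left ((smul_eq_zero.1 this).resolve_right hw0)
  rcases h.resolve_right hw0 with h | h
  · exact h2 h
  · rcases mul_eq_zero.1 h with h | h
    · rw [h, mul_zero] at hsq; exact one_ne_zero (neg_eq_zero.1 hsq.symm)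
    · rw [h, mul_zero] at hsq'; exact one_ne_zero (neg_eq_zero.1 hsq'.symm)

end QPair

variable [Fintype F]

/-- A Sylow 2-subgroup of `SL₂(q)` contains a quaternion pair. -/
theorem exists_qpair (hq : Odd (Fintype.card F)) (Q : Sylow 2 SL2) :
    ∃ P : QPair F, P.i ∈ (Q : Subgroup SL2) ∧ P.j ∈ (Q : Subgroup SL2) := by
  have : Fact (Nat.Prime 2) := ⟨Nat.prime_two⟩
  obtain ⟨I, J, hIK, hJK, hI, hJ, hIJ⟩ := PronormalPSL.exists_quaternion_pair (PronormalPSL.two_ne_zero_of_odd_card hq)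
  obtain ⟨a, rfl⟩ := PronormalPSL.mem_range_slGL_iff.2 hIK
  obtain ⟨b, rfl⟩ := PronormalPSL.mem_range_slGL_iff.2 hJK
  obtain ⟨R, hR⟩ := ((PronormalPSL.isPGroup_pair hI hJ hIJ).comap_of_injective _
    PronormalPSL.slGL_injective).exists_le_sylow
  obtain ⟨g, hg⟩ := MulAction.exists_smul_eq SL2 R Q
  have hmem : ∀ x : SL2, PronormalPSL.slGL 2 F x ∈ Subgroup.zpowers (PronormalPSL.slGL 2 F a) ⊔
      Subgroup.zpowers (PronormalPSL.slGL 2 F b) → g * x * g⁻¹ ∈ (Q : Subgroup SL2) := fun x hx => by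
    rw [← hg, Sylow.coe_subgroup_smul]
    exact ⟨x, hR hx, rfl⟩
  have e : ∀ u v : SL2, ((g * u * g⁻¹ : SL2) : M2) * ((g * v * g⁻¹ : SL2) : M2) =
      (g : M2) * ((u : M2) * v) * ((g⁻¹ : SL2) : M2) := fun u v => by
    show ((g * u * g⁻¹ * (g * v * g⁻¹) : SL2) : M2) = ((g * (u * v) * g⁻¹ : SL2) : M2)
    rw [show g * u * g⁻¹ * (g * v * g⁻¹) = g * (u * v) * g⁻¹ by simp [mul_assoc]]
  have hg1 : (g : M2) * ((g⁻¹ : SL2) : M2) = 1 := by rw [← sl_val_mul, mul_inv_cancel]; rfl
  replace hI : (a : M2) * a = -1 := hI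
  replace hJ : (b : M2) * b = -1 := hJ
  replace hIJ : (a : M2) * b = -((b : M2) * a) := hIJ
  refine ⟨⟨g * a * g⁻¹, g * b * g⁻¹, ?_, ?_, ?_⟩, hmem a (Subgroup.mem_sup_left (Subgroup.mem_zpowers _)),
    hmem b (Subgroup.mem_sup_right (Subgroup.mem_zpowers _))⟩
  · rw [e, hI, mul_neg, mul_one, neg_mul, hg1]
  · rw [e, hJ, mul_neg, mul_one, neg_mul, hg1]
  · rw [e, e, hIJ, mul_neg, neg_mul]

theorem sq_eq_one (hq : Odd (Fintype.card F)) {x : SL2} (h : x * x = 1) :
    x = 1 ∨ (x : M2) = -1 := by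
  rcases SL2Tori.sq_eq_one_cases (PronormalPSL.two_ne_zero_of_odd_card hq) (by rw [pow_two]; exact h) with h | h
  · exact Or.inl (sl_ext (by simpa using h))
  · exact Or.inr h

theorem eight_le_card_sylow (hq : Odd (Fintype.card F)) (Q : Sylow 2 SL2) :
    8 ≤ Nat.card (Q : Subgroup SL2) := by
  have : Fact (Nat.Prime 2) := ⟨Nat.prime_two⟩
  have h : 2 ^ 3 ∣ Nat.card SL2 := by
    rw [CfsgLib.SpecLin.SLTwo.card_sl_two]
    have h1 := PronormalPSL.eight_dvd_sq_sub_one hq
    have h2 : Fintype.card F ^ 2 - 1 = (Fintype.card F - 1) * (Fintype.card F + 1) := PronormalPSL.sq_sub_one_eq _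
    rw [h2]
    exact Dvd.dvd.mul_left h1 _
  exact Nat.le_of_dvd Nat.card_pos (Q.pow_dvd_card_of_pow_dvd_card h)

/-- Elements normalising a Sylow 2-subgroup and 2-elements. -/
theorem mem_of_normalizes_two {G : Type*} [Group G] [Finite G] (Q : Sylow 2 G) {x : G}
    (hx : x ∈ Subgroup.normalizer ((Q : Subgroup G) : Set G)) {a : ℕ} (h : x ^ 2 ^ a ∈ (Q : Subgroup G)) :
    x ∈ (Q : Subgroup G) := by
  have : Fact (Nat.Prime 2) := ⟨Nat.prime_two⟩
  have hz : IsPGroup 2 (Subgroup.zpowers x) := by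
    obtain ⟨b, hb⟩ := Q.isPGroup' ⟨_, h⟩
    have hb' : (x ^ 2 ^ a) ^ 2 ^ b = 1 := congrArg Subtype.val hb
    rintro ⟨y, hy⟩
    obtain ⟨k, rfl⟩ := hy
    exact ⟨a + b, Subtype.ext (by
      show (x ^ k) ^ 2 ^ (a + b) = 1
      rw [← zpow_natCast (x ^ k), ← _root_.zpow_mul, mul_comm, _root_.zpow_mul, zpow_natCast, pow_add, pow_mul, hb',
        _root_.one_zpow])⟩
  have hsup : IsPGroup 2 (Subgroup.zpowers x ⊔ (Q : Subgroup G) : Subgroup G) :=
    hz.to_sup_of_normal_right' Q.isPGroup' (Subgroup.zpowers_le.2 hx)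
  rw [← Q.is_maximal' hsup le_sup_right]
  exact Subgroup.mem_sup_left (Subgroup.mem_zpowers x)

/-- A large Sylow 2-subgroup of `SL₂(q)` is its own normaliser. -/
theorem normalizer_eq_of_ne_eight (hq : Odd (Fintype.card F)) (Q : Sylow 2 SL2)
    (h8 : Nat.card (Q : Subgroup SL2) ≠ 8) {x : SL2}
    (hx : x ∈ Subgroup.normalizer ((Q : Subgroup SL2) : Set SL2)) : x ∈ (Q : Subgroup SL2) := by
  have : Fact (Nat.Prime 2) := ⟨Nat.prime_two⟩
  obtain ⟨P, hPi, hPj⟩ := exists_qpair hq Q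
  have h16 : 16 ∣ Nat.card SL2 := by
    have h1 := eight_le_card_sylow hq Q
    obtain ⟨n, hn⟩ := IsPGroup.iff_card.1 Q.isPGroup'
    rw [hn] at h1 h8
    have : 4 ≤ n := by
      by_contra hlt
      have : n ≤ 3 := by omega
      interval_cases n <;> omega
    exact (dvd_trans (pow_dvd_pow 2 this) (hn ▸ Subgroup.card_subgroup_dvd_card _))
  let π := QuotientGroup.mk' (Subgroup.center SL2)
  let R : Sylow 2 (Matrix.ProjectiveSpecialLinearGroup (Fin 2) F) := Q.mapSurjective (QuotientGroup.mk'_surjective _)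
  have h8P : 8 ∣ Nat.card (Matrix.ProjectiveSpecialLinearGroup (Fin 2) F) := by
    have h := CfsgLib.PSL2.card_psl (F := F)
    rw [CfsgLib.PSL2.gcd_eq_two hq] at h
    rw [CfsgLib.SpecLin.SLTwo.card_sl_two, PronormalPSL.sq_sub_one_eq] at h16
    obtain ⟨t, ht⟩ := h16
    have e : 2 * Nat.card (Matrix.ProjectiveSpecialLinearGroup (Fin 2) F) = 2 * (8 * t) := by
      rw [h]
      calc _ = Fintype.card F * ((Fintype.card F - 1) * (Fintype.card F + 1)) := by ring
        _ = _ := by rw [ht]; ring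
    exact ⟨t, Nat.eq_of_mul_eq_mul_left two_pos e⟩
  have hπ : π x ∈ (R : Subgroup (Matrix.ProjectiveSpecialLinearGroup (Fin 2) F)) := by
    refine PronormalPSL.normalizer_le_of_eight hq h8P R (PronormalPSL.mem_normalizer_of_conj ?_)
    rintro _ ⟨y, hy, rfl⟩
    exact ⟨x * y * x⁻¹, (Subgroup.mem_normalizer_iff.1 hx y).1 hy, by simp [π]⟩
  obtain ⟨y, hy, hyx⟩ := hπ
  obtain ⟨c, hc⟩ : ∃ c, c ∈ Subgroup.center SL2 ∧ y * c = x :=
    ⟨y⁻¹ * x, QuotientGroup.eq.1 hyx, mul_inv_cancel_left _ _⟩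
  rw [← hc.2]
  refine mul_mem hy ?_
  obtain ⟨r, hr2, hr⟩ := PronormalPSL.scalar_eq_of_mem_center hc.1
  rcases sq_eq_one hq (x := c) (sl_ext (by
    rw [sl_val_mul, hr, smul_mul_smul_comm, one_mul, ← pow_two, hr2, one_smul]; rfl)) with h | h
  · rw [h]; exact one_mem _
  · rw [show c = P.z from sl_ext (h.trans P.z_val.symm)]
    exact mul_mem hPi hPi

namespace QPair

variable (P : QPair F) (hq : Odd (Fintype.card F))
include hq

/-- `ω = (-1 + i + j + ij) / 2`. -/
theorem exists_omega : ∃ w : SL2, (w : M2) = (2⁻¹ : F) • (-1 + (P.i : M2) + P.j + (P.i : M2) * P.j) ∧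
    w * w * w = 1 ∧ w * P.i * w⁻¹ = P.i * P.j ∧ w * P.j * w⁻¹ = P.i := by
  have h2 := PronormalPSL.two_ne_zero_of_odd_card hq
  set I := (P.i : M2)
  set J := (P.j : M2)
  set S : M2 := -1 + I + J + I * J with hS
  have hII : I * I = -1 := P.hi
  have hJJ : J * J = -1 := P.hj
  have hJI : J * I = -(I * J) := by rw [show I * J = -(J * I) from P.hij, neg_neg]
  have k1 : I * (I * J) = -J := by rw [← mul_assoc, hII, neg_mul, one_mul]
  have k2 : J * (I * J) = I := by rw [← mul_assoc, hJI, neg_mul, mul_assoc, hJJ, mul_neg, mul_one, neg_neg]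
  have k3 : I * J * I = J := by rw [mul_assoc, hJI, mul_neg, k1, neg_neg]
  have k4 : I * J * J = -I := by rw [mul_assoc, hJJ, mul_neg, mul_one]
  have k5 : I * J * (I * J) = -1 := by rw [← mul_assoc, k3, hJJ]
  have hSS : S * S = (2 : F) • (-1 - I - J - I * J) := by
    simp only [hS, add_mul, mul_add, neg_mul, mul_neg, one_mul, mul_one, hII, hJJ, hJI, k1, k2, k3, k4, k5,
      neg_neg, smul_sub, smul_neg, two_smul]
    abel
  have hS3 : S * S * S = (8 : F) • (1 : M2) := by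
    rw [hSS, smul_mul_assoc, show (8 : F) = 2 * 4 by norm_num, mul_smul]
    congr 1
    simp only [hS, sub_mul, mul_add, neg_mul, mul_neg, one_mul, mul_one, hII, hJJ, hJI, k1, k2, k3, k4, k5,
      neg_neg]
    rw [show (4 : F) = 1 + 1 + 1 + 1 by norm_num, add_smul, add_smul, add_smul, one_smul]
    abel
  have hdet : ((2⁻¹ : F) • S).det = 1 := by
    have h3 : (((2⁻¹ : F) • S) * ((2⁻¹ : F) • S) * ((2⁻¹ : F) • S)) = 1 := by
      simp only [smul_mul_assoc, mul_smul_comm, smul_smul, hS3]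
      rw [show (2⁻¹ : F) * (2⁻¹ * 2⁻¹ * 8) = 1 by field_simp; norm_num, one_smul]
    have hadj : adjugate ((2⁻¹ : F) • S) = (2⁻¹ : F) • (-1 - I - J - I * J) := by
      have ha : ∀ x : SL2, (x : M2) * x = -1 → adjugate (x : M2) = -(x : M2) := fun x hx => by
        have e : (x : M2) * adjugate (x : M2) = 1 := by rw [mul_adjugate, x.2, one_smul]
        calc adjugate (x : M2) = -((x : M2) * x) * adjugate (x : M2) := by rw [hx, neg_neg, one_mul]
          _ = -(x : M2) := by rw [neg_mul, mul_assoc, e, mul_one]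
      have haI := ha P.i P.hi
      have haJ := ha P.j P.hj
      rw [adjugate_smul, Fintype.card_fin, pow_one]
      congr 1
      have hadd : ∀ a b : M2, adjugate (a + b) = adjugate a + adjugate b := fun a b => by
        rw [adjugate_fin_two, adjugate_fin_two, adjugate_fin_two]
        ext r s
        fin_cases r <;> fin_cases s <;> simp [add_comm]
      have hneg : adjugate (-1 : M2) = -1 := by
        rw [adjugate_fin_two]; ext r s; fin_cases r <;> fin_cases s <;> simp
      rw [hS, hadd, hadd, hadd, hneg, adjugate_mul_distrib, haI, haJ, neg_mul_neg, hJI]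
      abel
    have h := Matrix.mul_adjugate ((2⁻¹ : F) • S)
    rw [hadj] at h
    have e : ((2⁻¹ : F) • S) * ((2⁻¹ : F) • (-1 - I - J - I * J)) = 1 := by
      refine Eq.trans ?_ h3
      rw [mul_assoc]
      congr 1
      rw [smul_mul_smul_comm, hSS, smul_smul, show (2⁻¹ : F) * 2⁻¹ * 2 = 2⁻¹ by field_simp]
    rw [e] at h
    have := congrFun (congrFun h 0) 0
    simpa using this.symm
  refine ⟨⟨_, hdet⟩, rfl, ?_, ?_, ?_⟩
  · refine sl_ext ?_
    show ((2⁻¹ : F) • S) * ((2⁻¹ : F) • S) * ((2⁻¹ : F) • S) = 1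
    simp only [smul_mul_assoc, mul_smul_comm, smul_smul, hS3]
    rw [show (2⁻¹ : F) * (2⁻¹ * 2⁻¹ * 8) = 1 by field_simp; norm_num, one_smul]
  · apply mul_inv_eq_of_eq_mul
    refine sl_ext ?_
    show ((2⁻¹ : F) • S) * I = I * J * ((2⁻¹ : F) • S)
    rw [smul_mul_assoc, mul_smul_comm]
    congr 1
    simp only [hS, add_mul, mul_add, neg_mul, mul_neg, one_mul, mul_one, hII, hJJ, hJI, k2, k3, k4, k5]
    abel
  · apply mul_inv_eq_of_eq_mul
    refine sl_ext ?_
    show ((2⁻¹ : F) • S) * J = I * ((2⁻¹ : F) • S)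
    rw [smul_mul_assoc, mul_smul_comm]
    congr 1
    simp only [hS, add_mul, mul_add, neg_mul, mul_neg, one_mul, mul_one, hII, hJJ, k1, k3, k4, k5]
    abel

/-- The eight elements. -/
theorem mem_list (Q : Sylow 2 SL2) (hPi : P.i ∈ (Q : Subgroup SL2)) (hPj : P.j ∈ (Q : Subgroup SL2))
    (h8 : Nat.card (Q : Subgroup SL2) = 8) :
    Subgroup.closure {P.i, P.j} = (Q : Subgroup SL2) ∧
      ∀ x ∈ (Q : Subgroup SL2), x = 1 ∨ x = P.z ∨ x = P.i ∨ x = P.z * P.i ∨ x = P.j ∨ x = P.z * P.j ∨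
        x = P.i * P.j ∨ x = P.z * (P.i * P.j) := by
  have : Fact (Nat.Prime 2) := ⟨Nat.prime_two⟩
  have h2 := PronormalPSL.two_ne_zero_of_odd_card hq
  set C := Subgroup.closure {P.i, P.j} with hC
  have hCQ : C ≤ (Q : Subgroup SL2) := (Subgroup.closure_le _).2 (Set.insert_subset hPi (Set.singleton_subset_iff.2 hPj))
  have hnc : P.i * P.j ≠ P.j * P.i := fun e => by
    obtain ⟨c, hc⟩ := P.scalar_of_comm h2 (M := (P.j : M2)) (by rw [← sl_val_mul, e, sl_val_mul]) rfl
    have h := P.hij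
    rw [hc, mul_smul_comm, mul_one, smul_mul_assoc, one_mul, eq_neg_iff_add_eq_zero, ← two_smul F, smul_smul,
      smul_eq_zero] at h
    rcases h with h | h
    · rcases mul_eq_zero.1 h with h | h
      · exact h2 h
      · have := P.hj
        rw [hc, h, zero_smul, zero_mul] at this
        exact one_ne_zero (neg_eq_zero.1 this.symm)
    · exact P.i_ne_scalar h2 0 (by rw [h, zero_smul])
  have hCeq : C = (Q : Subgroup SL2) := by
    refine Subgroup.eq_of_le_of_card_ge hCQ ?_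
    rw [h8]
    obtain ⟨n, hn⟩ := IsPGroup.iff_card.1 (Q.isPGroup'.to_le hCQ)
    by_contra hlt
    have hn2 : n ≤ 2 := by
      by_contra hh
      have : 2 ^ 3 ≤ 2 ^ n := Nat.pow_le_pow_right two_pos (by omega)
      omega
    have hab : ∀ a b : C, a * b = b * a := by
      interval_cases n
      · intro a b
        have := Finite.card_le_one_iff_subsingleton.1 hn.le
        exact Subsingleton.elim _ _
      · have : IsCyclic C := isCyclic_of_prime_card (p := 2) (by rw [hn, pow_one])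
        exact fun a b => (IsCyclic.commGroup (α := C)).mul_comm a b
      · exact IsPGroup.commutative_of_card_eq_prime_sq (p := 2) hn
    exact hnc (congrArg Subtype.val (hab ⟨P.i, Subgroup.subset_closure (by simp)⟩
      ⟨P.j, Subgroup.subset_closure (by simp)⟩))
  refine ⟨hCeq, fun x hx => ?_⟩
  rw [← hCeq] at hx
  have zz := P.z_sq
  have ii : P.i * P.i = P.z := rfl
  have jj : P.j * P.j = P.z := P.z_eq_j.symm
  have ji : P.j * P.i = P.z * (P.i * P.j) := sl_ext (by
    rw [sl_val_mul, sl_val_mul, sl_val_mul, P.z_val, P.hij, neg_one_mul, neg_neg])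
  have iz : ∀ u : SL2, P.i * (P.z * u) = P.z * (P.i * u) := fun u => by rw [← mul_assoc, ← P.z_comm, mul_assoc]
  have jz : ∀ u : SL2, P.j * (P.z * u) = P.z * (P.j * u) := fun u => by rw [← mul_assoc, ← P.z_comm, mul_assoc]
  have iz1 : P.i * P.z = P.z * P.i := (P.z_comm _).symm
  have jz1 : P.j * P.z = P.z * P.j := (P.z_comm _).symm
  have zz' : ∀ u : SL2, P.z * (P.z * u) = u := fun u => by rw [← mul_assoc, zz, one_mul]
  have ii' : ∀ u : SL2, P.i * (P.i * u) = P.z * u := fun u => by rw [← mul_assoc, ii]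
  have jij : P.j * (P.i * P.j) = P.i := by rw [← mul_assoc, ji, mul_assoc, mul_assoc, jj, iz1, zz']
  have jfin : P.z * P.z = 1 := zz
  have hgen : ∀ g ∈ ({P.i, P.j} : Set SL2), ∀ y, (y = 1 ∨ y = P.z ∨ y = P.i ∨ y = P.z * P.i ∨ y = P.j ∨
      y = P.z * P.j ∨ y = P.i * P.j ∨ y = P.z * (P.i * P.j)) → (g * y = 1 ∨ g * y = P.z ∨ g * y = P.i ∨
      g * y = P.z * P.i ∨ g * y = P.j ∨ g * y = P.z * P.j ∨ g * y = P.i * P.j ∨ g * y = P.z * (P.i * P.j)) := by
    intro g hg y hy
    simp only [Set.mem_insert_iff, Set.mem_singleton_iff] at hg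
    rcases hg with rfl | rfl <;> rcases hy with rfl | rfl | rfl | rfl | rfl | rfl | rfl | rfl <;>
      simp only [mul_one, ii, jj, ji, iz, jz, iz1, jz1, zz, zz', ii', jij, true_or, or_true]
  induction hx using Subgroup.closure_induction_left with
  | one => exact Or.inl rfl
  | mul_left g hg y _ ih => exact hgen g hg y ih
  | inv_mul_cancel g hg y _ ih =>
    have hg3 : g⁻¹ = g * (g * g) := by
      simp only [Set.mem_insert_iff, Set.mem_singleton_iff] at hg
      refine inv_eq_of_mul_eq_one_right ?_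
      rcases hg with rfl | rfl
      · rw [ii', ii, zz]
      · rw [← mul_assoc, jj, zz]
    rw [hg3, mul_assoc, mul_assoc]
    exact hgen g hg _ (hgen g hg _ (hgen g hg _ ih))

/-- The normaliser of a Sylow 2-subgroup of order eight. -/
theorem normalizer_eight (Q : Sylow 2 SL2) (hPi : P.i ∈ (Q : Subgroup SL2)) (hPj : P.j ∈ (Q : Subgroup SL2))
    (h8 : Nat.card (Q : Subgroup SL2) = 8) :
    ∃ w : SL2, w * w * w = 1 ∧ w ∉ (Q : Subgroup SL2) ∧
      (w : M2) = (2⁻¹ : F) • (-1 + (P.i : M2) + P.j + (P.i : M2) * P.j) ∧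
      w ∈ Subgroup.normalizer ((Q : Subgroup SL2) : Set SL2) ∧
      ∀ x ∈ Subgroup.normalizer ((Q : Subgroup SL2) : Set SL2), ∃ t : ℕ, ∃ a ∈ (Q : Subgroup SL2), x = w ^ t * a := by
  have : Fact (Nat.Prime 2) := ⟨Nat.prime_two⟩
  have h2 := PronormalPSL.two_ne_zero_of_odd_card hq
  obtain ⟨hgen, hlist⟩ := P.mem_list hq Q hPi hPj h8
  obtain ⟨w, hw, hw3, hwi, hwj⟩ := P.exists_omega hq
  set N := Subgroup.normalizer ((Q : Subgroup SL2) : Set SL2)
  have hwk : w * (P.i * P.j) * w⁻¹ = P.j := by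
    rw [show w * (P.i * P.j) * w⁻¹ = (w * P.i * w⁻¹) * (w * P.j * w⁻¹) by group, hwi, hwj]
    refine sl_ext ?_
    rw [sl_val_mul, sl_val_mul, mul_assoc, show (P.j : M2) * P.i = -((P.i : M2) * P.j) by rw [P.hij, neg_neg],
      mul_neg, ← mul_assoc, P.hi, neg_one_mul, neg_neg]
  have hwN : w ∈ N := by
    refine PronormalPSL.mem_normalizer_of_conj fun s hs => ?_
    have hle : (Q : Subgroup SL2) ≤ (Q : Subgroup SL2).comap (MulAut.conj w).toMonoidHom := by
      conv_lhs => rw [← hgen]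
      rw [Subgroup.closure_le]
      simp only [Set.insert_subset_iff, Set.singleton_subset_iff]
      constructor
      · show w * P.i * w⁻¹ ∈ (Q : Subgroup SL2)
        rw [hwi]; exact mul_mem hPi hPj
      · show w * P.j * w⁻¹ ∈ (Q : Subgroup SL2)
        rw [hwj]; exact hPi
    exact hle hs
  have hwi1 : w ≠ 1 := fun e => by
    rw [e, one_mul, inv_one, mul_one] at hwj
    have h := P.hij
    rw [hwj, P.hi, neg_neg] at h
    have := congrFun (congrFun h 0) 0
    simp at this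
    exact h2 (by linear_combination -this)
  have hwQ : w ∉ (Q : Subgroup SL2) := fun h => by
    have h1 := pow_card_eq_one' (x := (⟨w, h⟩ : (Q : Subgroup SL2)))
    rw [h8] at h1
    have h' : w ^ 8 = 1 := congrArg Subtype.val h1
    apply hwi1
    have h3 : w ^ 3 = 1 := by rw [pow_three, ← mul_assoc]; exact hw3
    have h9 : (w ^ 3) ^ 3 = w ^ 8 * w := by rw [← pow_mul, ← pow_succ]
    rw [h3, one_pow, h', one_mul] at h9
    exact h9.symm
  refine ⟨w, hw3, hwQ, hw, hwN, fun x hx => ?_⟩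
  have hinv : ∀ g ∈ N, ∀ u ∈ (Q : Subgroup SL2), g * u * g⁻¹ ∈ (Q : Subgroup SL2) := fun g hg u hu =>
    (Subgroup.mem_normalizer_iff.1 hg u).1 hu
  have hconj : ∀ g h u : SL2, (g * h) * u * (g * h)⁻¹ = g * (h * u * h⁻¹) * g⁻¹ := fun g h u => by group
  have hzc : ∀ g : SL2, g * P.z * g⁻¹ = P.z := fun g => by rw [← P.z_comm, mul_inv_cancel_right]
  have six : ∀ g ∈ N, ∀ u ∈ (Q : Subgroup SL2), u * u = P.z → (g * u * g⁻¹ = P.i ∨ g * u * g⁻¹ = P.z * P.i ∨
      g * u * g⁻¹ = P.j ∨ g * u * g⁻¹ = P.z * P.j ∨ g * u * g⁻¹ = P.i * P.j ∨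
      g * u * g⁻¹ = P.z * (P.i * P.j)) := fun g hg u hu hsq => by
    have h := hlist _ (hinv g hg u hu)
    have hs : (g * u * g⁻¹) * (g * u * g⁻¹) = P.z := by
      rw [show (g * u * g⁻¹) * (g * u * g⁻¹) = g * (u * u) * g⁻¹ by group, hsq, hzc]
    have hz1 : P.z ≠ 1 := fun e => h2 (by
      have h := congrArg (fun u : SL2 => (u : M2) 0 0) e
      rw [show ((P.z : SL2) : M2) 0 0 = -1 from by rw [P.z_val]; simp] at h
      have h' : (-1 : F) = 1 := by simpa using h
      linear_combination -h')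
    rcases h with h | h | h | h | h | h | h | h
    · rw [h, one_mul] at hs; exact absurd hs.symm hz1
    · rw [h, P.z_sq] at hs; exact absurd hs.symm hz1
    all_goals simp only [h, true_or, or_true]
  have hpre : ∃ t : ℕ, w ^ t * x * P.i * (w ^ t * x)⁻¹ = P.i ∨ w ^ t * x * P.i * (w ^ t * x)⁻¹ = P.z * P.i := by
    have hz' : ∀ u : SL2, w * (P.z * u) * w⁻¹ = P.z * (w * u * w⁻¹) := fun u => by
      rw [← mul_assoc, ← P.z_comm]; group
    rcases six x hx P.i hPi rfl with h | h | h | h | h | h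
    · exact ⟨0, Or.inl (by rw [pow_zero, one_mul, h])⟩
    · exact ⟨0, Or.inr (by rw [pow_zero, one_mul, h])⟩
    · exact ⟨1, Or.inl (by rw [pow_one, hconj, h, hwj])⟩
    · exact ⟨1, Or.inr (by rw [pow_one, hconj, h, hz', hwj])⟩
    · exact ⟨2, Or.inl (by rw [pow_two, hconj, h, hconj, hwk, hwj])⟩
    · exact ⟨2, Or.inr (by rw [pow_two, hconj, h, hconj, hz', hwk, hz', hwj])⟩
  obtain ⟨t, ht⟩ := hpre
  set y := w ^ t * x
  have hy : y ∈ N := mul_mem (pow_mem hwN t) hx
  obtain ⟨a, ha, hai⟩ : ∃ a ∈ (Q : Subgroup SL2), (a * y) * P.i * (a * y)⁻¹ = P.i := by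
    rcases ht with h | h
    · exact ⟨1, one_mem _, by rw [one_mul, h]⟩
    · refine ⟨P.j, hPj, ?_⟩
      rw [hconj, h]
      apply mul_inv_eq_of_eq_mul
      refine sl_ext ?_
      rw [sl_val_mul, sl_val_mul, sl_val_mul, P.z_val, neg_one_mul, mul_neg, ← P.hij]
  set b := a * y
  have hb : b ∈ N := mul_mem (Subgroup.le_normalizer ha) hy
  have hbi : b ^ 2 * P.i * (b ^ 2)⁻¹ = P.i := by rw [pow_two, hconj, hai, hai]
  have hbj : b ^ 2 * P.j * (b ^ 2)⁻¹ = P.j ∨ b ^ 2 * P.j * (b ^ 2)⁻¹ = P.z * P.j := by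
    have hz' : ∀ u : SL2, b * (P.z * u) * b⁻¹ = P.z * (b * u * b⁻¹) := fun u => by
      rw [← mul_assoc, ← P.z_comm]; group
    have hk : b * (P.i * P.j) * b⁻¹ = P.i * (b * P.j * b⁻¹) := by
      rw [show b * (P.i * P.j) * b⁻¹ = (b * P.i * b⁻¹) * (b * P.j * b⁻¹) by group, hai]
    have hcanc : ∀ u : SL2, b * P.j * b⁻¹ ≠ u ∨ b * P.i * b⁻¹ ≠ u := fun u => by
      by_contra hh
      push Not at hh
      exact P.i_ne_scalar h2 0 (by
        have e : P.j = P.i := by
          have := hh.1.trans hh.2.symm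
          exact mul_left_cancel (mul_right_cancel this)
        have h := P.hij
        rw [e, P.hi, neg_neg] at h
        exfalso
        exact h2 (by have := congrFun (congrFun h 0) 0; simp at this; linear_combination -this))
    rw [pow_two, hconj]
    rcases six b hb P.j hPj P.z_eq_j.symm with h | h | h | h | h | h
    · exact absurd h ((hcanc P.i).resolve_right (not_not.2 hai))
    · exfalso
      have e : b * (P.z * P.j) * b⁻¹ = b * P.i * b⁻¹ := by
        rw [hz', h, hai, ← mul_assoc, P.z_sq, one_mul]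
      have e' : P.z * P.j = P.i := mul_left_cancel (mul_right_cancel e)
      have h1 := P.hij
      rw [← e', sl_val_mul, P.z_val] at h1
      simp only [neg_mul, one_mul, mul_neg, P.hj, neg_neg] at h1
      exact h2 (by have := congrFun (congrFun h1 0) 0; simp at this; linear_combination this)
    · exact Or.inl (by rw [h, h])
    · exact Or.inl (by rw [h, hz', h, ← mul_assoc, P.z_sq, one_mul])
    · exact Or.inr (by rw [h, hk, h, ← mul_assoc]; rfl)
    · refine Or.inr ?_
      rw [h, hz', hk, h, ← mul_assoc P.i P.z, ← P.z_comm P.i, mul_assoc P.z P.i, ← mul_assoc P.z P.z, P.z_sq,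
        one_mul, ← mul_assoc]
      rfl
  obtain ⟨c, hc, hci, hcj⟩ : ∃ c ∈ (Q : Subgroup SL2), (c * b ^ 2) * P.i * (c * b ^ 2)⁻¹ = P.i ∧
      (c * b ^ 2) * P.j * (c * b ^ 2)⁻¹ = P.j := by
    rcases hbj with h | h
    · exact ⟨1, one_mem _, by rw [one_mul, hbi], by rw [one_mul, h]⟩
    · refine ⟨P.i, hPi, by rw [hconj, hbi, mul_inv_cancel_right], ?_⟩
      rw [hconj, h]
      apply mul_inv_eq_of_eq_mul
      refine sl_ext ?_
      rw [sl_val_mul, sl_val_mul, sl_val_mul, P.z_val, neg_one_mul, mul_neg, P.hij, neg_neg]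
  set u := c * b ^ 2 with hu
  have hui : u * P.i = P.i * u := mul_inv_eq_iff_eq_mul.1 hci
  have huj : u * P.j = P.j * u := mul_inv_eq_iff_eq_mul.1 hcj
  obtain ⟨r, hr⟩ := P.scalar_of_comm h2 (M := (u : M2)) (by rw [← sl_val_mul, ← hui, sl_val_mul])
    (by rw [← sl_val_mul, ← huj, sl_val_mul])
  have huQ : u ∈ (Q : Subgroup SL2) := by
    have hd : r * r = 1 := by
      have := u.2
      rw [hr, det_smul, det_one, mul_one, Fintype.card_fin, pow_two] at this
      exact this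
    rcases mul_self_eq_one_iff.1 hd with rfl | rfl
    · rw [show u = 1 from sl_ext (by rw [hr, one_smul]; rfl)]; exact one_mem _
    · rw [show u = P.z from sl_ext (by rw [hr, P.z_val, neg_smul, one_smul])]; exact mul_mem hPi hPi
  have hb2 : b ^ 2 ∈ (Q : Subgroup SL2) := by
    have := mul_mem (inv_mem hc) huQ
    rwa [hu, inv_mul_cancel_left] at this
  have hbQ : b ∈ (Q : Subgroup SL2) := mem_of_normalizes_two Q hb (a := 1) (by rw [pow_one]; exact hb2)
  refine ⟨2 * t, w ^ t * x, ?_, ?_⟩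
  · have := mul_mem (inv_mem ha) hbQ
    simpa [b, y, mul_assoc] using this
  · have h3 : w ^ 3 = 1 := by rw [pow_three, ← mul_assoc]; exact hw3
    rw [← mul_assoc, ← pow_add, show 2 * t + t = 3 * t by ring, pow_mul, h3, one_pow, one_mul]

end QPair

end CfsgLib.PronormalPSp
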