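import Mathlib
import Cfsg.Agent.Lib.PronormalPSp.Model
import Cfsg.Agent.Lib.PronormalPSp.Quat

/-!
Conjugates of the one-block elements and the commutation criterion.
-/

set_option autoImplicit false
set_option linter.unusedSectionVars false

namespace CfsgLib.PronormalPSp

open Matrix Equiv CfsgLib.SympSylow

variable {F : Type*} [Field F] {α : Type*} [Fintype α] [DecidableEq α]

local notation "M2" => Matrix (Fin 2) (Fin 2) F
local notation "SL2" => Matrix.SpecialLinearGroup (Fin 2) F

theorem sum_det (g : USp α F) (y : α) : ∑ a, (mat g a y).det = 1 := by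
  have h := congrFun (congrFun (dag_mul_self g) y) y
  rw [Matrix.mul_apply, Matrix.one_apply_eq] at h
  simp only [dag_apply, adj_mul, ← Finset.sum_smul] at h
  simpa using congrFun (congrFun h 0) 0

theorem adj_col (g : USp α F) (y : α) : ∑ a, adjugate (mat g a y) * mat g a y = 1 := by
  simp only [adj_mul, ← Finset.sum_smul, sum_det g y, one_smul]

theorem single_mul_single_apply {β γ : Type*} (g : Matrix β α M2) (h : Matrix α γ M2) (y : α) (R : M2)
    (a : β) (b : γ) : (g * Matrix.single y y R * h) a b = g a y * R * h y b := by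
  rw [Matrix.mul_apply, Finset.sum_eq_single y]
  · rw [Matrix.mul_single_apply_same]
  · intro c _ hc
    rw [Matrix.mul_single_apply_of_ne _ _ _ _ _ hc, zero_mul]
  · simp

theorem mat_conj_sgl (g : USp α F) (y : α) (q : SL2) (a b : α) :
    mat (g * sgl y q * g⁻¹) a b = (1 : BM α F) a b + mat g a y * ((q : M2) - 1) * adjugate (mat g b y) := by
  rw [mat_mul, mat_mul, mat_inv, mat_sgl, mul_add, mul_one, add_mul, mul_dag, Matrix.add_apply,
    single_mul_single_apply, dag_apply]

theorem mat_sgl_apply (x : α) (q : SL2) (a b : α) :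
    mat (sgl x q) a b = (1 : BM α F) a b + if a = x ∧ b = x then (q : M2) - 1 else 0 := by
  rw [mat_sgl, Matrix.add_apply, Matrix.single]
  simp only [Matrix.of_apply]
  congr 1
  exact if_congr ⟨fun h => ⟨h.1.symm, h.2.symm⟩, fun h => ⟨h.1.symm, h.2.symm⟩⟩ rfl rfl

/-- If the column is supported at one block, the conjugate is a one-block element. -/
theorem conj_sgl_of_supported (g : USp α F) {x y : α} (h : ∀ a, a ≠ x → mat g a y = 0) :
    (mat g x y).det = 1 ∧ ∀ q, ∃ π : SL2, (π : M2) = mat g x y ∧ g * sgl y q * g⁻¹ = sgl x (π * q * π⁻¹) := by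
  have hd : (mat g x y).det = 1 := by
    rw [← sum_det g y, Finset.sum_eq_single x (fun a _ ha => by rw [h a ha, det_zero]) (by simp)]
  obtain ⟨π, hπ⟩ : ∃ π : SL2, (π : M2) = mat g x y := ⟨⟨mat g x y, hd⟩, rfl⟩
  refine ⟨hd, fun q => ⟨π, hπ, mat_inj (Matrix.ext fun a b => ?_)⟩⟩
  rw [mat_conj_sgl, mat_sgl_apply]
  congr 1
  by_cases hab : a = x ∧ b = x
  · rw [if_pos hab, hab.1, hab.2, Matrix.SpecialLinearGroup.coe_mul, Matrix.SpecialLinearGroup.coe_mul,
      Matrix.SpecialLinearGroup.coe_inv, hπ]
    rw [mul_sub, mul_one, sub_mul, mul_adj, hd, one_smul]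
  · rw [if_neg hab]
    rcases not_and_or.1 hab with h' | h'
    · rw [h a h', zero_mul, zero_mul]
    · rw [h b h', adjugate_zero, mul_zero]

theorem eq_zero_of_mul_two {h2 : (2 : F) ≠ 0} {M : M2} (h : M * ((-1 : M2) - 1) = 0) : M = 0 := by
  rw [show ((-1 : M2) - 1) = (-2 : F) • (1 : M2) by rw [neg_smul, two_smul]; abel, mul_smul_comm, mul_one,
    smul_eq_zero] at h
  exact h.resolve_left (neg_ne_zero.2 h2)

/-- The commutation criterion. -/
theorem commute_iff (h2 : (2 : F) ≠ 0) (P : QPair F) (g : USp α F) (x y : α) :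
    Commute (sgl x P.z) (g * sgl y P.z * g⁻¹) ↔ mat g x y = 0 ∨ ∀ a, a ≠ x → mat g a y = 0 := by
  constructor
  · intro h
    by_cases hx : mat g x y = 0
    · exact Or.inl hx
    refine Or.inr ?_
    have hoff : ∀ a, a ≠ x → mat g a y * adjugate (mat g x y) = 0 := fun a ha => by
      set u := g * sgl y P.z * g⁻¹ with hu
      have e := congrFun (congrFun (congrArg mat h.eq) a) x
      rw [mat_mul, mat_mul u, mat_sgl, add_mul, mul_add, one_mul, mul_one, Matrix.add_apply, Matrix.add_apply,
        Matrix.mul_single_apply_same, Matrix.single_mul_apply_of_ne _ _ _ _ _ ha, P.z_val, add_zero,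
        hu, mat_conj_sgl, Matrix.one_apply_ne ha, zero_add, P.z_val] at e
      have e' := eq_zero_of_mul_two (h2 := h2) (left_eq_add.1 e)
      rw [mul_assoc] at e'
      rw [show ((-1 : M2) - 1) = (-2 : F) • (1 : M2) by rw [neg_smul, two_smul]; abel, smul_mul_assoc,
        one_mul, mul_smul_comm, smul_eq_zero] at e'
      exact e'.resolve_left (neg_ne_zero.2 h2)
    have hsum : adjugate (mat g x y) = (mat g x y).det • adjugate (mat g x y) := by
      calc adjugate (mat g x y) = (∑ a, adjugate (mat g a y) * mat g a y) * adjugate (mat g x y) := by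
            rw [adj_col, one_mul]
        _ = adjugate (mat g x y) * mat g x y * adjugate (mat g x y) := by
            rw [Finset.sum_mul, Finset.sum_eq_single x]
            · intro a _ ha; rw [mul_assoc, hoff a ha, mul_zero]
            · simp
        _ = _ := by rw [adj_mul, smul_mul_assoc, one_mul]
    have hd : (mat g x y).det = 1 := by
      by_contra hd
      apply hx
      have : ((mat g x y).det - 1) • adjugate (mat g x y) = 0 := by rw [sub_smul, one_smul, ← hsum, sub_self]
      rw [smul_eq_zero] at this
      rw [← adj_adj (mat g x y), this.resolve_left (sub_ne_zero.2 hd), adjugate_zero]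
    intro a ha
    calc mat g a y = mat g a y * (adjugate (mat g x y) * mat g x y) := by rw [adj_mul, hd, one_smul, mul_one]
      _ = 0 := by rw [← mul_assoc, hoff a ha, zero_mul]
  · rintro (h | h)
    · refine mat_inj ?_
      have hu : mat (g * sgl y P.z * g⁻¹) = 1 + mat g * Matrix.single y y ((P.z : M2) - 1) * dag (mat g) := by
        rw [mat_mul, mat_mul, mat_inv, mat_sgl, mul_add, mul_one, add_mul, mul_dag]
      have h1 : Matrix.single x x ((P.z : M2) - 1) *
          (mat g * Matrix.single y y ((P.z : M2) - 1) * dag (mat g)) = 0 := by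
        refine Matrix.ext fun a b => ?_
        rcases eq_or_ne a x with rfl | ha
        · rw [Matrix.single_mul_apply_same, single_mul_single_apply, h, zero_mul, zero_mul, mul_zero]; rfl
        · rw [Matrix.single_mul_apply_of_ne _ _ _ _ _ ha]; rfl
      have h2' : (mat g * Matrix.single y y ((P.z : M2) - 1) * dag (mat g)) *
          Matrix.single x x ((P.z : M2) - 1) = 0 := by
        refine Matrix.ext fun a b => ?_
        rcases eq_or_ne b x with rfl | hb
        · rw [Matrix.mul_single_apply_same, single_mul_single_apply, dag_apply, h, adjugate_zero, mul_zero,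
            zero_mul]; rfl
        · rw [Matrix.mul_single_apply_of_ne _ _ _ _ _ hb]; rfl
      rw [mat_mul, mat_mul (g * sgl y P.z * g⁻¹), hu, mat_sgl, add_mul, mul_add, mul_add, one_mul, one_mul,
        mul_one, h1, add_zero, add_mul, mul_add, mul_add, one_mul, one_mul, mul_one, h2', add_zero]
      abel
    · obtain ⟨-, hq⟩ := conj_sgl_of_supported g h
      obtain ⟨π, -, e⟩ := hq P.z
      rw [e, show π * P.z * π⁻¹ = P.z by rw [← P.z_comm, mul_inv_cancel_right]]

end CfsgLib.PronormalPSp
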