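import Mathlib

/-!
Linear algebra in dimension four over an algebraically closed field: commuting families and commutators.
-/

set_option autoImplicit false
set_option linter.unusedSectionVars false

namespace CfsgLib.PronormalPSp

open Module

variable {K V : Type*} [Field K] [AddCommGroup V] [Module K V] [FiniteDimensional K V]

/-- An endomorphism of order prime to the characteristic with no eigenvalue but one is the identity. -/
theorem exists_eigenvalue_ne_one [IsAlgClosed K] (p : ℕ) [Fact p.Prime] [CharP K p] (c : End K V) {n : ℕ}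
    (hn : c ^ n = 1) (hcop : n.Coprime p) (hc : c ≠ 1) : ∃ l : K, l ≠ 1 ∧ c.HasEigenvalue l := by
  have : ExpChar K p := ExpChar.prime Fact.out
  rcases subsingleton_or_nontrivial (End K V) with hs | hs
  · exact absurd (Subsingleton.elim c 1) hc
  by_contra hno
  push Not at hno
  apply hc
  have hall : c.maxGenEigenspace 1 = ⊤ := by
    rw [eq_top_iff, ← c.iSup_maxGenEigenspace_eq_top]
    refine iSup_le fun l => ?_
    rcases eq_or_ne l 1 with rfl | hl
    · exact le_rfl
    · by_contra hle
      have hne : c.maxGenEigenspace l ≠ ⊥ := fun e => hle (e ▸ bot_le)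
      exact hno l hl (Module.End.HasUnifEigenvalue.lt zero_lt_one hne)
  have hnil : (c - 1) ^ (finrank K V) = 0 := by
    rw [End.maxGenEigenspace_eq_genEigenspace_finrank, End.genEigenspace_nat, one_smul] at hall
    exact LinearMap.ker_eq_top.1 hall
  obtain ⟨a, ha⟩ : ∃ a : ℕ, finrank K V ≤ p ^ a :=
    ⟨finrank K V, (Nat.lt_pow_self (Fact.out : p.Prime).one_lt).le⟩
  have hcha : CharP (End K V) p := charP_of_injective_algebraMap (algebraMap K (End K V)).injective p
  have hpa : c ^ p ^ a = 1 := by
    have h : (c - 1) ^ p ^ a = 0 := pow_eq_zero_of_le ha hnil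
    rw [sub_pow_char_pow_of_commute p a (Commute.one_right c), one_pow, sub_eq_zero] at h
    exact h
  have h := pow_gcd_eq_one.2 ⟨hn, hpa⟩
  rwa [(Nat.Coprime.pow_right a hcop).gcd_eq_one, pow_one] at h

/-- A nontrivial eigenvalue of a commutator has a large eigenspace. -/
theorem three_le_eigenspace (c x y x' y' : End K V) (hx : x' * x = 1) (hy : y' * y = 1)
    (hcx : c * x = x * c) (hcy : c * y = y * c) (hxy : x * y = c * (y * x)) {l : K} {n : ℕ} (hn : Odd n)
    (hln : l ^ n = 1) (hl : l ≠ 1) (he : c.HasEigenvalue l) : 3 ≤ finrank K (c.eigenspace l) := by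
  set W := c.eigenspace l
  have hW : ∀ g : End K V, c * g = g * c → ∀ w ∈ W, g w ∈ W := fun g hg w hw => by
    rw [End.mem_eigenspace_iff] at hw ⊢
    rw [← End.mul_apply, hg, End.mul_apply, hw, map_smul]
  set X := LinearMap.restrict x (hW x hcx)
  set Y := LinearMap.restrict y (hW y hcy)
  have hker : ∀ (g g' : End K V) (hg : ∀ w ∈ W, g w ∈ W), g' * g = 1 →
      LinearMap.det (LinearMap.restrict g hg) ≠ 0 := by
    intro g g' hg hgg h0
    obtain ⟨w, hw, hw0⟩ := Submodule.exists_mem_ne_zero_of_ne_bot (LinearMap.bot_lt_ker_of_det_eq_zero h0).ne'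
    apply hw0
    refine Subtype.ext ?_
    have e : g (w : V) = 0 := congrArg Subtype.val (LinearMap.mem_ker.1 hw)
    have := congrArg (fun f : End K V => f (w : V)) hgg
    simpa [e] using this.symm
  have hXY : X * Y = l • (Y * X) := by
    refine LinearMap.ext fun w => Subtype.ext ?_
    show x (y (w : V)) = l • y (x (w : V))
    rw [← End.mul_apply, hxy, End.mul_apply, End.mul_apply]
    exact End.mem_eigenspace_iff.1 (hW y hcy _ (hW x hcx _ w.2))
  have hd := congrArg LinearMap.det hXY
  rw [LinearMap.det_smul, map_mul, map_mul, mul_comm (LinearMap.det Y)] at hd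
  have hld : l ^ finrank K W = 1 := by
    refine mul_right_cancel₀ (mul_ne_zero (hker x x' (hW x hcx) hx) (hker y y' (hW y hcy) hy)) ?_
    rw [one_mul]; exact hd.symm
  have h0 : finrank K W ≠ 0 := fun h => he (Submodule.finrank_eq_zero.1 h)
  by_contra hlt
  apply hl
  have h12 : finrank K W = 1 ∨ finrank K W = 2 := by omega
  rcases h12 with h | h <;> rw [h] at hld
  · rwa [pow_one] at hld
  · obtain ⟨t, rfl⟩ := hn
    rwa [pow_succ, pow_mul, hld, one_pow, one_mul] at hln

/-- Two large eigenspaces do not fit in dimension four. -/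
theorem false_of_two_eigenspaces (c : End K V) {l m : K} (hlm : l ≠ m) (hl : 3 ≤ finrank K (c.eigenspace l))
    (hm : 3 ≤ finrank K (c.eigenspace m)) (h4 : finrank K V ≤ 4) : False := by
  have hd : c.eigenspace l ⊓ c.eigenspace m = ⊥ := by
    rw [Submodule.eq_bot_iff]
    intro w ⟨h1, h2⟩
    rw [SetLike.mem_coe, End.mem_eigenspace_iff] at h1 h2
    have : (l - m) • w = 0 := by rw [sub_smul, ← h1, ← h2, sub_self]
    exact (smul_eq_zero.1 this).resolve_left (sub_ne_zero.2 hlm)
  have h := Submodule.finrank_sup_add_finrank_inf_eq (c.eigenspace l) (c.eigenspace m)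
  rw [hd, finrank_bot, add_zero] at h
  have := Submodule.finrank_le (c.eigenspace l ⊔ c.eigenspace m)
  omega

/-- A commuting family has a joint eigenvector inside any nonzero invariant subspace. -/
theorem exists_joint [IsAlgClosed K] {ι : Type*} [Finite ι] (f : ι → End K V) (hcomm : ∀ a b, f a * f b = f b * f a)
    (W : Submodule K V) (hW : W ≠ ⊥) (hinv : ∀ a, ∀ w ∈ W, f a w ∈ W) :
    ∃ w ∈ W, w ≠ 0 ∧ ∃ χ : ι → K, ∀ a, f a w = χ a • w := by
  classical
  have := Fintype.ofFinite ι
  suffices h : ∀ s : Finset ι, ∃ U : Submodule K V, U ≠ ⊥ ∧ U ≤ W ∧ (∀ a, ∀ w ∈ U, f a w ∈ U) ∧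
      ∀ a ∈ s, ∃ t : K, ∀ w ∈ U, f a w = t • w by
    obtain ⟨U, hU, hUW, -, hs⟩ := h Finset.univ
    obtain ⟨w, hw, hw0⟩ := Submodule.exists_mem_ne_zero_of_ne_bot hU
    choose χ hχ using fun a => hs a (Finset.mem_univ a)
    exact ⟨w, hUW hw, hw0, χ, fun a => hχ a w hw⟩
  intro s
  induction s using Finset.induction with
  | empty => exact ⟨W, hW, le_rfl, hinv, by simp⟩
  | insert a s _ ih =>
    obtain ⟨U, hU, hUW, hUi, hs⟩ := ih
    have : Nontrivial U := Submodule.nontrivial_iff_ne_bot.2 hU
    obtain ⟨t, ht⟩ := End.exists_eigenvalue (LinearMap.restrict (f a) (hUi a))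
    obtain ⟨w, hw⟩ := ht.exists_hasEigenvector
    refine ⟨U ⊓ (f a).eigenspace t, fun h => hw.2 (Subtype.ext ?_), inf_le_left.trans hUW,
      fun b v hv => ⟨hUi b v hv.1, ?_⟩, ?_⟩
    · have e : (w : V) ∈ U ⊓ (f a).eigenspace t := ⟨w.2, End.mem_eigenspace_iff.2 (by
        have := congrArg Subtype.val (End.mem_eigenspace_iff.1 hw.1)
        exact this)⟩
      rw [h, Submodule.mem_bot] at e
      exact e
    · have hv2 := End.mem_eigenspace_iff.1 hv.2
      show f b v ∈ (f a).eigenspace t
      rw [End.mem_eigenspace_iff, ← End.mul_apply, hcomm, End.mul_apply, hv2, map_smul]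
    · intro b hb
      rcases Finset.mem_insert.1 hb with rfl | hb
      · exact ⟨t, fun v hv => End.mem_eigenspace_iff.1 hv.2⟩
      · obtain ⟨t', ht'⟩ := hs b hb
        exact ⟨t', fun v hv => ht' v hv.1⟩

/-- Joint eigenvectors with distinct characters are independent. -/
theorem card_le_of_joint {ι κ : Type*} [Fintype κ] (f : ι → End K V) (v : κ → V) (χ : κ → ι → K)
    (hv : ∀ k, v k ≠ 0) (hf : ∀ k a, f a (v k) = χ k a • v k) (hχ : Function.Injective χ) :
    Fintype.card κ ≤ finrank K V := by
  classical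
  suffices h : LinearIndependent K v from h.fintype_card_le_finrank
  rw [linearIndependent_iff']
  intro s
  induction s using Finset.induction with
  | empty => simp
  | insert k s hk ih =>
    intro g hg
    have hs : ∀ l ∈ s, g l = 0 := fun l hl => by
      obtain ⟨a, ha⟩ : ∃ a, χ l a ≠ χ k a := by
        by_contra h
        push Not at h
        exact hk ((hχ (funext h)) ▸ hl)
      have e := congrArg (fun w => f a w - χ k a • w) hg
      simp only [map_sum, map_smul, hf, map_zero, smul_zero, sub_zero, Finset.smul_sum, ← Finset.sum_sub_distrib,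
        smul_smul, ← sub_smul] at e
      rw [Finset.sum_insert hk, mul_comm (χ k a) (g k), sub_self, zero_smul, zero_add] at e
      have := ih _ e l hl
      rw [mul_comm (χ k a), ← mul_sub, mul_eq_zero] at this
      exact this.resolve_right (sub_ne_zero.2 ha)
    intro l hl
    rcases Finset.mem_insert.1 hl with rfl | hl
    · rw [Finset.sum_insert hk, Finset.sum_eq_zero (fun b hb => by rw [hs b hb, zero_smul]), add_zero,
        smul_eq_zero] at hg
      exact hg.resolve_right (hv _)
    · exact hs l hl

end CfsgLib.PronormalPSp
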