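import Mathlib
import Cfsg.Agent.Lib.PronormalPSp.Blocks
import Cfsg.Agent.Lib.PronormalPSp.Linear
import Cfsg.Agent.Lib.Solvable.Fitting
import Cfsg.Agent.Lib.PF.OddOrder
import Cfsg.Agent.Lib.Involutions.BrauerSuzuki

/-!
Subgroups of the four-dimensional symplectic group generated by two quaternion groups on non-degenerate
planes in general position: odd normal subgroups are centralised, and the planes are fused orthogonally.
-/

set_option autoImplicit false
set_option linter.unusedSectionVars false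

namespace CfsgLib.PronormalPSp

open Matrix Equiv CfsgLib.SympSylow Module

universe u

variable {F : Type u} [Field F] {α : Type} [Fintype α] [DecidableEq α]

local notation "M2" => Matrix (Fin 2) (Fin 2) F
local notation "SL2" => Matrix.SpecialLinearGroup (Fin 2) F

/-- The action on block vectors. -/
def act : USp α F →* Module.End F (α → Fin 2 → F) where
  toFun g :=
    { toFun := fun v a => ∑ b, mat g a b *ᵥ v b
      map_add' := fun v w => funext fun a => by simp only [Pi.add_apply, mulVec_add, Finset.sum_add_distrib]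
      map_smul' := fun c v => funext fun a => by
        simp only [Pi.smul_apply, mulVec_smul, Finset.smul_sum, RingHom.id_apply] }
  map_one' := LinearMap.ext fun v => funext fun a => by
    show ∑ b, (1 : BM α F) a b *ᵥ v b = v a
    rw [Finset.sum_eq_single a (fun b _ hb => by rw [Matrix.one_apply_ne (Ne.symm hb), zero_mulVec]) (by simp),
      Matrix.one_apply_eq, one_mulVec]
  map_mul' g h := LinearMap.ext fun v => funext fun a => by
    show ∑ b, mat (g * h) a b *ᵥ v b = ∑ c, mat g a c *ᵥ ∑ b, mat h c b *ᵥ v b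
    simp only [mat_mul, Matrix.mul_apply, sum_mulVec, mulVec_sum, mulVec_mulVec]
    exact Finset.sum_comm

theorem act_apply (g : USp α F) (v : α → Fin 2 → F) (a : α) : act g v a = ∑ b, mat g a b *ᵥ v b := rfl

theorem act_injective : Function.Injective (act (F := F) (α := α)) := by
  intro g h e
  refine mat_inj (Matrix.ext fun a b => Matrix.ext_of_mulVec_single fun i => ?_)
  have := congrFun (LinearMap.congr_fun e (Pi.single b (Pi.single i 1))) a
  simp only [act_apply] at this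
  rwa [Finset.sum_eq_single b (fun c _ hc => by simp [Pi.single_eq_of_ne hc]) (by simp),
    Finset.sum_eq_single b (fun c _ hc => by simp [Pi.single_eq_of_ne hc]) (by simp), Pi.single_eq_same] at this

/-- Coordinates along a column. -/
def coord (g : USp α F) (y : α) (v : α → Fin 2 → F) : Fin 2 → F := ∑ b, adjugate (mat g b y) *ᵥ v b

theorem act_conj_sgl (g : USp α F) (y : α) (q : SL2) (v : α → Fin 2 → F) (a : α) :
    act (g * sgl y q * g⁻¹) v a = v a + mat g a y *ᵥ (((q : M2) - 1) *ᵥ coord g y v) := by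
  rw [act_apply, Finset.sum_congr rfl fun b _ => show mat (g * sgl y q * g⁻¹) a b *ᵥ v b =
      (1 : BM α F) a b *ᵥ v b + mat g a y *ᵥ (((q : M2) - 1) *ᵥ (adjugate (mat g b y) *ᵥ v b)) by
    rw [mat_conj_sgl, add_mulVec, mulVec_mulVec, mulVec_mulVec, mul_assoc],
    Finset.sum_add_distrib, coord, mulVec_sum, mulVec_sum]
  congr 1
  rw [Finset.sum_eq_single a (fun b _ hb => by rw [Matrix.one_apply_ne (Ne.symm hb), zero_mulVec]) (by simp),
    Matrix.one_apply_eq, one_mulVec]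

theorem act_sgl_sub (x : α) (q : SL2) (v : α → Fin 2 → F) :
    act (sgl x q) v - v = Pi.single x (((q : M2) - 1) *ᵥ v x) := by
  funext a
  rw [Pi.sub_apply, show sgl x q = 1 * sgl x q * (1 : USp α F)⁻¹ by rw [one_mul, inv_one, mul_one], act_conj_sgl,
    add_sub_cancel_left]
  have hc : coord (1 : USp α F) x v = v x := by
    rw [coord, Finset.sum_eq_single x (fun b _ hb => by
      rw [mat_one, Matrix.one_apply_ne hb, adjugate_zero, zero_mulVec]) (by simp), mat_one, Matrix.one_apply_eq,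
      adjugate_one, one_mulVec]
  rw [hc]
  rcases eq_or_ne a x with rfl | ha
  · simp [mat_one]
  · simp [mat_one, Matrix.one_apply_ne ha, ha]

theorem QPair.neg_two_smul (P : QPair F) (v : Fin 2 → F) : ((P.z : M2) - 1) *ᵥ v = (-2 : F) • v := by
  rw [P.z_val, sub_mulVec, neg_mulVec, one_mulVec, neg_smul, two_smul]; abel

theorem QPair.top_of_three (P : QPair F) (h2 : (2 : F) ≠ 0) (W : Submodule F (Fin 2 → F)) {y : Fin 2 → F}
    (hy : y ≠ 0) (h1 : y ∈ W) (hi : (P.i : M2) *ᵥ y ∈ W) (hj : (P.j : M2) *ᵥ y ∈ W) : W = ⊤ := by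
  by_contra hne
  have hlt : finrank F W < 2 := by
    have h := Submodule.finrank_lt hne
    rwa [Module.finrank_fin_fun] at h
  have hW : W = Submodule.span F {y} := by
    refine (Submodule.eq_of_le_of_finrank_le ((Submodule.span_singleton_le_iff_mem _ _).2 h1) ?_).symm
    rw [finrank_span_singleton hy]; omega
  refine hne (P.irreducible h2 W h1 hy (fun v hv => ?_) fun v hv => ?_) <;>
  · rw [hW, Submodule.mem_span_singleton] at hv
    obtain ⟨c, rfl⟩ := hv
    rw [mulVec_smul]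
    exact W.smul_mem c ‹_›

variable [Fintype F] (hq : Odd (Fintype.card F)) (P : QPair F)
  {L : Subgroup (USp (Fin 2) F)} {k : USp (Fin 2) F}
  (hk0 : mat k 0 0 ≠ 0) (hk1 : (mat k 1 0).det ≠ 0)
  (hLi : sgl (0 : Fin 2) P.i ∈ L) (hLj : sgl (0 : Fin 2) P.j ∈ L)
  (hki : k * sgl (0 : Fin 2) P.i * k⁻¹ ∈ L) (hkj : k * sgl (0 : Fin 2) P.j * k⁻¹ ∈ L)

include hLi in
theorem sgl_z_mem : sgl (0 : Fin 2) P.z ∈ L := by
  rw [show P.z = P.i * P.i from rfl, map_mul]; exact mul_mem hLi hLi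

include hki in
theorem conj_sgl_z_mem : k * sgl (0 : Fin 2) P.z * k⁻¹ ∈ L := by
  rw [show P.z = P.i * P.i from rfl, map_mul]
  simpa [mul_assoc] using mul_mem hki hki

include hq hk0 hk1 hLi hLj hki hkj

/-- A subspace invariant under the group that contains a nonzero vector is everything. -/
theorem eq_top_of_invariant (U : Submodule F (Fin 2 → Fin 2 → F)) (hU : U ≠ ⊥)
    (hinv : ∀ g ∈ L, ∀ v ∈ U, act g v ∈ U) : U = ⊤ := by
  have h2 := PronormalPSL.two_ne_zero_of_odd_card hq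
  have hz := sgl_z_mem P hLi
  have hkz := conj_sgl_z_mem P hki
  have hs : ∀ q : SL2, sgl (0 : Fin 2) q ∈ L → ∀ v ∈ U, (Pi.single 0 (((q : M2) - 1) *ᵥ v 0) : Fin 2 → Fin 2 → F) ∈ U :=
    fun q hq' v hv => by rw [← act_sgl_sub]; exact U.sub_mem (hinv _ hq' v hv) hv
  have hu : ∀ q : SL2, k * sgl (0 : Fin 2) q * k⁻¹ ∈ L → ∀ v ∈ U,
      (fun a => mat k a 0 *ᵥ (((q : M2) - 1) *ᵥ coord k 0 v)) ∈ U := fun q hq' v hv => by
    have h := U.sub_mem (hinv _ hq' v hv) hv
    convert h using 1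
    funext a
    rw [Pi.sub_apply, act_conj_sgl, add_sub_cancel_left]
  have hscale : ∀ {v : Fin 2 → Fin 2 → F}, (-2 : F) • v ∈ U → v ∈ U := fun {v} h => by
    have := U.smul_mem (-2 : F)⁻¹ h
    rwa [inv_smul_smul₀ (neg_ne_zero.2 h2)] at this
  have hadj : Function.Injective fun w : Fin 2 → F => adjugate (mat k 1 0) *ᵥ w := fun a b h => by
    have := congrArg (fun w => mat k 1 0 *ᵥ w) h
    simp only [mulVec_mulVec, mul_adj, smul_mulVec, one_mulVec] at this
    exact smul_right_injective _ hk1 this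
  have hblock : ∀ w : Fin 2 → F, (Pi.single 0 w : Fin 2 → Fin 2 → F) ∈ U := by
    obtain ⟨v, hv, hv0⟩ : ∃ v ∈ U, v 0 ≠ 0 := by
      by_contra hall
      push Not at hall
      apply hk0
      set φ : (Fin 2 → Fin 2 → F) →ₗ[F] (Fin 2 → F) :=
        { toFun := fun v => adjugate (mat k 1 0) *ᵥ v 1
          map_add' := fun v w => by simp [mulVec_add]
          map_smul' := fun c v => by simp [mulVec_smul] } with hφ
      have hcoord : ∀ v ∈ U, coord k 0 v = φ v := fun v hv => by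
        rw [coord, Fin.sum_univ_two, hall v hv, mulVec_zero, zero_add]; rfl
      have hstep : ∀ q : SL2, k * sgl (0 : Fin 2) q * k⁻¹ ∈ L → ∀ v ∈ U,
          mat k 0 0 *ᵥ (((q : M2) - 1) *ᵥ φ v) = 0 := fun q hq' v hv => by
        have h := hall _ (hu q hq' v hv)
        rwa [hcoord v hv] at h
      have hker : ∀ v ∈ U, mat k 0 0 *ᵥ φ v = 0 := fun v hv => by
        have h := hstep _ hkz v hv
        rw [P.neg_two_smul, mulVec_smul, smul_eq_zero] at h
        exact h.resolve_left (neg_ne_zero.2 h2)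
      obtain ⟨v, hv, hv0⟩ := Submodule.exists_mem_ne_zero_of_ne_bot hU
      have hφv : φ v ≠ 0 := fun h => hv0 (by
        have h1 : v 1 = 0 := hadj (by simpa [hφ] using h)
        funext a; fin_cases a
        · exact hall v hv
        · exact h1)
      have hiv : ∀ q : SL2, k * sgl (0 : Fin 2) q * k⁻¹ ∈ L → mat k 0 0 *ᵥ ((q : M2) *ᵥ φ v) = 0 := fun q hq' => by
        have h := hstep q hq' v hv
        rwa [sub_mulVec, one_mulVec, mulVec_sub, hker v hv, sub_zero] at h
      have htop := P.top_of_three h2 (LinearMap.ker (Matrix.mulVecLin (mat k 0 0))) hφv (hker v hv) (hiv _ hki)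
        (hiv _ hkj)
      exact Matrix.ext_of_mulVec_single fun i => by
        rw [zero_mulVec]
        have h : (Pi.single i 1 : Fin 2 → F) ∈ LinearMap.ker (Matrix.mulVecLin (mat k 0 0)) := htop ▸ trivial
        exact h
    have h1 : (Pi.single 0 (v 0) : Fin 2 → Fin 2 → F) ∈ U := by
      refine hscale ?_
      rw [← Pi.single_smul', ← P.neg_two_smul]
      exact hs _ hz v hv
    have hq1 : ∀ q : SL2, sgl (0 : Fin 2) q ∈ L →
        v 0 ∈ U.comap (LinearMap.single F (fun _ : Fin 2 => Fin 2 → F) 0) →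
        (q : M2) *ᵥ v 0 ∈ U.comap (LinearMap.single F (fun _ : Fin 2 => Fin 2 → F) 0) := fun q hq' h => by
      have h' := U.add_mem (hs q hq' v hv) h
      show (Pi.single 0 _ : Fin 2 → Fin 2 → F) ∈ U
      convert h' using 1
      rw [LinearMap.single_apply, ← Pi.single_add, sub_mulVec, one_mulVec, sub_add_cancel]
    have htop := P.top_of_three h2 _ hv0 (show v 0 ∈ U.comap (LinearMap.single F (fun _ : Fin 2 => Fin 2 → F) 0)
      from h1) (hq1 _ hLi h1) (hq1 _ hLj h1)
    intro w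
    have : w ∈ U.comap (LinearMap.single F (fun _ : Fin 2 => Fin 2 → F) 0) := htop ▸ trivial
    exact this
  obtain ⟨w, hw⟩ : ∃ w : Fin 2 → F, adjugate (mat k 0 0) *ᵥ w ≠ 0 := by
    by_contra hall
    push Not at hall
    apply hk0
    rw [← adj_adj (mat k 0 0), show adjugate (mat k 0 0) = 0 from
      Matrix.ext_of_mulVec_single fun i => by rw [hall, zero_mulVec], adjugate_zero]
  set y := adjugate (mat k 0 0) *ᵥ w
  let ψ : (Fin 2 → F) →ₗ[F] (Fin 2 → Fin 2 → F) :=
    (LinearMap.single F (fun _ : Fin 2 => Fin 2 → F) 1).comp (Matrix.mulVecLin (mat k 1 0))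
  have hψ : ∀ q : SL2, k * sgl (0 : Fin 2) q * k⁻¹ ∈ L → ψ (((q : M2) - 1) *ᵥ y) ∈ U := fun q hq' => by
    have hy : coord k 0 (Pi.single 0 w) = y := by simp [coord, Fin.sum_univ_two, y]
    have h := U.sub_mem (hu q hq' _ (hblock w)) (hblock (mat k 0 0 *ᵥ (((q : M2) - 1) *ᵥ y)))
    convert h using 1
    funext a
    fin_cases a <;> simp [ψ, hy]
  have hy1 : y ∈ U.comap ψ := by
    have h := hψ _ hkz
    rw [P.neg_two_smul, map_smul] at h
    exact hscale h
  have hyq : ∀ q : SL2, k * sgl (0 : Fin 2) q * k⁻¹ ∈ L → (q : M2) *ᵥ y ∈ U.comap ψ := fun q hq' => by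
    have h := U.add_mem (hψ q hq') hy1
    rw [← map_add, sub_mulVec, one_mulVec, sub_add_cancel] at h
    exact h
  have htop := P.top_of_three h2 _ hw hy1 (hyq _ hki) (hyq _ hkj)
  rw [eq_top_iff]
  intro v _
  have hv : v = Pi.single 0 (v 0) + Pi.single 1 (v 1) := by
    funext a; fin_cases a <;> simp
  rw [hv]
  refine U.add_mem (hblock _) ?_
  obtain ⟨x, hx⟩ : ∃ x, mat k 1 0 *ᵥ x = v 1 :=
    ⟨(mat k 1 0).det⁻¹ • (adjugate (mat k 1 0) *ᵥ v 1), by
      rw [mulVec_smul, mulVec_mulVec, mul_adj, smul_mulVec, one_mulVec, inv_smul_smul₀ hk1]⟩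
  rw [← hx]
  have : x ∈ U.comap ψ := htop ▸ trivial
  exact this

/-- No nontrivial invariant subgroup of characteristic-power order. -/
theorem eq_bot_of_pGroup (p : ℕ) [Fact p.Prime] [CharP F p] (M : Subgroup (USp (Fin 2) F)) (hM : IsPGroup p M)
    (hinv : ∀ l ∈ L, ∀ m ∈ M, l * m * l⁻¹ ∈ M) : M = ⊥ := by
  letI : MulAction M (Fin 2 → Fin 2 → F) := MulAction.compHom _ (act.comp M.subtype)
  have hsmul : ∀ (m : M) (v : Fin 2 → Fin 2 → F), m • v = act (m : USp (Fin 2) F) v := fun m v => rfl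
  have hdvd : p ∣ Nat.card (Fin 2 → Fin 2 → F) := by
    obtain ⟨n, -, hn⟩ := FiniteField.card F p
    rw [Nat.card_fun, Nat.card_fun, Nat.card_eq_fintype_card (α := F), hn, ← pow_mul, ← pow_mul]
    exact dvd_pow_self p (by simp)
  obtain ⟨v, hv, hv0⟩ := hM.exists_fixed_point_of_prime_dvd_card_of_fixed_point (Fin 2 → Fin 2 → F) hdvd
    (a := 0) (fun m => map_zero (act (m : USp (Fin 2) F)))
  let U : Submodule F (Fin 2 → Fin 2 → F) :=
    { carrier := {v | ∀ m ∈ M, act m v = v}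
      add_mem' := fun {a b} ha hb m hm => by rw [map_add, ha m hm, hb m hm]
      zero_mem' := fun m _ => map_zero _
      smul_mem' := fun c a ha m hm => by rw [map_smul, ha m hm] }
  have hU : U = ⊤ := by
    refine eq_top_of_invariant hq P hk0 hk1 hLi hLj hki hkj U
      (fun h => hv0 ((Submodule.mem_bot F).1 (h ▸ fun m hm => hv ⟨m, hm⟩)).symm) fun g hg w hw m hm => ?_
    have hm' : g⁻¹ * m * g ∈ M := by simpa using hinv g⁻¹ (inv_mem hg) m hm
    rw [← End.mul_apply, ← map_mul, show m * g = g * (g⁻¹ * m * g) by group, map_mul, End.mul_apply, hw _ hm']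
  rw [Subgroup.eq_bot_iff_forall]
  intro m hm
  refine act_injective (LinearMap.ext fun w => ?_)
  rw [map_one]
  exact (show w ∈ U from hU ▸ trivial) m hm

omit hq hk0 hk1 hLi hLj hki hkj

section AlgClosed

variable (F)

/-- The action over the algebraic closure. -/
noncomputable def actK : USp (Fin 2) F →* Module.End (AlgebraicClosure F) (Fin 2 ⊕ Fin 2 → AlgebraicClosure F) :=
  (Matrix.toLinAlgEquiv' : Matrix _ _ (AlgebraicClosure F) ≃ₐ[AlgebraicClosure F] _).toMonoidHom.comp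
    ((algebraMap F (AlgebraicClosure F)).mapMatrix.toMonoidHom.comp
      ((Matrix.symplecticGroup (Fin 2) F).subtype.comp spEquiv.symm.toMonoidHom))

variable {F}

theorem actK_injective : Function.Injective (actK F) :=
  Matrix.toLinAlgEquiv'.injective.comp ((Matrix.map_injective (algebraMap F (AlgebraicClosure F)).injective).comp
    (Subtype.val_injective.comp spEquiv.symm.injective))

theorem hasEigenvalue_inv (g : USp (Fin 2) F) {l : AlgebraicClosure F} (hl : l ≠ 0)
    (h : (actK F g).HasEigenvalue l) : (actK F g).HasEigenvalue l⁻¹ := by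
  set A : Matrix (Fin 2 ⊕ Fin 2) (Fin 2 ⊕ Fin 2) (AlgebraicClosure F) :=
    (algebraMap F (AlgebraicClosure F)).mapMatrix ((spEquiv.symm g : Matrix.symplecticGroup (Fin 2) F) : Matrix _ _ F)
  have hA : A * Matrix.J (Fin 2) (AlgebraicClosure F) * Aᵀ = Matrix.J (Fin 2) (AlgebraicClosure F) := by
    have := congrArg (algebraMap F (AlgebraicClosure F)).mapMatrix
      (SymplecticGroup.mem_iff.1 (spEquiv.symm g).2)
    rw [map_mul, map_mul] at this
    have hJ : (algebraMap F (AlgebraicClosure F)).mapMatrix (Matrix.J (Fin 2) F) =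
        Matrix.J (Fin 2) (AlgebraicClosure F) := by
      ext (i | i) (j | j) <;> simp [Matrix.J, Matrix.one_apply, apply_ite (algebraMap F (AlgebraicClosure F))]
    rwa [hJ, show (algebraMap F (AlgebraicClosure F)).mapMatrix
      ((spEquiv.symm g : Matrix.symplecticGroup (Fin 2) F) : Matrix _ _ F)ᵀ = Aᵀ from rfl] at this
  have hev : ∀ t : AlgebraicClosure F, (actK F g).HasEigenvalue t ↔
      (A - t • (1 : Matrix (Fin 2 ⊕ Fin 2) (Fin 2 ⊕ Fin 2) (AlgebraicClosure F))).det = 0 := fun t => by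
    rw [← Matrix.exists_mulVec_eq_zero_iff]
    constructor
    · intro ht
      obtain ⟨v, hv⟩ := ht.exists_hasEigenvector
      refine ⟨v, hv.2, ?_⟩
      rw [sub_mulVec, smul_mulVec, one_mulVec, sub_eq_zero]
      exact hv.apply_eq_smul
    · rintro ⟨v, hv0, hv⟩
      rw [sub_mulVec, smul_mulVec, one_mulVec, sub_eq_zero] at hv
      exact End.hasEigenvalue_of_hasEigenvector ⟨End.mem_eigenspace_iff.2 hv, hv0⟩
  have hJd : IsUnit (Matrix.J (Fin 2) (AlgebraicClosure F)).det := Matrix.isUnit_det_J _ _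
  have h1 : (Aᵀ - l • (1 : Matrix (Fin 2 ⊕ Fin 2) (Fin 2 ⊕ Fin 2) (AlgebraicClosure F))).det = 0 := by
    rw [← Matrix.det_transpose, transpose_sub, transpose_transpose, transpose_smul, transpose_one]
    exact (hev l).1 h
  have h2 : (A - l⁻¹ • (1 : Matrix (Fin 2 ⊕ Fin 2) (Fin 2 ⊕ Fin 2) (AlgebraicClosure F))).det *
      ((-l) ^ Fintype.card (Fin 2 ⊕ Fin 2) * (Matrix.J (Fin 2) (AlgebraicClosure F)).det) = 0 := by
    have e : (A - l⁻¹ • 1) * ((-l) • Matrix.J (Fin 2) (AlgebraicClosure F)) =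
        A * Matrix.J (Fin 2) (AlgebraicClosure F) * (Aᵀ - l • 1) := by
      rw [mul_sub, hA, sub_mul, mul_smul_comm, smul_mul_smul_comm, one_mul, mul_neg, inv_mul_cancel₀ hl,
        mul_smul_comm, mul_one, neg_smul, neg_smul, one_smul]
      abel
    have := congrArg Matrix.det e
    rw [Matrix.det_mul, Matrix.det_smul, Matrix.det_mul, h1, mul_zero] at this
    exact this
  exact (hev _).2 ((mul_eq_zero.1 h2).resolve_right
    (mul_ne_zero (pow_ne_zero _ (neg_ne_zero.2 hl)) hJd.ne_zero))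

theorem finrank_four :
    finrank (AlgebraicClosure F) (Fin 2 ⊕ Fin 2 → AlgebraicClosure F) = 4 := by
  rw [Module.finrank_pi, Fintype.card_sum, Fintype.card_fin]

/-- A nilpotent group that is not commutative has a nontrivial central commutator. -/
theorem exists_central_commutator {G : Type*} [Group G] [Group.IsNilpotent G] (h : ∃ a b : G, a * b ≠ b * a) :
    ∃ x y : G, x * y * x⁻¹ * y⁻¹ ≠ 1 ∧ ∀ g, Commute (x * y * x⁻¹ * y⁻¹) g := by
  have : Nontrivial (G ⧸ Subgroup.center G) := by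
    refine QuotientGroup.nontrivial_iff.2 fun e => ?_
    obtain ⟨a, b, hab⟩ := h
    exact hab ((Subgroup.mem_center_iff.1 (e ▸ Subgroup.mem_top a) b).symm)
  have : Nontrivial (Subgroup.center (G ⧸ Subgroup.center G)) :=
    (Subgroup.nontrivial_iff_ne_bot _).2 (Group.IsNilpotent.center_ne_bot _)
  obtain ⟨c, hc⟩ := exists_ne (1 : Subgroup.center (G ⧸ Subgroup.center G))
  obtain ⟨x, hx⟩ := QuotientGroup.mk_surjective (c : G ⧸ Subgroup.center G)
  obtain ⟨y, hy⟩ : ∃ y, x * y ≠ y * x := by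
    by_contra hall
    push Not at hall
    refine hc (Subtype.ext ?_)
    rw [← hx]
    exact (QuotientGroup.eq_one_iff x).2 (Subgroup.mem_center_iff.2 fun g => (hall g).symm)
  refine ⟨x, y, fun e => hy ?_, fun g => ?_⟩
  · calc x * y = x * y * x⁻¹ * y⁻¹ * (y * x) := by group
      _ = y * x := by rw [e, one_mul]
  · have hmem : x * y * x⁻¹ * y⁻¹ ∈ Subgroup.center G := by
      rw [← QuotientGroup.eq_one_iff]
      have e := Subgroup.mem_center_iff.1 c.2 (y : G ⧸ Subgroup.center G)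
      rw [← hx] at e
      simp only [QuotientGroup.mk_mul, QuotientGroup.mk_inv]
      rw [← e]
      group
    exact (Subgroup.mem_center_iff.1 hmem g).symm

end AlgClosed

/-- An invariant nilpotent subgroup of odd order prime to the characteristic is abelian. -/
theorem commute_of_nilpotent (p : ℕ) [Fact p.Prime] [CharP F p] (N : Subgroup (USp (Fin 2) F))
    [Group.IsNilpotent N] (hodd : Odd (Nat.card N)) (hp : ¬ p ∣ Nat.card N) :
    ∀ a b : N, a * b = b * a := by
  by_contra hne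
  push Not at hne
  obtain ⟨x, y, hc, hcen⟩ := exists_central_commutator hne
  set c := x * y * x⁻¹ * y⁻¹ with hcdef
  have : CharP (AlgebraicClosure F) p := charP_of_injective_algebraMap (algebraMap F _).injective p
  let f : N →* Module.End (AlgebraicClosure F) (Fin 2 ⊕ Fin 2 → AlgebraicClosure F) := (actK F).comp N.subtype
  have hf : Function.Injective f := actK_injective.comp Subtype.val_injective
  have hn : f c ^ Nat.card N = 1 := by rw [← map_pow, pow_card_eq_one', map_one]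
  have hinv : ∀ a : N, f a⁻¹ * f a = 1 := fun a => by rw [← map_mul, inv_mul_cancel, map_one]
  obtain ⟨l, hl1, hl⟩ := exists_eigenvalue_ne_one p (f c) hn
    ((Nat.Coprime.symm ((Nat.Prime.coprime_iff_not_dvd Fact.out).2 hp))) (fun e => hc (hf (e.trans (map_one f).symm)))
  have hroot : ∀ t, (f c).HasEigenvalue t → t ^ Nat.card N = 1 := fun t ht => by
    obtain ⟨v, hv⟩ := ht.exists_hasEigenvector
    have h := hv.pow_apply (Nat.card N)
    rw [hn, End.one_apply] at h
    exact ((smul_left_injective _ hv.2) (h.trans rfl |>.symm.trans (one_smul _ v).symm))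
  have hln := hroot l hl
  have hl0 : l ≠ 0 := fun e => by
    rw [e, zero_pow Nat.card_pos.ne'] at hln; exact zero_ne_one hln
  have hl' := hasEigenvalue_inv _ hl0 hl
  have hll : l ≠ l⁻¹ := fun e => hl1 (by
    obtain ⟨t, ht⟩ := hodd
    have h2 : l * l = 1 := by nth_rewrite 2 [e]; exact mul_inv_cancel₀ hl0
    rwa [ht, pow_succ, pow_mul, pow_two, h2, one_pow, one_mul] at hln)
  have hxy : f x * f y = f c * (f y * f x) := by
    rw [← map_mul, ← map_mul, ← map_mul, hcdef]; congr 1; group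
  have hcx : ∀ a : N, f c * f a = f a * f c := fun a => by rw [← map_mul, (hcen a).eq, map_mul]
  exact false_of_two_eigenspaces (f c) hll
    (three_le_eigenspace (f c) (f x) (f y) (f x⁻¹) (f y⁻¹) (hinv x) (hinv y) (hcx x) (hcx y) hxy hodd hln hl1 hl)
    (three_le_eigenspace (f c) (f x) (f y) (f x⁻¹) (f y⁻¹) (hinv x) (hinv y) (hcx x) (hcx y) hxy hodd
      (hroot _ hl') (fun e => hl1 (inv_eq_one.1 e)) hl') finrank_four.le

theorem QPair.quot_cases (s : Fin 5 → SL2) (hs : s = ![1, P.z, P.i, P.i * P.z, P.j]) {a b : Fin 5} (hab : a ≠ b) :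
    (s a)⁻¹ * s b = P.z ∨ (s a)⁻¹ * s b * ((s a)⁻¹ * s b) = P.z := by
  have zz := P.z_sq
  have ii : P.i * P.i = P.z := rfl
  have jj : P.j * P.j = P.z := P.z_eq_j.symm
  have ji : P.j * P.i = P.z * (P.i * P.j) := sl_ext (by
    rw [sl_val_mul, sl_val_mul, sl_val_mul, P.z_val, P.hij, neg_one_mul, neg_neg])
  have iz : ∀ u : SL2, P.i * (P.z * u) = P.z * (P.i * u) := fun u => by rw [← mul_assoc, ← P.z_comm, mul_assoc]
  have jz : ∀ u : SL2, P.j * (P.z * u) = P.z * (P.j * u) := fun u => by rw [← mul_assoc, ← P.z_comm, mul_assoc]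
  have iz1 : P.i * P.z = P.z * P.i := (P.z_comm _).symm
  have jz1 : P.j * P.z = P.z * P.j := (P.z_comm _).symm
  have zz' : ∀ u : SL2, P.z * (P.z * u) = u := fun u => by rw [← mul_assoc, zz, one_mul]
  have ii' : ∀ u : SL2, P.i * (P.i * u) = P.z * u := fun u => by rw [← mul_assoc, ii]
  have jj' : ∀ u : SL2, P.j * (P.j * u) = P.z * u := fun u => by rw [← mul_assoc, jj]
  have ji' : ∀ u : SL2, P.j * (P.i * u) = P.z * (P.i * (P.j * u)) := fun u => by
    rw [← mul_assoc, ji]; simp only [mul_assoc]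
  have zi : P.z⁻¹ = P.z := inv_eq_of_mul_eq_one_right zz
  have iv : P.i⁻¹ = P.z * P.i := inv_eq_of_mul_eq_one_right (by rw [iz, ii, zz])
  have jv : P.j⁻¹ = P.z * P.j := inv_eq_of_mul_eq_one_right (by rw [jz, jj, zz])
  subst hs
  fin_cases a <;> fin_cases b <;>
    first
    | exact absurd rfl hab
    | simp [mul_assoc, zz, ii, jj, ji, iz, jz, iz1, jz1, zz', ji', zi, iv, jv]

include hq in
/-- An invariant abelian subgroup of odd order prime to the characteristic is centralised by the reflection. -/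
theorem commute_of_abelian (p : ℕ) [Fact p.Prime] [CharP F p] (N : Subgroup (USp (Fin 2) F))
    (hodd : Odd (Nat.card N)) (hp : ¬ p ∣ Nat.card N) (hab : ∀ a b : N, a * b = b * a)
    (hi : ∀ x ∈ N, sgl (0 : Fin 2) P.i * x * (sgl (0 : Fin 2) P.i)⁻¹ ∈ N) (hj : ∀ x ∈ N, sgl (0 : Fin 2) P.j * x * (sgl (0 : Fin 2) P.j)⁻¹ ∈ N) :
    ∀ x ∈ N, Commute (sgl (0 : Fin 2) P.z) x := by
  have h2 := PronormalPSL.two_ne_zero_of_odd_card hq
  have hz : ∀ x ∈ N, sgl (0 : Fin 2) P.z * x * (sgl (0 : Fin 2) P.z)⁻¹ ∈ N := fun x hx => by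
    rw [show P.z = P.i * P.i from rfl, map_mul]
    have := hi _ (hi x hx)
    simpa [mul_assoc] using this
  set σ := sgl (0 : Fin 2) P.z
  have hσ : σ⁻¹ = σ := inv_eq_of_mul_eq_one_right (by rw [← map_mul, P.z_sq, map_one])
  have hσσ : ∀ x, σ * (σ * x * σ⁻¹) * σ⁻¹ = x := fun x => by
    rw [hσ]
    have : σ * σ = 1 := by rw [← map_mul, P.z_sq, map_one]
    rw [show σ * (σ * x * σ) * σ = (σ * σ) * x * (σ * σ) by group, this, one_mul, mul_one]
  suffices h : ∀ x ∈ N, σ * x * σ⁻¹ = x⁻¹ → x = 1 by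
    intro x hx
    have hy := h (x⁻¹ * (σ * x * σ⁻¹)) (mul_mem (inv_mem hx) (hz x hx)) (by
      rw [show σ * (x⁻¹ * (σ * x * σ⁻¹)) * σ⁻¹ = (σ * x * σ⁻¹)⁻¹ * (σ * (σ * x * σ⁻¹) * σ⁻¹) by group, hσσ]
      group)
    rw [inv_mul_eq_one] at hy
    exact (mul_inv_eq_iff_eq_mul.1 hy.symm)
  intro x hx hxinv
  by_contra hx1
  let M : Subgroup (USp (Fin 2) F) :=
    { carrier := {y | y ∈ N ∧ σ * y * σ⁻¹ = y⁻¹}
      one_mem' := ⟨one_mem _, by simp⟩
      mul_mem' := fun {a b} ha hb => ⟨mul_mem ha.1 hb.1, by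
        rw [show σ * (a * b) * σ⁻¹ = (σ * a * σ⁻¹) * (σ * b * σ⁻¹) by group, ha.2, hb.2, ← _root_.mul_inv_rev]
        congr 1
        exact congrArg Subtype.val (hab ⟨b, hb.1⟩ ⟨a, ha.1⟩)⟩
      inv_mem' := fun {a} ha => ⟨inv_mem ha.1, by
        rw [show σ * a⁻¹ * σ⁻¹ = (σ * a * σ⁻¹)⁻¹ by group, ha.2]⟩ }
  have hMc : ∀ q : SL2, (∀ y ∈ N, sgl (0 : Fin 2) q * y * (sgl (0 : Fin 2) q)⁻¹ ∈ N) → ∀ y ∈ M,
      sgl (0 : Fin 2) q * y * (sgl (0 : Fin 2) q)⁻¹ ∈ M := fun q hq' y hy => ⟨hq' y hy.1, by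
    have hc : σ * sgl (0 : Fin 2) q = sgl (0 : Fin 2) q * σ := by rw [← map_mul, P.z_comm, map_mul]
    calc σ * (sgl (0 : Fin 2) q * y * (sgl (0 : Fin 2) q)⁻¹) * σ⁻¹ = (σ * sgl (0 : Fin 2) q) * y * (σ * sgl (0 : Fin 2) q)⁻¹ := by group
      _ = (sgl (0 : Fin 2) q * σ) * y * (sgl (0 : Fin 2) q * σ)⁻¹ := by rw [hc]
      _ = sgl (0 : Fin 2) q * (σ * y * σ⁻¹) * (sgl (0 : Fin 2) q)⁻¹ := by group
      _ = _ := by rw [hy.2]; group⟩
  have hxM : x ∈ M := ⟨hx, hxinv⟩
  have : CharP (AlgebraicClosure F) p := charP_of_injective_algebraMap (algebraMap F _).injective p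
  let f : M → Module.End (AlgebraicClosure F) (Fin 2 ⊕ Fin 2 → AlgebraicClosure F) := fun a => actK F a
  have hpow : ∀ a : M, f a ^ Nat.card N = 1 := fun a => by
    have h : (⟨a, a.2.1⟩ : N) ^ Nat.card N = 1 := pow_card_eq_one'
    show actK F a ^ Nat.card N = 1
    rw [← map_pow, show (a : USp (Fin 2) F) ^ Nat.card N = 1 from congrArg Subtype.val h, map_one]
  obtain ⟨l, hl1, hl⟩ := exists_eigenvalue_ne_one p (f ⟨x, hxM⟩) (hpow _)
    (Nat.Coprime.symm ((Nat.Prime.coprime_iff_not_dvd Fact.out).2 hp))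
    (fun e => hx1 (actK_injective (e.trans (map_one _).symm)))
  have hcomm : ∀ a b : M, f a * f b = f b * f a := fun a b => by
    show actK F a * actK F b = actK F b * actK F a
    rw [← map_mul, ← map_mul]
    exact congrArg _ (congrArg Subtype.val (hab ⟨a, a.2.1⟩ ⟨b, b.2.1⟩))
  obtain ⟨w, hw, hw0, χ, hχ⟩ := exists_joint f hcomm ((f ⟨x, hxM⟩).eigenspace l) hl fun a v hv => by
    rw [End.mem_eigenspace_iff] at hv ⊢
    rw [← End.mul_apply, hcomm, End.mul_apply, hv, map_smul]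
  have hχx : χ ⟨x, hxM⟩ = l :=
    smul_left_injective _ hw0 ((hχ _).symm.trans (End.mem_eigenspace_iff.1 hw))
  have hχinv : ∀ a : M, χ a * χ a⁻¹ = 1 := fun a => by
    refine smul_left_injective _ hw0 ?_
    show (χ a * χ a⁻¹) • w = (1 : AlgebraicClosure F) • w
    rw [one_smul, mul_comm, ← smul_smul, ← hχ, ← map_smul, ← hχ, ← End.mul_apply]
    show (actK F (a : USp (Fin 2) F) * actK F (a : USp (Fin 2) F)⁻¹) w = w
    rw [← map_mul, mul_inv_cancel, map_one, End.one_apply]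
  let s : Fin 5 → SL2 := ![1, P.z, P.i, P.i * P.z, P.j]
  have hsM : ∀ b, ∀ y ∈ M, (sgl (0 : Fin 2) (s b))⁻¹ * y * sgl (0 : Fin 2) (s b) ∈ M := by
    have key : ∀ q ∈ Subgroup.closure {P.i, P.j}, ∀ y ∈ M, sgl (0 : Fin 2) q * y * (sgl (0 : Fin 2) q)⁻¹ ∈ M := by
      intro q hq'
      induction hq' using Subgroup.closure_induction with
      | mem g hg =>
        rcases hg with rfl | rfl
        · exact hMc _ hi
        · exact hMc _ hj
      | one => simp
      | mul a b _ _ iha ihb =>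
        intro y hy
        have := iha _ (ihb y hy)
        simpa [map_mul, mul_assoc] using this
      | inv a _ iha =>
        intro y hy
        have hle : M.map (MulAut.conj (sgl (0 : Fin 2) a)).toMonoidHom ≤ M := by
          rintro _ ⟨u, hu, rfl⟩; exact iha u hu
        have heq := Subgroup.eq_of_le_of_card_ge hle
          (Subgroup.card_map_of_injective (MulAut.conj _).injective).ge
        have hy' : y ∈ M.map (MulAut.conj (sgl (0 : Fin 2) a)).toMonoidHom := by rw [heq]; exact hy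
        obtain ⟨u, hu, rfl⟩ := hy'
        simpa [map_inv, mul_assoc] using hu
    intro b y hy
    have hmem : (s b)⁻¹ ∈ Subgroup.closure {P.i, P.j} := by
      have hI : P.i ∈ Subgroup.closure {P.i, P.j} := Subgroup.subset_closure (by simp)
      have hJ : P.j ∈ Subgroup.closure {P.i, P.j} := Subgroup.subset_closure (by simp)
      refine inv_mem ?_
      fin_cases b
      · exact one_mem _
      · exact mul_mem hI hI
      · exact hI
      · exact mul_mem hI (mul_mem hI hI)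
      · exact hJ
    simpa [map_inv] using key _ hmem y hy
  let χ' : Fin 5 → M → AlgebraicClosure F := fun b a => χ ⟨(sgl (0 : Fin 2) (s b))⁻¹ * a * sgl (0 : Fin 2) (s b), hsM b a a.2⟩
  have h5 := card_le_of_joint f (fun b => actK F (sgl (0 : Fin 2) (s b)) w) χ' (fun b e => hw0 ?_) (fun b a => ?_) ?_
  · rw [Fintype.card_fin, finrank_four] at h5; omega
  · have := congrArg (actK F (sgl (0 : Fin 2) (s b))⁻¹) e
    rwa [map_zero, ← End.mul_apply, ← map_mul, inv_mul_cancel, map_one, End.one_apply] at this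
  · show actK F a (actK F (sgl (0 : Fin 2) (s b)) w) = χ' b a • actK F (sgl (0 : Fin 2) (s b)) w
    rw [← map_smul, ← hχ, ← End.mul_apply, ← map_mul]
    show _ = actK F (sgl (0 : Fin 2) (s b)) (actK F ((sgl (0 : Fin 2) (s b))⁻¹ * a * sgl (0 : Fin 2) (s b)) w)
    rw [← End.mul_apply, ← map_mul]
    congr 2; group
  · intro b c hbc
    by_contra hne
    set g := (s c)⁻¹ * s b with hg
    have hcinv : ∀ y ∈ M, (sgl (0 : Fin 2) (s c)) * y * (sgl (0 : Fin 2) (s c))⁻¹ ∈ M := fun y hy => by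
      have hle : M.map (MulAut.conj (sgl (0 : Fin 2) (s c))⁻¹).toMonoidHom ≤ M := by
        rintro _ ⟨u, hu, rfl⟩; simpa using hsM c u hu
      have heq := Subgroup.eq_of_le_of_card_ge hle
        (Subgroup.card_map_of_injective (MulAut.conj _).injective).ge
      have hy' : y ∈ M.map (MulAut.conj (sgl (0 : Fin 2) (s c))⁻¹).toMonoidHom := by rw [heq]; exact hy
      obtain ⟨u, hu, rfl⟩ := hy'
      simpa [mul_assoc] using hu
    have hgM : ∀ y ∈ M, (sgl (0 : Fin 2) g)⁻¹ * y * sgl (0 : Fin 2) g ∈ M := fun y hy => by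
      have := hsM b _ (hcinv y hy)
      simpa [hg, map_mul, map_inv, mul_assoc] using this
    have hfix : ∀ (a : M), χ ⟨(sgl (0 : Fin 2) g)⁻¹ * a * sgl (0 : Fin 2) g, hgM a a.2⟩ = χ a := fun a => by
      have h := congrFun hbc ⟨_, hcinv a a.2⟩
      refine Eq.trans (congrArg χ (Subtype.ext ?_)) (h.trans (congrArg χ (Subtype.ext ?_)))
      · simp only [hg, map_mul, map_inv]; group
      · show _ * (_ * (a : USp (Fin 2) F) * _) * _ = _
        group
    have hzfix : χ ⟨x, hxM⟩⁻¹ = χ ⟨x, hxM⟩ := by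
      rcases P.quot_cases s rfl (Ne.symm hne) with h | h
      · refine Eq.trans (congrArg χ (Subtype.ext ?_)) (hfix ⟨x, hxM⟩)
        show x⁻¹ = (sgl (0 : Fin 2) g)⁻¹ * x * sgl (0 : Fin 2) g
        rw [hg, h, ← hxinv]; show σ * x * σ⁻¹ = σ⁻¹ * x * σ
        rw [hσ]
      · refine Eq.trans (congrArg χ (Subtype.ext ?_)) ((hfix ⟨_, hgM x hxM⟩).trans (hfix ⟨x, hxM⟩))
        show x⁻¹ = (sgl (0 : Fin 2) g)⁻¹ * ((sgl (0 : Fin 2) g)⁻¹ * x * sgl (0 : Fin 2) g) * sgl (0 : Fin 2) g
        rw [show (sgl (0 : Fin 2) g)⁻¹ * ((sgl (0 : Fin 2) g)⁻¹ * x * sgl (0 : Fin 2) g) * sgl (0 : Fin 2) g =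
          (sgl (0 : Fin 2) g * sgl (0 : Fin 2) g)⁻¹ * x * (sgl (0 : Fin 2) g * sgl (0 : Fin 2) g) by group, ← map_mul, hg, h, ← hxinv]
        show σ * x * σ⁻¹ = σ⁻¹ * x * σ
        rw [hσ]
    have hl2 : l * l = 1 := by
      have h := hχinv ⟨x, hxM⟩
      rwa [hzfix, hχx] at h
    obtain ⟨v, hv⟩ := End.HasEigenvalue.exists_hasEigenvector hl
    have hln : l ^ Nat.card N = 1 := by
      have h := hv.pow_apply (Nat.card N)
      rw [hpow, End.one_apply] at h
      exact smul_left_injective _ hv.2 (h.symm.trans (one_smul _ v).symm)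
    obtain ⟨t, ht⟩ := hodd
    rw [ht, pow_succ, pow_mul, pow_two, hl2, one_pow, one_mul] at hln
    exact hl1 hln

include hq hk0 hk1 hLi hLj hki hkj

/-- Invariant subgroups of odd order are centralised by the reflection. -/
theorem commute_of_odd (O : Subgroup (USp (Fin 2) F)) (hodd : Odd (Nat.card O))
    (hinv : ∀ l ∈ L, ∀ o ∈ O, l * o * l⁻¹ ∈ O) : ∀ o ∈ O, Commute (sgl (0 : Fin 2) P.z) o := by
  obtain ⟨p, hchar⟩ := CharP.exists F
  have : Fact p.Prime := ⟨CharP.char_is_prime F p⟩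
  have : Group.IsSolvable O := CfsgLib.PF.oddSolvable O hodd
  have hchr : ∀ (C : Subgroup O), C.Characteristic → ∀ l ∈ L, ∀ m ∈ C.map O.subtype,
      l * m * l⁻¹ ∈ C.map O.subtype := by
    intro C hC l hl m hm
    obtain ⟨m, hm, rfl⟩ := hm
    let e : O ≃* O :=
      { toFun := fun o => ⟨l * o * l⁻¹, hinv l hl o o.2⟩
        invFun := fun o => ⟨l⁻¹ * o * l, by simpa using hinv l⁻¹ (inv_mem hl) o o.2⟩
        left_inv := fun o => Subtype.ext (by simp [mul_assoc])
        right_inv := fun o => Subtype.ext (by simp [mul_assoc])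
        map_mul' := fun a b => Subtype.ext (by simp [mul_assoc]) }
    have he : e m ∈ C := by
      have h := Subgroup.characteristic_iff_map_eq.1 hC e
      rw [← h]; exact ⟨m, hm, rfl⟩
    exact ⟨e m, he, rfl⟩
  have hpc : Cfsg.pCore p O = ⊥ := by
    have h := eq_bot_of_pGroup hq P hk0 hk1 hLi hLj hki hkj p ((Cfsg.pCore p O).map O.subtype)
      ((CfsgLib.Fitting.pCore_isPGroup p).map _) (hchr _ (CfsgLib.Fitting.pCore_characteristic p))
    exact (Subgroup.map_eq_bot_iff_of_injective _ O.subtype_injective).1 h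
  set N := (Cfsg.fittingSubgroup O).map O.subtype with hN
  have eN : Cfsg.fittingSubgroup O ≃* N := Subgroup.equivMapOfInjective _ _ O.subtype_injective
  have : Group.IsNilpotent (Cfsg.fittingSubgroup O) := CfsgLib.Fitting.fitting_isNilpotent
  have : Group.IsNilpotent N := Group.nilpotent_of_mulEquiv eN
  have hNcard : Nat.card N = Nat.card (Cfsg.fittingSubgroup O) := (Nat.card_congr eN.toEquiv).symm
  have hNodd : Odd (Nat.card N) := by
    rw [hNcard]; exact hodd.of_dvd_nat (Subgroup.card_subgroup_dvd_card _)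
  have hpN : ¬ p ∣ Nat.card N := fun hdvd => by
    rw [hNcard] at hdvd
    obtain ⟨S⟩ : Nonempty (Sylow p (Cfsg.fittingSubgroup O)) := inferInstance
    have h := CfsgLib.Fitting.sylow_fitting_eq_pCore S
    rw [hpc, Subgroup.map_eq_bot_iff_of_injective _ (Subgroup.subtype_injective _)] at h
    exact S.ne_bot_of_dvd_card hdvd h
  have hNcomm := commute_of_nilpotent p N hNodd hpN
  have hNinv := hchr _ CfsgLib.Fitting.fitting_characteristic
  have hzN := commute_of_abelian hq P p N hNodd hpN hNcomm (fun x hx => hNinv _ hLi x hx)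
    (fun x hx => hNinv _ hLj x hx)
  have hz := sgl_z_mem P hLi
  set σ := sgl (0 : Fin 2) P.z
  have hσ : σ * σ = 1 := by rw [← map_mul, P.z_sq, map_one]
  intro o ho
  set c : O := ⟨o⁻¹ * (σ * o * σ⁻¹), mul_mem (inv_mem ho) (hinv σ hz o ho)⟩ with hc
  have hcC : c ∈ Subgroup.centralizer (Cfsg.fittingSubgroup O : Set O) := by
    rw [Subgroup.mem_centralizer_iff]
    intro n hn
    refine Subtype.ext ?_
    have hnN : (n : USp (Fin 2) F) ∈ N := ⟨n, hn, rfl⟩
    have hcn := hzN _ hnN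
    have : (Cfsg.fittingSubgroup O).Normal := CfsgLib.Fitting.fitting_normal
    have hmN : o * (n : USp (Fin 2) F) * o⁻¹ ∈ N :=
      ⟨(⟨o, ho⟩ : O) * n * (⟨o, ho⟩ : O)⁻¹, this.conj_mem n hn ⟨o, ho⟩, rfl⟩
    show (n : USp (Fin 2) F) * (o⁻¹ * (σ * o * σ⁻¹)) = o⁻¹ * (σ * o * σ⁻¹) * n
    calc (n : USp (Fin 2) F) * (o⁻¹ * (σ * o * σ⁻¹)) = o⁻¹ * ((o * n * o⁻¹) * σ) * o * σ⁻¹ := by group
      _ = o⁻¹ * (σ * (o * n * o⁻¹)) * o * σ⁻¹ := by rw [← (hzN _ hmN).eq]
      _ = o⁻¹ * σ * o * (n * σ⁻¹) := by group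
      _ = o⁻¹ * σ * o * (σ⁻¹ * n) := by rw [← hcn.inv_left.eq]
      _ = _ := by group
  have hcN : (c : USp (Fin 2) F) ∈ N := ⟨c, CfsgLib.Fitting.centralizer_fitting_le hcC, rfl⟩
  have hcc : σ * (o⁻¹ * (σ * o * σ⁻¹)) * σ⁻¹ = (o⁻¹ * (σ * o * σ⁻¹))⁻¹ := by
    have hσ' : σ⁻¹ = σ := inv_eq_of_mul_eq_one_right hσ
    simp only [_root_.mul_inv_rev, hσ', mul_assoc, inv_inv, hσ, mul_one]
  have hfix : (c : USp (Fin 2) F) = (c : USp (Fin 2) F)⁻¹ := by
    have h1 := (hzN _ hcN).eq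
    have h2 : σ * (c : USp (Fin 2) F) * σ⁻¹ = (c : USp (Fin 2) F)⁻¹ := hcc
    rw [h1, mul_inv_cancel_right] at h2
    exact h2
  have hc1 : c = 1 := by
    have hsq : c ^ 2 = 1 := Subtype.ext (by
      rw [SubmonoidClass.coe_pow, pow_two]; nth_rewrite 1 [hfix]; exact inv_mul_cancel _)
    have h := pow_gcd_eq_one.2 ⟨hsq, pow_card_eq_one' (x := c)⟩
    rwa [(Nat.coprime_two_left.2 hodd).gcd_eq_one, pow_one] at h
  have := congrArg Subtype.val hc1
  simp only [hc, Subgroup.coe_one] at this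
  rw [inv_mul_eq_one] at this
  exact mul_inv_eq_iff_eq_mul.1 this.symm

/-- The reflection is conjugate inside the group to an orthogonal one. -/
theorem exists_entry_eq_zero : ∃ l ∈ L, mat l 0 0 = 0 := by
  by_contra hall
  push Not at hall
  have h2 := PronormalPSL.two_ne_zero_of_odd_card hq
  have hz := sgl_z_mem P hLi
  have hu := conj_sgl_z_mem P hki
  set z : L := ⟨sgl (0 : Fin 2) P.z, hz⟩ with hzdef
  have hzne : sgl (0 : Fin 2) P.z ≠ 1 := fun e => h2 (by
    have h := congrArg (fun q : SL2 => (q : M2) 0 0) (sgl_injective 0 (e.trans (map_one _).symm))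
    simp [P.z_val] at h
    linear_combination -h)
  have hiso : Cfsg.IsIsolatedInvolution z := by
    refine ⟨orderOf_eq_prime ?_ fun e => hzne (congrArg Subtype.val e), fun g hg => Subtype.ext ?_⟩
    · exact Subtype.ext (by rw [SubmonoidClass.coe_pow, pow_two, hzdef, ← map_mul, P.z_sq, map_one]; rfl)
    · have hg' : Commute (sgl (0 : Fin 2) P.z) ((g : USp (Fin 2) F) * sgl (0 : Fin 2) P.z * (g : USp (Fin 2) F)⁻¹) :=
        congrArg Subtype.val hg.eq
      rcases (commute_iff h2 P _ 0 0).1 hg' with h | h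
      · exact absurd h (hall g g.2)
      · obtain ⟨-, hq'⟩ := conj_sgl_of_supported (g : USp (Fin 2) F) h
        obtain ⟨π, -, e⟩ := hq' P.z
        show (g : USp (Fin 2) F) * sgl (0 : Fin 2) P.z * (g : USp (Fin 2) F)⁻¹ = sgl (0 : Fin 2) P.z
        rw [e, show π * P.z * π⁻¹ = P.z by rw [← P.z_comm, mul_inv_cancel_right]]
  have hZ := CfsgLib.Involutions.zstar L z hiso
  set O := (Cfsg.pPrimeCore 2 L).map L.subtype
  have hOodd : Odd (Nat.card O) := by
    rw [Nat.card_congr (Subgroup.equivMapOfInjective _ _ L.subtype_injective).toEquiv.symm,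
      ← Nat.not_even_iff_odd, even_iff_two_dvd]
    exact CfsgLib.PCore.not_dvd_card_pPrimeCore
  have hOinv : ∀ l ∈ L, ∀ o ∈ O, l * o * l⁻¹ ∈ O := by
    rintro l hl _ ⟨o, ho, rfl⟩
    exact ⟨(⟨l, hl⟩ : L) * o * (⟨l, hl⟩ : L)⁻¹,
      (inferInstance : (Cfsg.pPrimeCore 2 L).Normal).conj_mem o ho _, rfl⟩
  set σ := sgl (0 : Fin 2) P.z
  set w := k * σ * k⁻¹
  have hσ : σ * σ = 1 := by rw [← map_mul, P.z_sq, map_one]
  have hσ' : σ⁻¹ = σ := inv_eq_of_mul_eq_one_right hσ
  have hw : w * w = 1 := by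
    show k * σ * k⁻¹ * (k * σ * k⁻¹) = 1
    rw [show k * σ * k⁻¹ * (k * σ * k⁻¹) = k * (σ * σ) * k⁻¹ by group, hσ, mul_one, mul_inv_cancel]
  have hw' : w⁻¹ = w := inv_eq_of_mul_eq_one_right hw
  have hcO : w * σ * w⁻¹ * σ⁻¹ ∈ O := ⟨_, hZ ⟨w, hu⟩, rfl⟩
  set c := w * σ * w⁻¹ * σ⁻¹ with hcdef
  have hcomm := commute_of_odd hq P hk0 hk1 hLi hLj hki hkj O hOodd hOinv c hcO
  have hinv' : σ * c * σ⁻¹ = c⁻¹ := by
    simp only [hcdef, _root_.mul_inv_rev, hw', hσ', mul_assoc, hσ, mul_one]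
  rw [hcomm.eq, mul_inv_cancel_right] at hinv'
  have hc1 : (⟨c, hcO⟩ : O) = 1 := by
    have hsq : (⟨c, hcO⟩ : O) ^ 2 = 1 := Subtype.ext (by
      rw [SubmonoidClass.coe_pow, pow_two]; show c * c = 1; nth_rewrite 1 [hinv']; exact inv_mul_cancel _)
    have h := pow_gcd_eq_one.2 ⟨hsq, pow_card_eq_one' (x := (⟨c, hcO⟩ : O))⟩
    rwa [(Nat.coprime_two_left.2 hOodd).gcd_eq_one, pow_one] at h
  have hcw : Commute σ w := by
    have h : c = 1 := congrArg Subtype.val hc1
    rw [hcdef, mul_inv_eq_one, mul_inv_eq_iff_eq_mul] at h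
    exact h.symm
  rcases (commute_iff h2 P k 0 0).1 hcw with h | h
  · exact hk0 h
  · exact hk1 (by rw [h 1 (by decide), det_zero])

end CfsgLib.PronormalPSp
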