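import Mathlib
import Cfsg.Agent.Lib.PronormalPSp.Four

/-!
Two orthogonal quaternion groups and a third one in general position generate the diagonal element of order three.
-/

set_option autoImplicit false
set_option linter.unusedSectionVars false

namespace CfsgLib.PronormalPSp

open Matrix Equiv CfsgLib.SympSylow

universe u

variable {F : Type u} [Field F] {α : Type*} [Fintype α] [DecidableEq α]

local notation "M2" => Matrix (Fin 2) (Fin 2) F
local notation "SL2" => Matrix.SpecialLinearGroup (Fin 2) F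

theorem commute_sgl {x y : α} (hxy : x ≠ y) (a b : SL2) : Commute (sgl x a) (sgl y b) :=
  ((Pi.mulSingle_commute (f := fun _ : α => SL2) hxy a b).map SemidirectProduct.inl).map (mon (F := F) (α := α))

/-- The conjugate depends only on the column. -/
theorem conj_sgl_congr (g g' : USp α F) (y y' : α) (h : ∀ a, mat g a y = mat g' a y') (q : SL2) :
    g * sgl y q * g⁻¹ = g' * sgl y' q * g'⁻¹ :=
  mat_inj (Matrix.ext fun a b => by rw [mat_conj_sgl, mat_conj_sgl, h, h])

theorem mat_mul_sgl (g : USp α F) (y : α) (t : SL2) (a : α) : mat (g * sgl y t) a y = mat g a y * (t : M2) := by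
  rw [mat_mul, mat_sgl, mul_add, mul_one, Matrix.add_apply, Matrix.mul_single_apply_same, mul_sub, mul_one,
    add_sub_cancel]

theorem mat_sgl_mul (g : USp α F) (y b : α) (t : SL2) (a : α) :
    mat (sgl y t * g) a b = if a = y then (t : M2) * mat g a b else mat g a b := by
  rw [mat_mul, mat_sgl, add_mul, one_mul, Matrix.add_apply]
  rcases eq_or_ne a y with rfl | ha
  · rw [if_pos rfl, Matrix.single_mul_apply_same, sub_mul, one_mul, add_sub_cancel]
  · rw [if_neg ha, Matrix.single_mul_apply_of_ne _ _ _ _ _ ha, add_zero]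

theorem mat_sgl_two (a b : SL2) : mat (sgl (0 : Fin 2) a * sgl (1 : Fin 2) b) = !![(a : M2), 0; 0, (b : M2)] := by
  refine Matrix.ext fun r c => ?_
  rw [mat_sgl_mul, mat_sgl_apply]
  fin_cases r <;> fin_cases c <;> simp

section Identities

variable {R : Type*} [Ring R] {I J : R}

theorem quat_rules (hII : I * I = -1) (hJJ : J * J = -1) (hJI : J * I = -(I * J)) (x : R) :
    I * (I * x) = -x ∧ J * (J * x) = -x ∧ J * (I * x) = -(I * (J * x)) := by
  refine ⟨by rw [← mul_assoc, hII, neg_one_mul], by rw [← mul_assoc, hJJ, neg_one_mul], ?_⟩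
  rw [← mul_assoc, hJI, neg_mul, mul_assoc]

/-- The product of three reflected quaternions. -/
theorem three_reflections (hII : I * I = -1) (hJJ : J * J = -1) (hJI : J * I = -(I * J)) :
    (!![1 + I, 1 - I; 1 - I, 1 + I] : Matrix (Fin 2) (Fin 2) R) * !![1 + J, 1 - J; 1 - J, 1 + J] *
      !![J, 0; 0, 1] * !![1 + I, 1 - I; 1 - I, 1 + I] =
      (4 : ℤ) • !![1 - I + J - I * J, 0; 0, 1 + I + J + I * J] := by
  have h1 := fun x => (quat_rules hII hJJ hJI x).1
  have h2 := fun x => (quat_rules hII hJJ hJI x).2.1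
  have h3 := fun x => (quat_rules hII hJJ hJI x).2.2
  rw [Matrix.mul_fin_two, Matrix.mul_fin_two, Matrix.mul_fin_two]
  refine Matrix.ext fun r c => ?_
  fin_cases r <;> fin_cases c <;>
  · simp only [Fin.mk_zero, Fin.mk_one, Matrix.smul_apply, Matrix.of_apply, Matrix.cons_val', Matrix.cons_val_zero,
      Matrix.cons_val_one, Matrix.empty_val', Matrix.cons_val_fin_one]
    simp only [add_mul, mul_add, sub_mul, mul_sub, one_mul, mul_one, mul_zero, zero_mul, add_zero, zero_add,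
      mul_assoc, h1, h2, h3, hII, hJJ, hJI, mul_neg, neg_mul, neg_neg]
    abel

/-- The square of `-1 + I + J + IJ`. -/
theorem omega_square (hII : I * I = -1) (hJJ : J * J = -1) (hJI : J * I = -(I * J)) :
    (-1 + I + J + I * J) * (-1 + I + J + I * J) = (2 : ℤ) • (-1 - I - J - I * J) := by
  have h1 := fun x => (quat_rules hII hJJ hJI x).1
  have h2 := fun x => (quat_rules hII hJJ hJI x).2.1
  have h3 := fun x => (quat_rules hII hJJ hJI x).2.2
  simp only [add_mul, mul_add, neg_mul, mul_neg, one_mul, mul_one, mul_assoc, h1, h2, h3, hII, hJJ, hJI, neg_neg]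
  abel

end Identities

/-- The odd part of an extension by a central subgroup of order two. -/
theorem exists_odd_lift {G : Type*} [Group G] [Finite G] (E : Subgroup G) [E.Normal]
    (hc : ∀ e ∈ E, ∀ g : G, g * e = e * g) (hE : Nat.card E = 2) (Ob : Subgroup (G ⧸ E)) [hOb : Ob.Normal]
    (hodd : Odd (Nat.card Ob)) : ∃ O : Subgroup G, O.Normal ∧ Odd (Nat.card O) ∧
      ∀ x : G, QuotientGroup.mk' E x ∈ Ob → ∃ o ∈ O, ∃ e ∈ E, x = o * e := by
  set π := QuotientGroup.mk' E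
  set O' := Ob.comap π
  have hEO : E ≤ O' := fun e he => by
    show π e ∈ Ob
    rw [show π e = 1 from (QuotientGroup.eq_one_iff e).2 he]; exact one_mem _
  have hE2 : Nat.card (E.subgroupOf O') = 2 := by
    rw [Nat.card_congr (Subgroup.subgroupOfEquivOfLe hEO).toEquiv, hE]
  have hidx : (E.subgroupOf O').index = Nat.card Ob := by
    have hk : (π.comp O'.subtype).ker = E.subgroupOf O' := by
      rw [← MonoidHom.comap_ker, QuotientGroup.ker_mk']; rfl
    rw [← hk, Subgroup.index_ker, MonoidHom.range_comp, Subgroup.range_subtype,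
      Subgroup.map_comap_eq_self_of_surjective (QuotientGroup.mk'_surjective E)]
  obtain ⟨K, hK⟩ := Subgroup.exists_left_complement'_of_coprime (N := E.subgroupOf O')
    (by rw [hE2, hidx]; exact Nat.coprime_two_left.2 hodd)
  have hKcard : Nat.card K = Nat.card Ob := by
    have h := hK.card_mul
    rw [hE2, ← Subgroup.index_mul_card (E.subgroupOf O'), hE2, hidx] at h
    exact Nat.eq_of_mul_eq_mul_right two_pos h
  have hdec : ∀ x : O', ∃ a ∈ K, ∃ e ∈ E.subgroupOf O', x = a * e := fun x => by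
    obtain ⟨⟨⟨a, ha⟩, ⟨e, he⟩⟩, hae⟩ := hK.2 x
    exact ⟨a, ha, e, he, hae.symm⟩
  refine ⟨K.map O'.subtype, ⟨?_⟩, ?_, fun x hx => ?_⟩
  · rintro _ ⟨o, ho, rfl⟩ g
    set y : O' := ⟨g * o * g⁻¹, (hOb.comap π).conj_mem _ o.2 g⟩
    refine ⟨y, ?_, rfl⟩
    obtain ⟨a, ha, e, he, hy⟩ := hdec y
    have hyc : y ^ Nat.card K = 1 := Subtype.ext (by
      rw [SubmonoidClass.coe_pow]
      show (g * (o : G) * g⁻¹) ^ Nat.card K = 1
      rw [conj_pow, ← SubmonoidClass.coe_pow, show o ^ Nat.card K = 1 from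
        congrArg Subtype.val (pow_card_eq_one' (x := (⟨o, ho⟩ : K))), Subgroup.coe_one, mul_one, mul_inv_cancel])
    have hc' : Commute a e := Subtype.ext (hc _ he (a : G))
    rw [hy, hc'.mul_pow, show a ^ Nat.card K = 1 from congrArg Subtype.val (pow_card_eq_one' (x := (⟨a, ha⟩ : K))),
      one_mul] at hyc
    have he2 : e ^ 2 = 1 := congrArg Subtype.val (hE2 ▸ pow_card_eq_one' (x := (⟨e, he⟩ : E.subgroupOf O')))
    have he1 := pow_gcd_eq_one.2 ⟨he2, hyc⟩
    rw [(Nat.coprime_two_left.2 (hKcard ▸ hodd)).gcd_eq_one, pow_one] at he1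
    rw [hy, he1, mul_one]; exact ha
  · rwa [Nat.card_congr (Subgroup.equivMapOfInjective K _ O'.subtype_injective).toEquiv.symm, hKcard]
  · obtain ⟨a, ha, e, he, hae⟩ := hdec ⟨x, hx⟩
    exact ⟨_, ⟨a, ha, rfl⟩, _, he, congrArg Subtype.val hae⟩

/-- Glauberman's theorem applied modulo a central involution. -/
theorem commute_or_anticommute {G : Type*} [Group G] [Finite G] (X : Subgroup G) {σ ε : G} (hσX : σ ∈ X)
    (hεX : ε ∈ X) (hεc : ∀ g, ε * g = g * ε) (hεε : ε * ε = 1) (hε1 : ε ≠ 1) (hσσ : σ * σ = 1) (hσ1 : σ ≠ 1)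
    (hσε : σ ≠ ε)
    (hfus : ∀ g ∈ X, Commute σ (g * σ * g⁻¹) → g * σ * g⁻¹ = σ ∨ g * σ * g⁻¹ = ε * σ)
    (hanti : ∀ g ∈ X, g * σ * g⁻¹ * σ * (g * σ * g⁻¹ * σ) ≠ ε)
    (hcore : ∀ O : Subgroup G, Odd (Nat.card O) → (∀ l ∈ X, ∀ o ∈ O, l * o * l⁻¹ ∈ O) → ∀ o ∈ O, Commute σ o)
    {u : G} (hu : u ∈ X) (huu : u * u = 1) : Commute σ u ∨ u * σ * (u * σ) = ε := by
  have hσ' : σ⁻¹ = σ := inv_eq_of_mul_eq_one_right hσσ
  have hu' : u⁻¹ = u := inv_eq_of_mul_eq_one_right huu
  let εX : X := ⟨ε, hεX⟩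
  let σX : X := ⟨σ, hσX⟩
  let E : Subgroup X :=
    { carrier := {x | x = 1 ∨ x = εX}
      one_mem' := Or.inl rfl
      mul_mem' := fun {a b} ha hb => by
        rcases ha with rfl | rfl <;> rcases hb with rfl | rfl
        · exact Or.inl (one_mul _)
        · exact Or.inr (one_mul _)
        · exact Or.inr (mul_one _)
        · exact Or.inl (Subtype.ext hεε)
      inv_mem' := fun {a} ha => by
        rcases ha with rfl | rfl
        · exact Or.inl inv_one
        · exact Or.inr (inv_eq_of_mul_eq_one_right (Subtype.ext hεε)) }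
  have hEc : ∀ e ∈ E, ∀ g : X, g * e = e * g := by
    rintro e (rfl | rfl) g
    · rw [mul_one, one_mul]
    · exact Subtype.ext (hεc g).symm
  have : E.Normal := ⟨fun e he g => by rwa [hEc e he g, mul_inv_cancel_right]⟩
  set π := QuotientGroup.mk' E
  have hmem : ∀ x : X, π x = 1 ↔ (x : G) = 1 ∨ (x : G) = ε := fun x => by
    rw [QuotientGroup.mk'_apply, QuotientGroup.eq_one_iff]
    exact ⟨fun h => h.imp (congrArg Subtype.val) (congrArg Subtype.val),
      fun h => h.imp (fun e => Subtype.ext e) (fun e => Subtype.ext e)⟩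
  have hσπ : π σX * π σX = 1 := by rw [← map_mul, show σX * σX = 1 from Subtype.ext hσσ, map_one]
  have hiso : Cfsg.IsIsolatedInvolution (π σX) := by
    refine ⟨orderOf_eq_prime (by rw [pow_two]; exact hσπ) fun e => ((hmem _).1 e).elim hσ1 hσε, ?_⟩
    intro y hy
    obtain ⟨g, rfl⟩ := QuotientGroup.mk'_surjective E y
    have hconj : π g * π σX * (π g)⁻¹ = π (g * σX * g⁻¹) := by rw [map_mul, map_mul, map_inv]
    rw [hconj] at hy ⊢
    set dX := g * σX * g⁻¹ with hdX
    set d : G := (g : G) * σ * (g : G)⁻¹ with hd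
    have hdd : d * d = 1 := by
      rw [hd, show (g : G) * σ * (g : G)⁻¹ * ((g : G) * σ * (g : G)⁻¹) = (g : G) * (σ * σ) * (g : G)⁻¹ by group,
        hσσ, mul_one, mul_inv_cancel]
    have hd' : d⁻¹ = d := inv_eq_of_mul_eq_one_right hdd
    have hdπ : π dX * π dX = 1 := by rw [← map_mul, show dX * dX = 1 from Subtype.ext hdd, map_one]
    have hc : π (dX * σX * (dX * σX)) = 1 := by
      rw [map_mul, map_mul, mul_assoc, ← mul_assoc (π σX), hy.eq, mul_assoc (π dX) (π σX), hσπ, mul_one, hdπ]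
    rcases (hmem _).1 hc with h | h
    · have h' : d * σ * (d * σ) = 1 := h
      rcases hfus g g.2 (show Commute σ d from by
        show σ * d = d * σ
        calc σ * d = (d * σ)⁻¹ := by rw [_root_.mul_inv_rev, hd', hσ']
          _ = d * σ := inv_eq_of_mul_eq_one_right h') with e | e
      · rw [show dX = σX from Subtype.ext e]
      · rw [show dX = εX * σX from Subtype.ext e, map_mul, (hmem εX).2 (Or.inr rfl), one_mul]
    · exact absurd h (hanti g g.2)
  have hZ := CfsgLib.Involutions.zstar _ _ hiso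
  have hE2 : Nat.card E = 2 := by
    rw [Nat.card_eq_two_iff' (⟨1, one_mem _⟩ : E)]
    exact ⟨⟨εX, Or.inr rfl⟩, fun e => hε1 (congrArg (fun x : E => ((x : X) : G)) e), fun y hy =>
      y.2.elim (fun e => absurd (Subtype.ext e) hy) fun e => Subtype.ext e⟩
  obtain ⟨K, hKn, hKodd, hdec⟩ := exists_odd_lift E hEc hE2 (Cfsg.pPrimeCore 2 (X ⧸ E)) (by
    rw [← Nat.not_even_iff_odd, even_iff_two_dvd]
    exact CfsgLib.PCore.not_dvd_card_pPrimeCore)
  have hO : ∀ o ∈ K.map X.subtype, Commute σ o := hcore _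
    (by rwa [Nat.card_congr (Subgroup.equivMapOfInjective K _ X.subtype_injective).toEquiv.symm])
    (by
      rintro l hl _ ⟨o, ho, rfl⟩
      exact ⟨⟨l, hl⟩ * o * (⟨l, hl⟩ : X)⁻¹, hKn.conj_mem o ho _, rfl⟩)
  obtain ⟨a, ha, e, he, hae⟩ := hdec ((⟨u, hu⟩ : X) * σX * (⟨u, hu⟩ : X)⁻¹ * σX⁻¹) (by
    rw [map_mul, map_mul, map_mul, map_inv, map_inv]; exact hZ (π ⟨u, hu⟩))
  have hec : (e : G) = 1 ∨ (e : G) = ε := Or.imp (congrArg Subtype.val) (congrArg Subtype.val) he
  set o : G := (a : G) with ho'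
  set t : G := (e : G)
  have hc : u * σ * (u * σ) = o * t := by
    have h : u * σ * u⁻¹ * σ⁻¹ = o * t := congrArg Subtype.val hae
    rw [← h, hu', hσ', ← mul_assoc]
  have htt : t * t = 1 ∧ ∀ g, t * g = g * t := by
    rcases hec with h | h <;> rw [h]
    · exact ⟨one_mul _, fun g => by rw [one_mul, mul_one]⟩
    · exact ⟨hεε, hεc⟩
  have ho : o * o = 1 := by
    have hσo : σ * o = o * σ := (hO o ⟨a, ha, rfl⟩).eq
    have h1 : σ * (u * σ * (u * σ)) * σ = (u * σ * (u * σ))⁻¹ := by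
      simp only [_root_.mul_inv_rev, hu', hσ', mul_assoc, hσσ, mul_one]
    rw [hc, show σ * (o * t) * σ = (σ * o) * (t * σ) by group, hσo, htt.2,
      show o * σ * (σ * t) = o * (σ * σ) * t by group, hσσ, mul_one] at h1
    have h2 := mul_eq_one_iff_eq_inv.2 h1
    rwa [show o * t * (o * t) = o * (t * o) * t by group, htt.2 o,
      show o * (o * t) * t = o * o * (t * t) by group, htt.1, mul_one] at h2
  have ho1 : o = 1 := by
    have hp : a ^ 2 = 1 := Subtype.ext (by rw [SubmonoidClass.coe_pow, pow_two]; exact ho)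
    have hq : a ^ Nat.card K = 1 := congrArg Subtype.val (pow_card_eq_one' (x := (⟨a, ha⟩ : K)))
    have h := pow_gcd_eq_one.2 ⟨hp, hq⟩
    rw [(Nat.coprime_two_left.2 hKodd).gcd_eq_one, pow_one] at h
    exact congrArg Subtype.val h
  rw [ho1, one_mul] at hc
  rcases hec with h | h
  · left
    show σ * u = u * σ
    calc σ * u = (u * σ)⁻¹ := by rw [_root_.mul_inv_rev, hu', hσ']
      _ = u * σ := inv_eq_of_mul_eq_one_right (hc.trans h)
  · exact Or.inr (hc.trans h)

variable [Fintype F] (hq : Odd (Fintype.card F)) (P : QPair F) (Q : Sylow 2 (Matrix.SpecialLinearGroup (Fin 2) F))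
  (hPi : P.i ∈ Q.toSubgroup) (hPj : P.j ∈ Q.toSubgroup)
  {X : Subgroup (USp (Fin 2) F)}
  (hQ0 : ∀ a : Matrix.SpecialLinearGroup (Fin 2) F, a ∈ Q.toSubgroup → sgl (0 : Fin 2) a ∈ X)
  (hQ1 : ∀ a : Matrix.SpecialLinearGroup (Fin 2) F, a ∈ Q.toSubgroup → sgl (1 : Fin 2) a ∈ X)
  {k : USp (Fin 2) F} (hk0 : mat k 0 0 ≠ 0) (hk1 : (mat k 1 0).det ≠ 0)
  (hkQ : ∀ a : Matrix.SpecialLinearGroup (Fin 2) F, a ∈ Q.toSubgroup → k * sgl (0 : Fin 2) a * k⁻¹ ∈ X)

include hq hPi hPj hQ0 hQ1 hk0 hk1 hkQ in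
/-- A conjugate of the reflection anticommutes with it. -/
theorem exists_anticommute : ∃ h : USp (Fin 2) F, (∀ a : SL2, a ∈ Q.toSubgroup → h * sgl (0 : Fin 2) a * h⁻¹ ∈ X) ∧
    h * sgl (0 : Fin 2) P.z * h⁻¹ * sgl (0 : Fin 2) P.z * (h * sgl (0 : Fin 2) P.z * h⁻¹ * sgl (0 : Fin 2) P.z) =
      sgl (0 : Fin 2) P.z * sgl (1 : Fin 2) P.z := by
  by_contra hall
  have h2 := PronormalPSL.two_ne_zero_of_odd_card hq
  have hzQ : P.z ∈ Q.toSubgroup := mul_mem hPi hPi
  have hεmat : mat (sgl (0 : Fin 2) P.z * sgl (1 : Fin 2) P.z) = -1 := by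
    rw [mat_sgl_two, P.z_val]
    refine Matrix.ext fun r c => ?_
    fin_cases r <;> fin_cases c <;> simp
  have hz1 : P.z ≠ 1 := fun e => h2 (by
    have h := congrArg (fun q : SL2 => (q : M2) 0 0) e
    simp [P.z_val] at h
    linear_combination -h)
  have hs1 : sgl (0 : Fin 2) P.z ≠ 1 := fun e => hz1 (sgl_injective _ (e.trans (map_one _).symm))
  have hs2 : sgl (1 : Fin 2) P.z ≠ 1 := fun e => hz1 (sgl_injective _ (e.trans (map_one _).symm))
  have hsq : sgl (0 : Fin 2) P.z * sgl (0 : Fin 2) P.z = 1 := by rw [← map_mul, P.z_sq, map_one]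
  have hne : sgl (0 : Fin 2) P.z * sgl (1 : Fin 2) P.z ≠ 1 := fun e => h2 (by
    have h := congrFun (congrFun (congrFun (congrFun (congrArg mat e) 0) 0) 0) 0
    rw [hεmat, mat_one] at h
    simp at h
    linear_combination -h)
  rcases commute_or_anticommute X (σ := sgl (0 : Fin 2) P.z) (ε := sgl (0 : Fin 2) P.z * sgl (1 : Fin 2) P.z)
    (hQ0 _ hzQ) (mul_mem (hQ0 _ hzQ) (hQ1 _ hzQ))
    (fun g => mat_inj (by rw [mat_mul, mat_mul g, hεmat, neg_one_mul, mul_neg, mul_one]))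
    (mat_inj (by rw [mat_mul, hεmat, neg_mul_neg, one_mul, mat_one]))
    hne hsq hs1 (fun e => hs2 (left_eq_mul.1 e))
    (fun g _ hg => by
      rcases (commute_iff h2 P _ 0 0).1 hg with h0 | h0
      · obtain ⟨-, hq'⟩ := conj_sgl_of_supported g (x := 1) (y := 0) (by
          intro a ha; fin_cases a
          · exact h0
          · exact absurd rfl ha)
        obtain ⟨r, -, e⟩ := hq' P.z
        rw [show r * P.z * r⁻¹ = P.z by rw [← P.z_comm, mul_inv_cancel_right]] at e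
        refine Or.inr ?_
        rw [e, (commute_sgl (by decide : (0 : Fin 2) ≠ 1) P.z P.z).eq, mul_assoc, hsq, mul_one]
      · obtain ⟨-, hq'⟩ := conj_sgl_of_supported g h0
        obtain ⟨r, -, e⟩ := hq' P.z
        rw [show r * P.z * r⁻¹ = P.z by rw [← P.z_comm, mul_inv_cancel_right]] at e
        exact Or.inl e)
    (fun g hg e => hall ⟨g, fun a ha => mul_mem (mul_mem hg (hQ0 a ha)) (inv_mem hg), e⟩)
    (fun O hO hinv => commute_of_odd hq P hk0 hk1 (hQ0 _ hPi) (hQ0 _ hPj) (hkQ _ hPi) (hkQ _ hPj) O hO hinv)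
    (u := k * sgl (0 : Fin 2) P.z * k⁻¹) (hkQ _ hzQ)
    (by rw [show k * sgl (0 : Fin 2) P.z * k⁻¹ * (k * sgl (0 : Fin 2) P.z * k⁻¹) =
      k * (sgl (0 : Fin 2) P.z * sgl (0 : Fin 2) P.z) * k⁻¹ by group, hsq, mul_one, mul_inv_cancel]) with h | h
  · rcases (commute_iff h2 P k 0 0).1 h with h | h
    · exact hk0 h
    · exact hk1 (by rw [h 1 (by decide), det_zero])
  · exact hall ⟨k, hkQ, h⟩

set_option maxHeartbeats 2000000 in
include hq hPi hPj hQ0 hQ1 hk0 hk1 hkQ in
/-- The diagonal element of order three. -/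
theorem omega_pair (w : SL2) (hw3 : w * w * w = 1)
    (hwval : (w : M2) = (2⁻¹ : F) • (-1 + (P.i : M2) + P.j + (P.i : M2) * P.j))
    (hwN : w ∈ Subgroup.normalizer (Q.toSubgroup : Set SL2))
    (hN : ∀ x ∈ Subgroup.normalizer (Q.toSubgroup : Set SL2), ∃ t : ℕ, ∃ a ∈ Q.toSubgroup, x = w ^ t * a) :
    sgl (0 : Fin 2) w * sgl (1 : Fin 2) w ∈ X := by
  have h2 := PronormalPSL.two_ne_zero_of_odd_card hq
  have hzQ : P.z ∈ Q.toSubgroup := mul_mem hPi hPi
  obtain ⟨h₀, hh₀, hanti⟩ := exists_anticommute hq P Q hPi hPj hQ0 hQ1 hk0 hk1 hkQ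
  -- the shape of the anticommuting conjugate
  have hshape : ∀ h : USp (Fin 2) F,
      h * sgl (0 : Fin 2) P.z * h⁻¹ * sgl (0 : Fin 2) P.z * (h * sgl (0 : Fin 2) P.z * h⁻¹ * sgl (0 : Fin 2) P.z) =
        sgl (0 : Fin 2) P.z * sgl (1 : Fin 2) P.z →
      mat (h * sgl (0 : Fin 2) P.z * h⁻¹) 0 0 = 0 ∧ mat (h * sgl (0 : Fin 2) P.z * h⁻¹) 1 1 = 0 := by
    intro h hh
    set d := h * sgl (0 : Fin 2) P.z * h⁻¹ with hd
    set σ := sgl (0 : Fin 2) P.z with hσ
    have hσσ : σ * σ = 1 := by rw [hσ, ← map_mul, P.z_sq, map_one]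
    have hdd : d * d = 1 := by
      rw [hd, show h * σ * h⁻¹ * (h * σ * h⁻¹) = h * (σ * σ) * h⁻¹ by group, hσσ, mul_one, mul_inv_cancel]
    have e : d * σ = σ * sgl (1 : Fin 2) P.z * (σ * d) := by
      rw [← hh, show d * σ * (d * σ) * (σ * d) = d * σ * (d * (σ * σ) * d) by group, hσσ, mul_one, hdd, mul_one]
    have key : ∀ a : Fin 2, mat d a a = 0 := fun a => by
      have h1 := congrFun (congrFun (congrArg mat e) a) a
      have hm : mat (σ * sgl (1 : Fin 2) P.z) = -1 := by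
        rw [hσ, mat_sgl_two, P.z_val]
        refine Matrix.ext fun r c => ?_
        fin_cases r <;> fin_cases c <;> simp
      rw [mat_mul (σ * sgl (1 : Fin 2) P.z), hm, neg_one_mul, Matrix.neg_apply, hσ, mat_sgl_mul, mat_mul,
        mat_sgl, mul_add, mul_one, Matrix.add_apply, P.z_val] at h1
      fin_cases a
      · simp only [Fin.mk_zero, Matrix.mul_single_apply_same, if_true] at h1 ⊢
        rw [mul_sub, mul_neg, mul_one, neg_one_mul, neg_neg, ← sub_eq_zero] at h1
        have : (-2 : F) • mat d 0 0 = 0 := by rw [← h1, neg_smul, two_smul]; abel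
        exact (smul_eq_zero.1 this).resolve_left (neg_ne_zero.2 h2)
      · simp only [Fin.mk_one, Fin.reduceEq, if_false, Matrix.mul_single_apply_of_ne _ _ _ _ _
          (by decide : (1 : Fin 2) ≠ 0), add_zero] at h1 ⊢
        have : (2 : F) • mat d 1 1 = 0 := by rw [two_smul]; nth_rewrite 1 [h1]; exact neg_add_cancel _
        exact (smul_eq_zero.1 this).resolve_left h2
    exact ⟨key 0, key 1⟩
  have hdet : ∀ h : USp (Fin 2) F, mat (h * sgl (0 : Fin 2) P.z * h⁻¹) 0 0 = 0 →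
      2 * (mat h 0 0).det = 1 ∧ 2 * (mat h 1 0).det = 1 := by
    intro h hh
    rw [mat_conj_sgl, Matrix.one_apply_eq, P.z_val, show ((-1 : M2) - 1) = (-2 : F) • (1 : M2) by
      rw [neg_smul, two_smul]; abel, mul_smul_comm, mul_one, smul_mul_assoc, mul_adj, smul_smul] at hh
    have h1 := congrFun (congrFun hh 0) 0
    simp at h1
    have hs := sum_det h 0
    rw [Fin.sum_univ_two] at hs
    constructor
    · linear_combination -h1
    · linear_combination h1 + 2 * hs
  -- normalise the off-diagonal entry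
  obtain ⟨h, hh, c, g, hgN, hc, hh00, hh10⟩ : ∃ h : USp (Fin 2) F,
      (∀ a : SL2, a ∈ Q.toSubgroup → h * sgl (0 : Fin 2) a * h⁻¹ ∈ X) ∧ ∃ (c : M2) (g : SL2),
      g ∈ Subgroup.normalizer (Q.toSubgroup : Set SL2) ∧ 2 * c.det = 1 ∧ mat h 0 0 = c ∧
      mat h 1 0 = -(((g⁻¹ : SL2) : M2) * c) := by
    obtain ⟨hd0, -⟩ := hshape h₀ hanti
    obtain ⟨hd1, hd2⟩ := hdet h₀ hd0
    let g₀ : SL2 := ⟨(-2 : F) • (mat h₀ 0 0 * adjugate (mat h₀ 1 0)), by
      rw [det_smul, det_mul, det_adjugate, Fintype.card_fin, show 2 - 1 = 1 from rfl, pow_one, pow_two]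
      linear_combination (2 * (mat h₀ 1 0).det) * hd1 + hd2⟩
    set d := h₀ * sgl (0 : Fin 2) P.z * h₀⁻¹
    have hdX : d ∈ X := hh₀ _ hzQ
    have hd10 : mat d 1 0 = ((g₀⁻¹ : SL2) : M2) := by
      rw [Matrix.SpecialLinearGroup.coe_inv, mat_conj_sgl, Matrix.one_apply_ne (by decide), zero_add, P.z_val,
        show ((-1 : M2) - 1) = (-2 : F) • (1 : M2) by rw [neg_smul, two_smul]; abel]
      show _ = adjugate ((-2 : F) • (mat h₀ 0 0 * adjugate (mat h₀ 1 0)))
      rw [adjugate_smul, Fintype.card_fin, pow_one, adjugate_mul_distrib, adj_adj, mul_smul_comm, mul_one,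
        smul_mul_assoc]
    obtain ⟨-, hconj⟩ := conj_sgl_of_supported d (x := 1) (y := 0) (by
      intro a ha; fin_cases a
      · exact hd0
      · exact absurd rfl ha)
    set A := X.comap (sgl (1 : Fin 2))
    have hgA : ((g₀⁻¹ • Q : Sylow 2 SL2) : Subgroup SL2) ≤ A := by
      rw [Sylow.coe_subgroup_smul]
      rintro _ ⟨q, hq', rfl⟩
      obtain ⟨π, hπ, e⟩ := hconj q
      have hπ' : π = g₀⁻¹ := sl_ext (hπ.trans hd10)
      show sgl (1 : Fin 2) (g₀⁻¹ * q * (g₀⁻¹)⁻¹) ∈ X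
      rw [← hπ', ← e]
      exact mul_mem (mul_mem hdX (hQ0 q hq')) (inv_mem hdX)
    obtain ⟨a, ha⟩ := MulAction.exists_smul_eq ↥A ((g₀⁻¹ • Q).subtype hgA) (Q.subtype (N := A) hQ1)
    have hfix : ((a : SL2) * g₀⁻¹) • Q = Q := by
      rw [mul_smul]
      apply Sylow.subtype_injective (N := A) (hP := ?_) (hQ := hQ1)
      · rw [← ha, Sylow.smul_subtype]; rfl
    have hN' : g₀ * (a : SL2)⁻¹ ∈ Subgroup.normalizer (Q.toSubgroup : Set SL2) := by
      have := inv_mem (Sylow.smul_eq_iff_mem_normalizer.1 hfix)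
      simpa [_root_.mul_inv_rev] using this
    refine ⟨sgl (1 : Fin 2) (a : SL2) * h₀, fun q hq' => ?_, mat h₀ 0 0, g₀ * (a : SL2)⁻¹, hN', hd1, ?_, ?_⟩
    · have := mul_mem (mul_mem (show sgl (1 : Fin 2) (a : SL2) ∈ X from a.2) (hh₀ q hq'))
        (inv_mem (show sgl (1 : Fin 2) (a : SL2) ∈ X from a.2))
      simpa [mul_assoc] using this
    · rw [mat_sgl_mul, if_neg (by decide)]
    · rw [mat_sgl_mul, if_pos rfl, _root_.mul_inv_rev, inv_inv, Matrix.SpecialLinearGroup.coe_mul,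
        Matrix.SpecialLinearGroup.coe_inv, mul_assoc, ← mul_neg]
      congr 1
      show _ = -(adjugate ((-2 : F) • (mat h₀ 0 0 * adjugate (mat h₀ 1 0))) * mat h₀ 0 0)
      rw [adjugate_smul, Fintype.card_fin, pow_one, adjugate_mul_distrib, adj_adj, smul_mul_assoc, mul_assoc,
        adj_mul, mul_smul_comm, mul_one, smul_smul, ← neg_smul,
        show -(-2 * (mat h₀ 0 0).det) = (1 : F) by linear_combination hd1, one_smul]
  -- the conjugation by the column
  have hcc : c * adjugate c = c.det • 1 := mul_adj c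
  have hc2 : c.det ≠ 0 := fun e => one_ne_zero (α := F) (by rw [← hc, e, mul_zero])
  have hγdet : ∀ q : SL2, ((2 : F) • (c * (q : M2) * adjugate c)).det = 1 := fun q => by
    rw [det_smul, det_mul, det_mul, det_adjugate, q.2, Fintype.card_fin, show 2 - 1 = 1 from rfl, pow_one,
      mul_one, pow_two]
    linear_combination (2 * c.det + 1) * hc
  let γ : SL2 →* SL2 := MonoidHom.mk' (fun q => ⟨_, hγdet q⟩) fun q r => sl_ext (by
    show (2 : F) • (c * ((q : M2) * (r : M2)) * adjugate c) =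
      ((2 : F) • (c * (q : M2) * adjugate c)) * ((2 : F) • (c * (r : M2) * adjugate c))
    rw [smul_mul_smul_comm, show c * (q : M2) * adjugate c * (c * (r : M2) * adjugate c) =
      c * (q : M2) * (adjugate c * c) * ((r : M2) * adjugate c) by noncomm_ring, adj_mul, mul_smul_comm, mul_one,
      smul_mul_assoc, smul_smul, mul_assoc (2 : F), hc, mul_one]
    simp only [mul_assoc])
  have hγc : ∀ q : SL2, (γ q : M2) * c = c * (q : M2) := fun q => by
    show ((2 : F) • (c * (q : M2) * adjugate c)) * c = _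
    rw [smul_mul_assoc, mul_assoc _ (adjugate c) c, adj_mul, mul_smul_comm, mul_one, smul_smul, hc, one_smul]
  have hγi : Function.Injective γ := (injective_iff_map_eq_one γ).2 fun q hq' => sl_ext (by
    have h1 : c = c * (q : M2) := by rw [← hγc, hq', Matrix.SpecialLinearGroup.coe_one, one_mul]
    have h2' := congrArg (fun M => adjugate c * M) h1
    simp only [← mul_assoc, adj_mul, smul_mul_assoc, one_mul] at h2'
    exact (smul_right_injective M2 hc2 h2').symm)
  set A := (X.comap (MulAut.conj h).toMonoidHom).comap (sgl (0 : Fin 2))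
  have hQA : Q.toSubgroup ≤ A := fun q hq' => hh q hq'
  set B := A.map γ
  have hQB : Q.toSubgroup ≤ B := by
    have hnorm : Q.toSubgroup ≤ Subgroup.normalizer (B : Set SL2) := by
      intro s hs
      obtain ⟨t, rfl⟩ := (Finite.injective_iff_surjective.1 hγi) s
      refine PronormalPSL.mem_normalizer_of_conj ?_
      rintro _ ⟨q, hq', rfl⟩
      refine ⟨t * q * t⁻¹, ?_, by rw [map_mul, map_mul, map_inv]⟩
      set g' := g⁻¹ * γ t * g
      have hg' : g' ∈ Q.toSubgroup := by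
        have := (Subgroup.mem_normalizer_iff.1 (inv_mem hgN) (γ t)).1 hs
        simpa [g', inv_inv] using this
      set m := sgl (0 : Fin 2) (γ t) * sgl (1 : Fin 2) g'
      have hm : m ∈ X := mul_mem (hQ0 _ hs) (hQ1 _ hg')
      have hcol : ∀ a, mat (h * sgl (0 : Fin 2) t) a 0 = mat (m * h) a 0 := by
        intro a
        rw [mat_mul_sgl, show m * h = sgl (0 : Fin 2) (γ t) * (sgl (1 : Fin 2) g' * h) from mul_assoc _ _ _,
          mat_sgl_mul, mat_sgl_mul]
        fin_cases a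
        · simp only [Fin.mk_zero, if_true, Fin.reduceEq, if_false, hh00, hγc]
        · simp only [Fin.mk_one, if_true, Fin.reduceEq, if_false, hh10, g']
          rw [Matrix.SpecialLinearGroup.coe_mul, Matrix.SpecialLinearGroup.coe_mul, mul_neg, mul_assoc _ (g : M2),
            ← mul_assoc (g : M2), ← sl_val_mul g g⁻¹, mul_inv_cancel, Matrix.SpecialLinearGroup.coe_one, one_mul,
            mul_assoc, hγc, neg_mul, mul_assoc]
      show h * sgl (0 : Fin 2) (t * q * t⁻¹) * h⁻¹ ∈ X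
      rw [show h * sgl (0 : Fin 2) (t * q * t⁻¹) * h⁻¹ =
        (h * sgl (0 : Fin 2) t) * sgl (0 : Fin 2) q * (h * sgl (0 : Fin 2) t)⁻¹ by
          simp only [map_mul, map_inv]; group, conj_sgl_congr _ (m * h) 0 0 hcol,
        show m * h * sgl (0 : Fin 2) q * (m * h)⁻¹ = m * (h * sgl (0 : Fin 2) q * h⁻¹) * m⁻¹ by group]
      exact mul_mem (mul_mem hm hq') (inv_mem hm)
    have hBodd : ¬ 2 ∣ B.index := by
      have : Fact (Nat.Prime 2) := ⟨Nat.prime_two⟩
      intro h2B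
      apply (Q : Sylow 2 SL2).not_dvd_index
      have hcard : Nat.card B = Nat.card A := (Nat.card_congr (Subgroup.equivMapOfInjective A γ hγi).toEquiv).symm
      have hAB : B.index = A.index := by
        have e1 := Subgroup.card_mul_index B
        have e2 := Subgroup.card_mul_index A
        rw [hcard, ← e2] at e1
        exact Nat.eq_of_mul_eq_mul_left Nat.card_pos e1
      exact h2B.trans (hAB ▸ Subgroup.index_dvd_of_le hQA)
    obtain ⟨r, hr⟩ := IsPGroup.iff_card.1 Q.isPGroup'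
    have hd : B.relIndex Q.toSubgroup ∣ B.index := by
      have hn : (B.subgroupOf (B ⊔ Q.toSubgroup)).Normal :=
        Subgroup.normal_subgroupOf_of_le_normalizer (sup_le Subgroup.le_normalizer hnorm)
      have h1 : (B.subgroupOf (B ⊔ Q.toSubgroup)).relIndex (Q.toSubgroup.subgroupOf (B ⊔ Q.toSubgroup)) ∣
          (B.subgroupOf (B ⊔ Q.toSubgroup)).index := Subgroup.relIndex_dvd_index_of_normal _ _
      rw [Subgroup.relIndex_subgroupOf le_sup_right, ← Subgroup.relIndex] at h1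
      exact h1.trans (Subgroup.relIndex_dvd_index_of_le le_sup_left)
    have hdp : B.relIndex Q.toSubgroup ∣ 2 ^ r := hr ▸ Subgroup.index_dvd_card _
    obtain ⟨s, -, hs⟩ := (Nat.dvd_prime_pow Nat.prime_two).1 hdp
    rcases Nat.eq_zero_or_pos s with rfl | hs0
    · rw [pow_zero] at hs; exact Subgroup.relIndex_eq_one.1 hs
    · exact absurd ((hs ▸ dvd_pow_self 2 hs0.ne' : 2 ∣ B.relIndex Q.toSubgroup).trans hd) hBodd
  -- the elements in `X`
  have hY : ∀ s ∈ Q.toSubgroup, ∃ y ∈ X, mat y = (2⁻¹ : F) •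
      !![1 + (s : M2), (1 - (s : M2)) * g; ((g⁻¹ : SL2) : M2) * (1 - s), ((g⁻¹ : SL2) : M2) * (1 + s) * g] := by
    intro s hs
    obtain ⟨q, hq', rfl⟩ := hQB hs
    refine ⟨_, hq', ?_⟩
    have key : c * ((q : M2) - 1) * adjugate c = (2⁻¹ : F) • ((γ q : M2) - 1) := by
      show _ = (2⁻¹ : F) • ((2 : F) • (c * (q : M2) * adjugate c) - 1)
      rw [mul_sub, sub_mul, mul_one, hcc, smul_sub, smul_smul, inv_mul_cancel₀ h2, one_smul,
        show c.det = (2⁻¹ : F) from eq_inv_of_mul_eq_one_right hc]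
    have h1 : (1 : M2) = (2⁻¹ : F) • ((2 : F) • (1 : M2)) := by rw [smul_smul, inv_mul_cancel₀ h2, one_smul]
    have hgg : ((g⁻¹ : SL2) : M2) * g = 1 := by rw [← sl_val_mul, inv_mul_cancel]; rfl
    have hag : adjugate (((g⁻¹ : SL2) : M2)) = g := by rw [← Matrix.SpecialLinearGroup.coe_inv, inv_inv]
    refine Matrix.ext fun a b => ?_
    show mat (h * sgl (0 : Fin 2) q * h⁻¹) a b = _
    rw [mat_conj_sgl, Matrix.smul_apply]
    fin_cases a <;> fin_cases b <;>
      simp only [Fin.mk_zero, Fin.mk_one, hh00, hh10, Matrix.one_apply_eq, ne_eq, Fin.reduceEq, not_false_eq_true,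
        Matrix.one_apply_ne, zero_add, Matrix.of_apply, Matrix.cons_val', Matrix.cons_val_zero, Matrix.cons_val_one,
        Matrix.empty_val', Matrix.cons_val_fin_one, show ∀ M : M2, adjugate (-M) = -adjugate M from fun M => by
          rw [adjugate_fin_two, adjugate_fin_two]; ext r s; fin_cases r <;> fin_cases s <;> simp,
        adjugate_mul_distrib, hag, neg_mul, mul_neg, neg_neg]
    · rw [key]; nth_rewrite 1 [h1]; rw [← smul_add, two_smul]; congr 1; abel
    · rw [← mul_assoc, key, smul_mul_assoc, ← smul_neg, ← neg_mul, neg_sub]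
    · rw [mul_assoc ((g⁻¹ : SL2) : M2) c, mul_assoc ((g⁻¹ : SL2) : M2) (c * _), key, mul_smul_comm, ← smul_neg,
        ← mul_neg, neg_sub]
    · rw [show ∀ M N : M2, ((g⁻¹ : SL2) : M2) * c * M * (N * g) = ((g⁻¹ : SL2) : M2) * (c * M * N) * g from
        fun M N => by noncomm_ring, key, mul_smul_comm, smul_mul_assoc]
      nth_rewrite 1 [h1]
      rw [← smul_add]
      congr 1
      rw [mul_sub, mul_add, mul_one, sub_mul, add_mul, hgg, two_smul]
      abel
  obtain ⟨yi, hyi, myi⟩ := hY _ hPi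
  obtain ⟨yj, hyj, myj⟩ := hY _ hPj
  have hII : (P.i : M2) * P.i = -1 := P.hi
  have hJJ : (P.j : M2) * P.j = -1 := P.hj
  have hJI : (P.j : M2) * P.i = -((P.i : M2) * P.j) := by rw [P.hij, neg_neg]
  have hww : ((w * w : SL2) : M2) = (2⁻¹ : F) • (-1 - (P.i : M2) - P.j - (P.i : M2) * P.j) := by
    rw [sl_val_mul, hwval, smul_mul_smul_comm, omega_square hII hJJ hJI, ← Int.cast_smul_eq_zsmul F, smul_smul]
    congr 1
    push_cast
    field_simp
  set a₁ : SL2 := w * w * (P.i * P.j)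
  set a₂ : SL2 := g⁻¹ * (w * w * P.z) * g
  have hval1 : (a₁ : M2) = (2⁻¹ : F) • (1 - (P.i : M2) + P.j - (P.i : M2) * P.j) := by
    rw [sl_val_mul, hww, smul_mul_assoc, sl_val_mul]
    congr 1
    have h1 := fun x => (quat_rules hII hJJ hJI x).1
    have h3 := fun x => (quat_rules hII hJJ hJI x).2.2
    simp only [sub_mul, neg_mul, one_mul, mul_assoc, h1, h3, hII, hJJ, mul_neg, mul_one, neg_neg]
    abel
  have hval2 : ((w * w * P.z : SL2) : M2) = (2⁻¹ : F) • (1 + (P.i : M2) + P.j + (P.i : M2) * P.j) := by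
    rw [sl_val_mul, hww, P.z_val, smul_mul_assoc]
    congr 1
    noncomm_ring
  have hR : yi * yj * sgl (0 : Fin 2) P.j * yi = sgl (0 : Fin 2) a₁ * sgl (1 : Fin 2) a₂ := by
    refine mat_inj ?_
    rw [mat_sgl_two]
    set D := sgl (1 : Fin 2) g
    have hD : mat D = !![(1 : M2), 0; 0, (g : M2)] := by
      rw [show D = sgl (0 : Fin 2) 1 * sgl (1 : Fin 2) g by rw [map_one, one_mul], mat_sgl_two,
        Matrix.SpecialLinearGroup.coe_one]
    have hD' : mat D⁻¹ = !![(1 : M2), 0; 0, ((g⁻¹ : SL2) : M2)] := by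
      rw [show D⁻¹ = sgl (0 : Fin 2) 1 * sgl (1 : Fin 2) g⁻¹ by rw [map_one, one_mul, map_inv], mat_sgl_two,
        Matrix.SpecialLinearGroup.coe_one]
    have hj0 : mat (sgl (0 : Fin 2) P.j) = !![(P.j : M2), 0; 0, 1] := by
      rw [show sgl (0 : Fin 2) P.j = sgl (0 : Fin 2) P.j * sgl (1 : Fin 2) 1 by rw [map_one, mul_one], mat_sgl_two,
        Matrix.SpecialLinearGroup.coe_one]
    have hform : ∀ (y : USp (Fin 2) F) (s : M2), mat y = (2⁻¹ : F) • !![1 + s, (1 - s) * g;
        ((g⁻¹ : SL2) : M2) * (1 - s), ((g⁻¹ : SL2) : M2) * (1 + s) * g] →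
        mat y = mat D⁻¹ * ((2⁻¹ : F) • !![1 + s, 1 - s; 1 - s, 1 + s]) * mat D := fun y s e => by
      rw [e, hD, hD', Matrix.mul_smul, Matrix.smul_mul, Matrix.mul_fin_two, Matrix.mul_fin_two]
      simp only [one_mul, zero_mul, mul_one, mul_zero, add_zero, zero_add, mul_assoc]
    have hjD : mat D * mat (sgl (0 : Fin 2) P.j) * mat D⁻¹ = !![(P.j : M2), 0; 0, 1] := by
      rw [← mat_mul, ← mat_mul, ← (commute_sgl (by decide : (0 : Fin 2) ≠ 1) P.j g).eq, mul_inv_cancel_right, hj0]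
    rw [mat_mul, mat_mul, mat_mul, hform yi _ myi, hform yj _ myj]
    have hDD : mat D * mat D⁻¹ = 1 := by rw [← mat_mul, mul_inv_cancel, mat_one]
    rw [show ∀ A B J E E' : BM (Fin 2) F, E' * A * E * (E' * B * E) * J * (E' * A * E) =
        E' * (A * (E * E') * B * (E * J * E') * A) * E from fun A B J E E' => by simp only [mul_assoc],
      hDD, mul_one, hjD]
    simp only [Matrix.smul_mul, Matrix.mul_smul, smul_smul]
    rw [three_reflections hII hJJ hJI, ← Int.cast_smul_eq_zsmul F, Matrix.mul_smul, Matrix.smul_mul,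
      smul_smul, hD, hD', Matrix.mul_fin_two, Matrix.mul_fin_two]
    simp only [one_mul, zero_mul, mul_one, mul_zero, add_zero, zero_add, a₂, sl_val_mul (g⁻¹ * _), sl_val_mul g⁻¹,
      hval1, hval2]
    rw [show (2⁻¹ : F) * (2⁻¹ * 2⁻¹) * ((4 : ℤ) : F) = 2⁻¹ by push_cast; field_simp; norm_num]
    refine Matrix.ext fun r s => ?_
    fin_cases r <;> fin_cases s <;> simp [Matrix.smul_apply, mul_add, add_mul, smul_add]
  have hRX : sgl (0 : Fin 2) a₁ * sgl (1 : Fin 2) a₂ ∈ X := hR ▸ mul_mem (mul_mem (mul_mem hyi hyj) (hQ0 _ hPj)) hyi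
  have hconjQ : ∀ n ∈ Subgroup.normalizer (Q.toSubgroup : Set SL2), ∀ x ∈ Q.toSubgroup,
      n * x * n⁻¹ ∈ Q.toSubgroup := fun n hn x hx => (Subgroup.mem_normalizer_iff.1 hn x).1 hx
  obtain ⟨r, hr, hgr⟩ : ∃ r ∈ Q.toSubgroup, a₂ = w * w * r := by
    obtain ⟨t, b, hb, rfl⟩ := hN g hgN
    refine ⟨(w * w)⁻¹ * b⁻¹ * (w * w) * (P.z * b), mul_mem ?_ (mul_mem hzQ hb), ?_⟩
    · have := hconjQ _ (inv_mem (mul_mem hwN hwN)) _ (inv_mem hb)
      simpa [inv_inv] using this
    · have hwt : (w ^ t)⁻¹ * (w * w) * w ^ t = w * w := by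
        rw [mul_assoc, ← ((Commute.refl w).mul_left (Commute.refl w)).pow_right t |>.eq.symm, inv_mul_cancel_left]
      calc a₂ = b⁻¹ * ((w ^ t)⁻¹ * (w * w * P.z) * w ^ t) * b := by simp only [a₂]; group
        _ = b⁻¹ * ((w ^ t)⁻¹ * (w * w) * w ^ t * P.z) * b := by
          simp only [mul_assoc]; rw [← mul_assoc P.z (w ^ t), P.z_comm (w ^ t), mul_assoc]
        _ = b⁻¹ * (w * w) * (P.z * b) := by rw [hwt]; simp only [mul_assoc]
        _ = _ := by group
  have hW : sgl (0 : Fin 2) (w * w) * sgl (1 : Fin 2) (w * w) ∈ X := by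
    have h3 := mul_mem hRX (inv_mem (mul_mem (hQ0 _ (mul_mem hPi hPj)) (hQ1 _ hr)))
    convert h3 using 1
    rw [hgr]
    show _ = sgl (0 : Fin 2) (w * w * (P.i * P.j)) * _ * _
    rw [map_mul (sgl (1 : Fin 2)) (w * w) r, map_mul (sgl (0 : Fin 2)) (w * w) (P.i * P.j), _root_.mul_inv_rev]
    have hc' := (commute_sgl (by decide : (0 : Fin 2) ≠ 1) (P.i * P.j) (w * w)).eq
    calc _ = sgl (0 : Fin 2) (w * w) * (sgl (1 : Fin 2) (w * w) * sgl (0 : Fin 2) (P.i * P.j)) *
          (sgl (0 : Fin 2) (P.i * P.j))⁻¹ := by group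
      _ = sgl (0 : Fin 2) (w * w) * (sgl (0 : Fin 2) (P.i * P.j) * sgl (1 : Fin 2) (w * w)) *
          (sgl (0 : Fin 2) (P.i * P.j))⁻¹ := by rw [hc']
      _ = _ := by group
  have hc' := (commute_sgl (by decide : (0 : Fin 2) ≠ 1) (w * w) (w * w)).eq
  have h4 : w * w * (w * w) = w := by rw [← mul_assoc, hw3, one_mul]
  have h5 := mul_mem hW hW
  rwa [show sgl (0 : Fin 2) (w * w) * sgl (1 : Fin 2) (w * w) * (sgl (0 : Fin 2) (w * w) * sgl (1 : Fin 2) (w * w)) =
    sgl (0 : Fin 2) (w * w * (w * w)) * sgl (1 : Fin 2) (w * w * (w * w)) by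
      simp only [map_mul (sgl (0 : Fin 2)) (w * w), map_mul (sgl (1 : Fin 2)) (w * w)]
      exact Commute.mul_mul_mul_comm hc'.symm _ _, h4] at h5

end CfsgLib.PronormalPSp
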