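import Mathlib
import Cfsg.Agent.Lib.PronormalPSp.Pair

/-!
A subgroup containing the block quaternion groups that does not permute the blocks contains a diagonal
element of order three on some pair of blocks.
-/

set_option autoImplicit false
set_option linter.unusedSectionVars false

namespace CfsgLib.PronormalPSp

open Matrix Equiv CfsgLib.SympSylow

universe u

variable {F : Type u} [Field F] {α : Type} [Fintype α] [DecidableEq α]

local notation "M2" => Matrix (Fin 2) (Fin 2) F
local notation "SL2" => Matrix.SpecialLinearGroup (Fin 2) F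

/-- The column support. -/
noncomputable def colSupp (g : USp α F) (y : α) : Finset α := by
  classical exact Finset.univ.filter fun a => mat g a y ≠ 0

theorem mem_colSupp {g : USp α F} {y a : α} : a ∈ colSupp g y ↔ mat g a y ≠ 0 := by
  classical simp [colSupp]

/-- Elements supported on a set of blocks. -/
def suppSub (S : Finset α) : Subgroup (USp α F) where
  carrier := {g | ∀ a b, (a ∉ S ∨ b ∉ S) → mat g a b = (1 : BM α F) a b}
  one_mem' := fun a b _ => rfl
  mul_mem' := fun {g h} hg hh a b hab => by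
    rw [mat_mul, Matrix.mul_apply]
    rcases hab with ha | hb
    · rw [Finset.sum_eq_single a (fun c _ hc => by rw [hg a c (Or.inl ha), Matrix.one_apply_ne (Ne.symm hc), zero_mul])
        (by simp), hg a a (Or.inl ha), Matrix.one_apply_eq, one_mul]
      exact hh a b (Or.inl ha)
    · rw [Finset.sum_eq_single b (fun c _ hc => by rw [hh c b (Or.inr hb), Matrix.one_apply_ne hc, mul_zero])
        (by simp), hh b b (Or.inr hb), Matrix.one_apply_eq, mul_one]
      exact hg a b (Or.inr hb)
  inv_mem' := fun {g} hg a b hab => by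
    rw [mat_inv, dag_apply, hg b a hab.symm, Matrix.one_apply, Matrix.one_apply]
    by_cases h : a = b
    · subst h; simp
    · rw [if_neg h, if_neg (Ne.symm h), adjugate_zero]

/-- A cube-zero element built from two idempotents in general position. -/
theorem cube_eq_zero {R : Type*} [Ring R] {A B : R} (hA : A * A = A) (hB : B * B = B) (hABA : A * B * A = A)
    (hBAB : B * A * B = B) :
    ((1 - (2 : ℤ) • A) * (1 - (2 : ℤ) • B) - 1) * ((1 - (2 : ℤ) • A) * (1 - (2 : ℤ) • B) - 1) *
      ((1 - (2 : ℤ) • A) * (1 - (2 : ℤ) • B) - 1) = 0 := by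
  have a1 : ∀ x, A * (A * x) = A * x := fun x => by rw [← mul_assoc, hA]
  have b1 : ∀ x, B * (B * x) = B * x := fun x => by rw [← mul_assoc, hB]
  have a2 : ∀ x, A * (B * (A * x)) = A * x := fun x => by rw [← mul_assoc, ← mul_assoc, hABA]
  have b2 : ∀ x, B * (A * (B * x)) = B * x := fun x => by rw [← mul_assoc, ← mul_assoc, hBAB]
  have a3 : A * (B * A) = A := by rw [← mul_assoc, hABA]
  have b3 : B * (A * B) = B := by rw [← mul_assoc, hBAB]
  simp only [mul_sub, sub_mul, one_mul, mul_one, smul_mul_assoc, mul_smul_comm, smul_smul, mul_assoc, hA, hB,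
    a1, b1, a2, b2, a3, b3, smul_sub]
  abel

theorem adj_smul_one (c : F) : adjugate (c • (1 : M2)) = c • 1 := by
  rw [adjugate_smul, Fintype.card_fin, pow_one, adjugate_one]

/-- The determinant of a shifted quaternion. -/
theorem det_neg_two_add {M : M2} (hdet : M.det = 1) (hM : M * M = -1) :
    ((-2 : F) • (1 : M2) + M).det = 5 := by
  have hadj : adjugate M = -M := by
    have e : M * adjugate M = 1 := by rw [mul_adj, hdet, one_smul]
    calc adjugate M = -(M * M) * adjugate M := by rw [hM, neg_neg, one_mul]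
      _ = -M := by rw [neg_mul, mul_assoc, e, mul_one]
  have h := mul_adj ((-2 : F) • (1 : M2) + M)
  rw [adj_add, adj_smul_one, hadj, add_mul, mul_add, mul_add, mul_neg, mul_neg, hM, smul_mul_smul_comm, one_mul,
    smul_mul_assoc, one_mul, mul_smul_comm, mul_one] at h
  have h00 := congrFun (congrFun h 0) 0
  simp [neg_smul] at h00 ⊢
  linear_combination -h00

section Emb

variable (U : Matrix α (Fin 2) (Matrix (Fin 2) (Fin 2) F)) (hU : dag U * U = 1)

/-- The embedding along two orthonormal columns. -/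
def emb : USp (Fin 2) F →* USp α F where
  toFun m := mk (1 + U * (mat m - 1) * dag U)
    (by
      have e : ∀ A B : BM (Fin 2) F, (1 + U * (A - 1) * dag U) * (1 + U * (B - 1) * dag U) =
          1 + U * (A * B - 1) * dag U := fun A B => by
        have h : (U * (A - 1) * dag U) * (U * (B - 1) * dag U) = U * ((A - 1) * (B - 1)) * dag U := by
          rw [Matrix.mul_assoc, Matrix.mul_assoc U (B - 1), ← Matrix.mul_assoc (dag U), hU, Matrix.one_mul]
          simp only [Matrix.mul_assoc]
        rw [add_mul, mul_add, mul_add, one_mul, mul_one, one_mul, h, show A * B - 1 = (B - 1) + (A - 1) + (A - 1) * (B - 1) by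
          noncomm_ring, Matrix.mul_add, Matrix.mul_add, Matrix.add_mul, Matrix.add_mul]
        abel
      have hd : dag (1 + U * (mat m - 1) * dag U) = 1 + U * (dag (mat m) - 1) * dag U := by
        have hadd : ∀ A B : BM α F, dag (A + B) = dag A + dag B := fun A B =>
          Matrix.ext fun x y => adj_add _ _
        have hsub : dag (mat m - 1) = dag (mat m) - 1 := by
          refine eq_sub_of_add_eq ?_
          nth_rewrite 2 [← dag_one]
          refine Matrix.ext fun x y => ?_
          show adjugate _ + adjugate _ = adjugate (mat m y x)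
          rw [← adj_add, ← Matrix.add_apply, sub_add_cancel]
        rw [hadd, dag_one, dag_mul, dag_mul, dag_dag, hsub, Matrix.mul_assoc]
      rw [hd, e, mul_dag, sub_self, Matrix.mul_zero, Matrix.zero_mul, add_zero])
    (by
      have hd : dag (1 + U * (mat m - 1) * dag U) = 1 + U * (dag (mat m) - 1) * dag U := by
        have hadd : ∀ A B : BM α F, dag (A + B) = dag A + dag B := fun A B =>
          Matrix.ext fun x y => adj_add _ _
        have hsub : dag (mat m - 1) = dag (mat m) - 1 := by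
          refine eq_sub_of_add_eq ?_
          nth_rewrite 2 [← dag_one]
          refine Matrix.ext fun x y => ?_
          show adjugate _ + adjugate _ = adjugate (mat m y x)
          rw [← adj_add, ← Matrix.add_apply, sub_add_cancel]
        rw [hadd, dag_one, dag_mul, dag_mul, dag_dag, hsub, Matrix.mul_assoc]
      have h : (U * (dag (mat m) - 1) * dag U) * (U * (mat m - 1) * dag U) =
          U * ((dag (mat m) - 1) * (mat m - 1)) * dag U := by
        rw [Matrix.mul_assoc, Matrix.mul_assoc U (mat m - 1), ← Matrix.mul_assoc (dag U), hU, Matrix.one_mul]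
        simp only [Matrix.mul_assoc]
      rw [hd, add_mul, mul_add, mul_add, one_mul, mul_one, one_mul, h]
      have e : (mat m - 1) + ((dag (mat m) - 1) + (dag (mat m) - 1) * (mat m - 1)) = 0 := by
        rw [sub_mul, one_mul, mul_sub, mul_one, dag_mul_self]; abel
      rw [add_assoc, ← Matrix.add_mul, ← Matrix.mul_add, ← Matrix.add_mul, ← Matrix.mul_add, e, Matrix.mul_zero,
        Matrix.zero_mul, add_zero])
  map_one' := mat_inj (by simp [mat_mk, mat_one])
  map_mul' a b := mat_inj (by
    show 1 + U * (mat (a * b) - 1) * dag U = (1 + U * (mat a - 1) * dag U) * (1 + U * (mat b - 1) * dag U)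
    have h : (U * (mat a - 1) * dag U) * (U * (mat b - 1) * dag U) = U * ((mat a - 1) * (mat b - 1)) * dag U := by
      rw [Matrix.mul_assoc, Matrix.mul_assoc U (mat b - 1), ← Matrix.mul_assoc (dag U), hU, Matrix.one_mul]
      simp only [Matrix.mul_assoc]
    rw [add_mul, mul_add, mul_add, one_mul, mul_one, one_mul, h, mat_mul, show mat a * mat b - 1 =
      (mat b - 1) + (mat a - 1) + (mat a - 1) * (mat b - 1) by noncomm_ring, Matrix.mul_add, Matrix.mul_add,
      Matrix.add_mul, Matrix.add_mul]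
    abel)

theorem mat_emb_apply (m : USp (Fin 2) F) (a b : α) :
    mat (emb U hU m) a b = (1 : BM α F) a b +
      ∑ c, ∑ d, U a c * (mat m - 1) c d * adjugate (U b d) := by
  show ((1 : BM α F) + U * (mat m - 1) * dag U : BM α F) a b = _
  rw [Matrix.add_apply, Matrix.mul_apply, Finset.sum_comm]
  simp only [Matrix.mul_apply, Finset.sum_mul, dag_apply]

theorem emb_conj_sgl (k : USp (Fin 2) F) (x : Fin 2) (h : USp α F) (y : α)
    (hcol : ∀ a, mat h a y = ∑ c, U a c * mat k c x) (q : SL2) :
    emb U hU (k * sgl x q * k⁻¹) = h * sgl y q * h⁻¹ := by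
  refine mat_inj (Matrix.ext fun a b => ?_)
  rw [mat_emb_apply, mat_conj_sgl, hcol, hcol, adj_sum, Finset.sum_mul, Finset.sum_mul]
  congr 1
  refine Finset.sum_congr rfl fun c _ => ?_
  rw [Finset.mul_sum]
  refine Finset.sum_congr rfl fun d _ => ?_
  rw [Matrix.sub_apply, mat_conj_sgl, add_sub_cancel_left, adjugate_mul_distrib]
  simp only [mul_assoc]

theorem emb_sgl (x : Fin 2) (y : α) (hcol : ∀ a, U a x = if a = y then 1 else 0) (q : SL2) :
    emb U hU (sgl x q) = sgl y q := by
  have h := emb_conj_sgl U hU 1 x 1 y (fun a => by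
    rw [mat_one, mat_one, Finset.sum_eq_single x (fun c _ hc => by rw [Matrix.one_apply_ne hc, mul_zero]) (by simp),
      Matrix.one_apply_eq, mul_one, hcol, Matrix.one_apply]) q
  simpa using h

end Emb

/-- A unitary matrix with a given invertible column. -/
theorem exists_with_column {π ν : M2} (h : π.det + ν.det = 1) (hν : ν.det ≠ 0) :
    ∃ k : USp (Fin 2) F, mat k 0 0 = π ∧ mat k 1 0 = ν := by
  set M : BM (Fin 2) F := !![π, ν; ν, (-(ν.det)⁻¹) • (ν * adjugate π * ν)] with hM
  have hneg : ∀ (c : F) (A : M2), adjugate (c • A) = c • adjugate A := fun c A => by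
    rw [adjugate_smul, Fintype.card_fin, pow_one]
  have h1 : dag M * M = 1 := by
    have hd : dag M = !![adjugate π, adjugate ν; adjugate ν, (-(ν.det)⁻¹) • (adjugate ν * π * adjugate ν)] := by
      refine Matrix.ext fun a b => ?_
      fin_cases a <;> fin_cases b <;> simp [-neg_smul, dag_apply, hM, hneg, adjugate_mul_distrib, adj_adj, mul_assoc]
    rw [hd, hM, Matrix.mul_fin_two, Matrix.one_fin_two]
    congr
    · rw [adj_mul, adj_mul, ← add_smul, h, one_smul]
    · rw [mul_smul_comm, ← mul_assoc, ← mul_assoc, adj_mul, smul_mul_assoc, smul_mul_assoc, one_mul, smul_smul,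
        neg_mul, inv_mul_cancel₀ hν, neg_smul, one_smul, add_neg_cancel]
    · rw [smul_mul_assoc, mul_assoc, adj_mul, mul_smul_comm, mul_one, smul_smul, neg_mul, inv_mul_cancel₀ hν,
        neg_smul, one_smul, add_neg_cancel]
    · have e : adjugate ν * π * adjugate ν * (ν * adjugate π * ν) = (ν.det * π.det * ν.det) • (1 : M2) := by
        calc _ = adjugate ν * π * (adjugate ν * ν) * (adjugate π * ν) := by noncomm_ring
          _ = ν.det • (adjugate ν * (π * adjugate π) * ν) := by
            rw [adj_mul, mul_smul_comm, mul_one, smul_mul_assoc]; simp only [mul_assoc]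
          _ = _ := by rw [mul_adj, mul_smul_comm, mul_one, smul_mul_assoc, adj_mul, smul_smul, smul_smul, mul_assoc]
      rw [smul_mul_smul_comm, e, adj_mul, smul_smul, ← add_smul,
        show ν.det + -ν.det⁻¹ * -ν.det⁻¹ * (ν.det * π.det * ν.det) = 1 by field_simp; linear_combination h,
        one_smul]
  exact ⟨mk M (mul_eq_one_comm.1 h1) h1, rfl, rfl⟩

variable [Fintype F] (hq : Odd (Fintype.card F)) (P : QPair F) (Q : Sylow 2 (Matrix.SpecialLinearGroup (Fin 2) F))
  (hPi : P.i ∈ Q.toSubgroup) (hPj : P.j ∈ Q.toSubgroup)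
  {H : Subgroup (USp α F)} (hQ : ∀ (x : α) (a : Matrix.SpecialLinearGroup (Fin 2) F), a ∈ Q.toSubgroup → sgl x a ∈ H)

include hq hPi hQ

/-- A minimal spread column can be chosen with a block of determinant different from one. -/
theorem exists_det_ne_one (n : ℕ) (hn : 1 < n)
    (hmin : ∀ g ∈ H, ∀ y, 1 < (colSupp g y).card → n ≤ (colSupp g y).card)
    {h : USp α F} (hh : h ∈ H) {y : α} (hy : (colSupp h y).card = n) :
    ∃ g ∈ H, ∃ y' : α, (colSupp g y').card = n ∧ ∃ x ∈ colSupp g y', (mat g x y').det ≠ 1 := by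
  by_cases hex : ∃ x ∈ colSupp h y, (mat h x y).det ≠ 1
  · exact ⟨h, hh, y, hy, hex⟩
  push Not at hex
  have h2 := PronormalPSL.two_ne_zero_of_odd_card hq
  set S := colSupp h y with hS
  have hout : ∀ a, a ∉ S → mat h a y = 0 := fun a ha => by simpa [hS, mem_colSupp] using ha
  obtain ⟨x₀, hx₀⟩ := Finset.card_pos.1 (show 0 < S.card by omega)
  have : Nonempty α := ⟨x₀⟩
  have hzQ : P.z ∈ Q.toSubgroup := mul_mem hPi hPi
  set σ := sgl x₀ P.z with hσdef
  set w := h * sgl y P.z * h⁻¹ with hwdef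
  have hσH : σ ∈ H := hQ _ _ hzQ
  have hwH : w ∈ H := mul_mem (mul_mem hh (hQ _ _ hzQ)) (inv_mem hh)
  have hσσ : σ * σ = 1 := by rw [hσdef, ← map_mul, P.z_sq, map_one]
  have hσ' : σ⁻¹ = σ := inv_eq_of_mul_eq_one_right hσσ
  have hww : w * w = 1 := by
    rw [hwdef, show h * sgl y P.z * h⁻¹ * (h * sgl y P.z * h⁻¹) = h * (sgl y P.z * sgl y P.z) * h⁻¹ by group,
      ← map_mul, P.z_sq, map_one, mul_one, mul_inv_cancel]
  -- the unipotent product
  set A : BM α F := Matrix.single x₀ x₀ (1 : M2) with hAdef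
  set B : BM α F := Matrix.of fun a b => mat h a y * adjugate (mat h b y) with hBdef
  have hz2 : (P.z : M2) - 1 = -((2 : ℤ) • (1 : M2)) := by rw [P.z_val, two_zsmul]; abel
  have hσA : mat σ = 1 - (2 : ℤ) • A := by
    rw [hσdef, mat_sgl, hz2, hAdef, Matrix.smul_single, sub_eq_add_neg, ← Matrix.single_neg]
  have hwB : mat w = 1 - (2 : ℤ) • B := by
    refine Matrix.ext fun a b => ?_
    rw [hwdef, mat_conj_sgl, hz2, Matrix.sub_apply, Matrix.smul_apply, sub_eq_add_neg]
    simp only [hBdef, Matrix.of_apply, two_zsmul, mul_add, add_mul, mul_neg, neg_mul, mul_one]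
  have hx1 : adjugate (mat h x₀ y) * mat h x₀ y = 1 := by rw [adj_mul, hex x₀ hx₀, one_smul]
  have hA : A * A = A := by rw [hAdef, Matrix.single_mul_single_same, one_mul]
  have hB : B * B = B := Matrix.ext fun a b => by
    simp only [Matrix.mul_apply, hBdef, Matrix.of_apply]
    rw [Finset.sum_congr rfl fun c _ => show mat h a y * adjugate (mat h c y) * (mat h c y * adjugate (mat h b y)) =
      mat h a y * (adjugate (mat h c y) * mat h c y) * adjugate (mat h b y) by noncomm_ring,
      ← Finset.sum_mul, ← Finset.mul_sum, adj_col, mul_one]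
  have hABA : A * B * A = A := Matrix.ext fun a b => by
    rcases eq_or_ne b x₀ with rfl | hb
    · rw [hAdef, Matrix.mul_single_apply_same, mul_one]
      rcases eq_or_ne a b with rfl | ha
      · rw [Matrix.single_mul_apply_same, one_mul, Matrix.single_apply_same, hBdef, Matrix.of_apply, mul_adj,
          hex _ hx₀, one_smul]
      · rw [Matrix.single_mul_apply_of_ne _ _ _ _ _ ha, Matrix.single_apply_of_ne _ _ _ _ _ (fun h => ha h.1.symm)]
    · rw [hAdef, Matrix.mul_single_apply_of_ne _ _ _ _ _ hb, Matrix.single_apply_of_ne _ _ _ _ _ (fun h => hb h.2.symm)]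
  have hBAB : B * A * B = B := Matrix.ext fun a b => by
    rw [hAdef, single_mul_single_apply, hBdef, Matrix.of_apply, Matrix.of_apply, Matrix.of_apply, mul_one,
      show mat h a y * adjugate (mat h x₀ y) * (mat h x₀ y * adjugate (mat h b y)) =
        mat h a y * (adjugate (mat h x₀ y) * mat h x₀ y) * adjugate (mat h b y) by noncomm_ring, hx1, mul_one]
  set v := σ * w with hvdef
  obtain ⟨p, hchar⟩ := CharP.exists F
  have : Fact p.Prime := ⟨CharP.char_is_prime F p⟩
  have hp2 : p ≠ 2 := fun e => h2 (by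
    subst e
    exact_mod_cast CharP.cast_eq_zero F 2)
  obtain ⟨s, hs⟩ := (Fact.out : p.Prime).odd_of_ne_two hp2
  have hvp : v ^ p = 1 := by
    refine mat_inj ?_
    have hm : ∀ m : ℕ, mat (v ^ m) = mat v ^ m := fun m => by
      induction m with
      | zero => rfl
      | succ m ih => rw [pow_succ, pow_succ, mat_mul, ih]
    have hN := cube_eq_zero hA hB hABA hBAB
    rw [← hσA, ← hwB, ← mat_mul] at hN
    rw [hm, mat_one, ← sub_add_cancel (mat v) 1, add_pow_char_of_commute p (Commute.one_right _), one_pow]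
    have h3 : (mat v - 1) ^ p = 0 := by
      refine pow_eq_zero_of_le (show 3 ≤ p by have := (Fact.out : p.Prime).two_le; omega) ?_
      rw [pow_succ, pow_two]; exact hN
    rw [h3, zero_add]
  set g := v ^ s with hgdef
  have hgH : g ∈ H := pow_mem (mul_mem hσH hwH) s
  have hgσ : g * σ * g⁻¹ = w := by
    have e1 : σ * v * σ⁻¹ = v⁻¹ := by
      rw [hvdef, _root_.mul_inv_rev, inv_eq_of_mul_eq_one_right hww, hσ', ← mul_assoc, hσσ, one_mul]
    have e2 : σ * g * σ⁻¹ = g⁻¹ := by rw [hgdef, ← conj_pow, e1, inv_pow]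
    have e3 : σ * g⁻¹ = g * σ := by
      rw [← e2, hσ', ← mul_assoc, ← mul_assoc, hσσ, one_mul]
    rw [mul_assoc, e3, ← mul_assoc]
    have e4 : g * g = v⁻¹ := by
      refine eq_inv_of_mul_eq_one_left ?_
      rw [hgdef, ← pow_add, ← pow_succ, show s + s + 1 = p by omega, hvp]
    rw [e4, hvdef, _root_.mul_inv_rev, inv_eq_of_mul_eq_one_right hww, hσ', mul_assoc, hσσ, mul_one]
  -- the column of the root
  set d := h⁻¹ * g
  have hdσ : d * σ = sgl y P.z * d := by
    have : h⁻¹ * (g * σ * g⁻¹) * g = h⁻¹ * w * g := by rw [hgσ]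
    simpa [d, hwdef, mul_assoc] using this
  have hd0 : ∀ a, a ≠ y → mat d a x₀ = 0 := fun a ha => by
    have e := congrFun (congrFun (congrArg mat hdσ) a) x₀
    rw [hσdef, mat_mul_sgl, mat_sgl_mul, if_neg ha, P.z_val, mul_neg, mul_one] at e
    have : (2 : F) • mat d a x₀ = 0 := by rw [two_smul]; nth_rewrite 1 [← e]; exact neg_add_cancel _
    exact (smul_eq_zero.1 this).resolve_left h2
  have hdd : (mat d y x₀).det = 1 := (conj_sgl_of_supported d hd0).1
  have hgcol : ∀ a, mat g a x₀ = mat h a y * mat d y x₀ := fun a => by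
    rw [show g = h * d from (mul_inv_cancel_left h g).symm, mat_mul, Matrix.mul_apply,
      Finset.sum_eq_single y (fun b _ hb => by rw [hd0 b hb, mul_zero]) (by simp)]
  have hgS : ∀ a, a ∈ S → (mat g a x₀).det = 1 := fun a ha => by rw [hgcol, det_mul, hex a ha, hdd, one_mul]
  have hgout : ∀ a, a ∉ S → mat g a x₀ = 0 := fun a ha => by rw [hgcol, hout a ha, zero_mul]
  have hsS : ∀ (x : α) (q : SL2), x ∈ S → sgl x q ∈ suppSub (F := F) S := fun x q hx a b hab => by
    rw [mat_sgl_apply, if_neg (by rintro ⟨rfl, rfl⟩; exact hab.elim (· hx) (· hx)), add_zero]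
  have hwS : w ∈ suppSub (F := F) S := fun a b hab => by
    rw [hwdef, mat_conj_sgl]
    rcases hab with ha | hb
    · rw [hout a ha, zero_mul, zero_mul, add_zero]
    · rw [hout b hb, adjugate_zero, mul_zero, add_zero]
  have hgSupp : g ∈ suppSub (F := F) S := pow_mem (mul_mem (hsS _ _ hx₀) hwS) s
  obtain ⟨i₁, hi₁, i₂, hi₂, hne⟩ := Finset.one_lt_card.1 (show 1 < S.card by omega)
  set t := sgl i₁ P.z * sgl i₂ P.i
  have htH : t ∈ H := mul_mem (hQ _ _ hzQ) (hQ _ _ hPi)
  set g' := g⁻¹ * (t * g)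
  have hg'H : g' ∈ H := mul_mem (inv_mem hgH) (mul_mem htH hgH)
  have hg'S : g' ∈ suppSub (F := F) S :=
    mul_mem (inv_mem hgSupp) (mul_mem (mul_mem (hsS _ _ hi₁) (hsS _ _ hi₂)) hgSupp)
  set Z := adjugate (mat g i₂ x₀) * (P.i : M2) * mat g i₂ x₀ with hZ
  have hval : mat g' x₀ x₀ = (-2 : F) • 1 + Z := by
    rw [show mat g' x₀ x₀ = ∑ a, adjugate (mat g a x₀) * mat (t * g) a x₀ by
      rw [mat_mul, mat_inv, Matrix.mul_apply]; rfl]
    have hsum : ∀ a, adjugate (mat g a x₀) * mat (t * g) a x₀ = adjugate (mat g a x₀) * mat g a x₀ +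
        ((if a = i₁ then (-2 : F) • (1 : M2) else 0) + (if a = i₂ then Z - 1 else 0)) := fun a => by
      rw [mul_assoc, mat_sgl_mul, mat_sgl_mul]
      rcases eq_or_ne a i₁ with rfl | h1
      · rw [if_pos rfl, if_neg hne, if_pos rfl, if_neg hne, P.z_val, neg_one_mul, mul_neg, adj_mul, hgS _ hi₁,
          one_smul, add_zero, neg_smul, two_smul]
        abel
      · rw [if_neg h1, if_neg h1, zero_add]
        rcases eq_or_ne a i₂ with rfl | h2'
        · rw [if_pos rfl, if_pos rfl, ← mul_assoc, adj_mul, hgS _ hi₂, one_smul, hZ]; abel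
        · rw [if_neg h2', if_neg h2', add_zero]
    rw [Finset.sum_congr rfl fun a _ => hsum a, Finset.sum_add_distrib, Finset.sum_add_distrib, adj_col,
      Finset.sum_ite_eq' Finset.univ i₁ (fun _ => (-2 : F) • (1 : M2)),
      Finset.sum_ite_eq' Finset.univ i₂ (fun _ => Z - 1), if_pos (Finset.mem_univ _), if_pos (Finset.mem_univ _)]
    abel
  have hZdet : Z.det = 1 := by
    rw [hZ, det_mul, det_mul, det_adjugate, hgS _ hi₂, P.i.2]; simp
  have hm : mat g i₂ x₀ * adjugate (mat g i₂ x₀) = 1 := by rw [mul_adj, hgS _ hi₂, one_smul]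
  have hm' : adjugate (mat g i₂ x₀) * mat g i₂ x₀ = 1 := by rw [adj_mul, hgS _ hi₂, one_smul]
  have hZZ : Z * Z = -1 := by
    rw [hZ, show adjugate (mat g i₂ x₀) * (P.i : M2) * mat g i₂ x₀ *
      (adjugate (mat g i₂ x₀) * (P.i : M2) * mat g i₂ x₀) = adjugate (mat g i₂ x₀) * (P.i : M2) *
      (mat g i₂ x₀ * adjugate (mat g i₂ x₀)) * ((P.i : M2) * mat g i₂ x₀) by noncomm_ring, hm, mul_one,
      mul_assoc, ← mul_assoc (P.i : M2), P.hi, neg_one_mul, mul_neg, hm']
  have hdet5 : (mat g' x₀ x₀).det = 5 := by rw [hval]; exact det_neg_two_add hZdet hZZ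
  have hd1 : (mat g' x₀ x₀).det ≠ 1 := fun e => h2 (by
    rw [hdet5] at e
    exact mul_self_eq_zero.1 (by linear_combination e))
  have hne0 : mat g' x₀ x₀ ≠ 0 := fun e => by
    rw [hval, ← eq_neg_iff_add_eq_zero, eq_comm, neg_eq_iff_eq_neg] at e
    apply P.i_ne_scalar h2 (-(-2 : F))
    calc (P.i : M2) = (mat g i₂ x₀ * adjugate (mat g i₂ x₀)) * (P.i : M2) * (mat g i₂ x₀ * adjugate (mat g i₂ x₀)) := by
          rw [hm, one_mul, mul_one]
      _ = mat g i₂ x₀ * Z * adjugate (mat g i₂ x₀) := by rw [hZ]; noncomm_ring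
      _ = _ := by rw [e, ← neg_smul, mul_smul_comm, mul_one, smul_mul_assoc, hm]
  have hsub : colSupp g' x₀ ⊆ S := fun a ha => by
    rw [mem_colSupp] at ha
    by_contra haS
    exact ha (by rw [hg'S a x₀ (Or.inl haS), Matrix.one_apply_ne (fun e : a = x₀ => haS (e ▸ hx₀))])
  have hgt : 1 < (colSupp g' x₀).card := by
    by_contra hle
    apply hd1
    have hall : ∀ a, a ≠ x₀ → mat g' a x₀ = 0 := fun a ha => by
      by_contra h
      exact ha (Finset.card_le_one.1 (not_lt.1 hle) a (mem_colSupp.2 h) x₀ (mem_colSupp.2 hne0))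
    exact (conj_sgl_of_supported g' hall).1
  refine ⟨g', hg'H, x₀, le_antisymm ((Finset.card_le_card hsub).trans hy.le) (hmin g' hg'H x₀ hgt), x₀,
    mem_colSupp.2 hne0, hd1⟩

include hPj

/-- Diagonal elements of order three on two blocks. -/
theorem exists_pair_mem (hspread : ∃ h ∈ H, ∃ y, 1 < (colSupp h y).card)
    (w : SL2) (hw3 : w * w * w = 1)
    (hwval : (w : M2) = (2⁻¹ : F) • (-1 + (P.i : M2) + P.j + (P.i : M2) * P.j))
    (hwN : w ∈ Subgroup.normalizer (Q.toSubgroup : Set SL2))
    (hN : ∀ x ∈ Subgroup.normalizer (Q.toSubgroup : Set SL2), ∃ t : ℕ, ∃ a ∈ Q.toSubgroup, x = w ^ t * a) :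
    ∃ x j : α, x ≠ j ∧ sgl x w * sgl j w ∈ H := by
  classical
  have hex : ∃ n, 1 < n ∧ ∃ h ∈ H, ∃ y, (colSupp h y).card = n := by
    obtain ⟨h, hh, y, hy⟩ := hspread
    exact ⟨_, hy, h, hh, y, rfl⟩
  set n := Nat.find hex
  obtain ⟨hn, h, hh, y, hy⟩ := Nat.find_spec hex
  have hmin : ∀ g ∈ H, ∀ y, 1 < (colSupp g y).card → n ≤ (colSupp g y).card := fun g hg y hy =>
    Nat.find_min' hex ⟨hy, g, hg, y, rfl⟩
  clear hh hy h y
  obtain ⟨h, hh, y, hy⟩ := (Nat.find_spec hex).2
  obtain ⟨h, hh, y, hy, x, hx, hδ⟩ := exists_det_ne_one hq P Q hPi hQ n hn hmin hh hy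
  set δ := (mat h x y).det with hδdef
  have hx0 := mem_colSupp.1 hx
  have hsum : δ + ∑ a ∈ Finset.univ.erase x, (mat h a y).det = 1 := by
    rw [← sum_det h y]; exact Finset.add_sum_erase _ (fun a => (mat h a y).det) (Finset.mem_univ x)
  set N : M2 := !![(1 - δ)⁻¹, 0; 0, 1] with hNdef
  set ν : M2 := !![1 - δ, 0; 0, 1] with hνdef
  have hδ' : 1 - δ ≠ 0 := sub_ne_zero.2 (Ne.symm hδ)
  have hNν : N * ν = 1 := by
    rw [hNdef, hνdef, Matrix.mul_fin_two, Matrix.one_fin_two]
    simp [inv_mul_cancel₀ hδ']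
  have hNdet : N.det = (1 - δ)⁻¹ := by simp [hNdef, det_fin_two]
  have hνdet : ν.det = 1 - δ := by simp [hνdef, det_fin_two]
  let U : Matrix α (Fin 2) M2 := Matrix.of fun a c =>
    if c = 0 then (if a = x then 1 else 0) else (if a = x then 0 else mat h a y * N)
  have hU0 : ∀ a, U a 0 = if a = x then 1 else 0 := fun a => rfl
  have hU1 : ∀ a, U a 1 = if a = x then 0 else mat h a y * N := fun a => rfl
  have hU : dag U * U = 1 := by
    refine Matrix.ext fun c d => ?_
    rw [Matrix.mul_apply]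
    simp only [dag_apply]
    fin_cases c <;> fin_cases d
    · rw [Finset.sum_eq_single x (fun a _ ha => by simp [hU0, ha]) (by simp)]
      simp [hU0]
    · rw [Finset.sum_eq_single x (fun a _ ha => by simp [hU0, ha]) (by simp)]
      simp [hU0, hU1]
    · rw [Finset.sum_eq_single x (fun a _ ha => by simp [hU0, ha]) (by simp)]
      simp [hU0, hU1]
    · show ∑ a, adjugate (U a 1) * U a 1 = (1 : BM (Fin 2) F) 1 1
      rw [Matrix.one_apply_eq, ← Finset.add_sum_erase _ _ (Finset.mem_univ x), hU1, if_pos rfl, mul_zero, zero_add,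
        Finset.sum_congr rfl fun a ha => show adjugate (U a 1) * U a 1 = ((mat h a y).det * N.det) • (1 : M2) by
          rw [hU1, if_neg (Finset.ne_of_mem_erase ha), adj_mul, det_mul], ← Finset.sum_smul, ← Finset.sum_mul,
        show (∑ a ∈ Finset.univ.erase x, (mat h a y).det) = 1 - δ by linear_combination hsum, hNdet,
        mul_inv_cancel₀ hδ', one_smul]
  obtain ⟨k, hk0, hk1⟩ := exists_with_column (π := mat h x y) (ν := ν) (by rw [hνdet]; ring) (by rw [hνdet]; exact hδ')
  have hcol : ∀ a, mat h a y = ∑ c, U a c * mat k c 0 := fun a => by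
    rw [Fin.sum_univ_two, hU0, hU1, hk0, hk1]
    rcases eq_or_ne a x with rfl | ha
    · simp
    · rw [if_neg ha, if_neg ha, zero_mul, zero_add, mul_assoc, hNν, mul_one]
  set L := H.comap (emb U hU)
  have hmemL : ∀ q ∈ Q.toSubgroup, sgl (0 : Fin 2) q ∈ L ∧ k * sgl (0 : Fin 2) q * k⁻¹ ∈ L := fun q hq' => by
    constructor
    · show emb U hU (sgl (0 : Fin 2) q) ∈ H
      rw [emb_sgl U hU 0 x hU0]; exact hQ x q hq'
    · show emb U hU (k * sgl (0 : Fin 2) q * k⁻¹) ∈ H
      rw [emb_conj_sgl U hU k 0 h y hcol]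
      exact mul_mem (mul_mem hh (hQ y q hq')) (inv_mem hh)
  obtain ⟨l, hl, hl0⟩ := exists_entry_eq_zero hq P (k := k) (L := L) (by rw [hk0]; exact hx0)
    (by rw [hk1, hνdet]; exact hδ') (hmemL _ hPi).1 (hmemL _ hPj).1 (hmemL _ hPi).2 (hmemL _ hPj).2
  have hl1 : (mat l 1 0).det = 1 := by
    have := sum_det l 0
    rwa [Fin.sum_univ_two, hl0, det_zero, zero_add] at this
  set g := emb U hU l
  have hgcol : ∀ a, mat g a x = U a 1 * mat l 1 0 := fun a => by
    rw [mat_emb_apply]
    simp only [Fin.sum_univ_two, Matrix.sub_apply, Matrix.one_apply_eq, hl0, zero_sub]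
    rw [hU0 x, hU1 x, if_pos rfl, if_pos rfl, adjugate_zero, mul_zero, mul_zero, add_zero, add_zero, adjugate_one,
      mul_one, mul_one, Matrix.one_apply_ne (by decide : (1 : Fin 2) ≠ 0), sub_zero, hU0 a, Matrix.one_apply]
    split_ifs <;> simp
  have hinj : ∀ {A B : M2}, B.det ≠ 0 → A * B = 0 → A = 0 := fun {A B} hB e => by
    have := congrArg (· * adjugate B) e
    simp only [mul_assoc, mul_adj, mul_smul_comm, mul_one, zero_mul] at this
    exact (smul_eq_zero.1 this).resolve_left hB
  have hgsupp : colSupp g x = (colSupp h y).erase x := by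
    ext a
    rw [Finset.mem_erase, mem_colSupp, mem_colSupp, hgcol, hU1]
    rcases eq_or_ne a x with rfl | ha
    · simp
    · rw [if_neg ha]
      refine ⟨fun h' => ⟨ha, fun e => h' (by rw [e, zero_mul, zero_mul])⟩, fun h' e => h'.2 ?_⟩
      exact hinj (by rw [hNdet]; exact inv_ne_zero hδ') (hinj (by rw [hl1]; exact one_ne_zero) e)
  have hn2 : n = 2 := by
    have hc : (colSupp g x).card = n - 1 := by rw [hgsupp, Finset.card_erase_of_mem hx, hy]
    by_contra hne
    have := hmin g hl x (by omega)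
    omega
  obtain ⟨j, hj⟩ := Finset.card_eq_one.1 (show ((colSupp h y).erase x).card = 1 by
    rw [Finset.card_erase_of_mem hx, hy, hn2])
  have hjx : j ≠ x := (Finset.mem_erase.1 (hj ▸ Finset.mem_singleton_self j : j ∈ (colSupp h y).erase x)).1
  have hout : ∀ a, a ≠ x → a ≠ j → mat h a y = 0 := fun a ha haj => by
    by_contra h'
    exact haj (Finset.mem_singleton.1 (hj ▸ Finset.mem_erase.2 ⟨ha, mem_colSupp.2 h'⟩))
  have hjdet : (mat h j y).det = 1 - δ := by
    rw [Finset.sum_eq_single j (fun a ha haj => by rw [hout a (Finset.ne_of_mem_erase ha) haj, det_zero])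
      (fun h' => absurd (Finset.mem_erase.2 ⟨hjx, Finset.mem_univ j⟩) h')] at hsum
    linear_combination hsum
  let V : Matrix α (Fin 2) M2 := Matrix.of fun a c => if a = ![x, j] c then 1 else 0
  have hV0 : ∀ a, V a 0 = if a = x then 1 else 0 := fun a => rfl
  have hV1 : ∀ a, V a 1 = if a = j then 1 else 0 := fun a => rfl
  have hV : dag V * V = 1 := by
    refine Matrix.ext fun c d => ?_
    rw [Matrix.mul_apply]
    simp only [dag_apply]
    fin_cases c <;> fin_cases d
    · rw [Finset.sum_eq_single x (fun a _ ha => by simp [hV0, ha]) (by simp)]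
      simp [hV0]
    · rw [Finset.sum_eq_single x (fun a _ ha => by simp [hV0, ha]) (by simp)]
      simp [hV0, hV1, Ne.symm hjx]
    · rw [Finset.sum_eq_single x (fun a _ ha => by simp [hV0, ha]) (by simp)]
      simp [hV0, hV1, Ne.symm hjx]
    · rw [Finset.sum_eq_single j (fun a _ ha => by simp [hV1, ha]) (by simp)]
      simp [hV1]
  obtain ⟨k', hk'0, hk'1⟩ := exists_with_column (π := mat h x y) (ν := mat h j y) (by rw [hjdet]; ring)
    (by rw [hjdet]; exact hδ')
  have hcol' : ∀ a, mat h a y = ∑ c, V a c * mat k' c 0 := fun a => by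
    rw [Fin.sum_univ_two, hV0, hV1, hk'0, hk'1]
    rcases eq_or_ne a x with rfl | ha
    · simp [Ne.symm hjx]
    · rcases eq_or_ne a j with rfl | haj
      · simp [hjx]
      · simp [ha, haj, hout a ha haj]
  have hres := omega_pair hq P Q hPi hPj (X := H.comap (emb V hV))
    (fun a ha => by show emb V hV _ ∈ H; rw [emb_sgl V hV 0 x hV0]; exact hQ x a ha)
    (fun a ha => by show emb V hV _ ∈ H; rw [emb_sgl V hV 1 j hV1]; exact hQ j a ha)
    (k := k') (by rw [hk'0]; exact hx0) (by rw [hk'1, hjdet]; exact hδ')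
    (fun a ha => by
      show emb V hV _ ∈ H
      rw [emb_conj_sgl V hV k' 0 h y hcol']
      exact mul_mem (mul_mem hh (hQ y a ha)) (inv_mem hh))
    w hw3 hwval hwN hN
  refine ⟨x, j, Ne.symm hjx, ?_⟩
  have hres' : emb V hV (sgl (0 : Fin 2) w * sgl (1 : Fin 2) w) ∈ H := hres
  rwa [map_mul, emb_sgl V hV 0 x hV0, emb_sgl V hV 1 j hV1] at hres'

end CfsgLib.PronormalPSp
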