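import Mathlib
import Cfsg.Agent.Lib.PronormalPSL.Criterion
import Cfsg.Agent.Lib.PronormalPSL.BlockNorm

/-!
Pronormality of overgroups of Sylow subgroups in finite direct products: it is inherited from the factors
as soon as every factor has abelian Sylow normaliser quotient.
-/

set_option autoImplicit false

set_option linter.unusedSectionVars false

namespace CfsgLib.PronormalPSp

open Pointwise

variable {G : Type*} [Group G] [Finite G] {p : ℕ} [Fact p.Prime]

theorem mem_normalizer_of_map_eq {H : Subgroup G} {g : G}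
    (h : H.map (MulAut.conj g).toMonoidHom = H) : g ∈ Subgroup.normalizer (H : Set G) := by
  rw [Subgroup.mem_normalizer_iff]
  refine fun x => ⟨fun hx => h ▸ ⟨x, hx, rfl⟩, fun hx => ?_⟩
  rw [← h] at hx
  obtain ⟨y, hy, hyx⟩ := hx
  have : g * y * g⁻¹ = g * x * g⁻¹ := hyx
  rwa [← mul_left_cancel (mul_right_cancel this)]

theorem map_conj_mul (H : Subgroup G) (a b : G) :
    H.map (MulAut.conj (a * b)).toMonoidHom =
      (H.map (MulAut.conj b).toMonoidHom).map (MulAut.conj a).toMonoidHom := by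
  rw [Subgroup.map_map]; congr 1; ext x; simp [mul_assoc]

/-- Frattini argument: a normaliser of an overgroup of a Sylow subgroup. -/
theorem frattini {H : Subgroup G} (P : Sylow p G) (hPH : (P : Subgroup G) ≤ H) {n : G}
    (hn : n ∈ Subgroup.normalizer (H : Set G)) :
    ∃ h ∈ H, h⁻¹ * n ∈ Subgroup.normalizer ((P : Subgroup G) : Set G) := by
  have hnP : ((n • P : Sylow p G) : Subgroup G) ≤ H := by
    rw [Sylow.coe_subgroup_smul]
    rintro _ ⟨x, hx, rfl⟩
    exact (Subgroup.mem_normalizer_iff.1 hn x).1 (hPH hx)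
  obtain ⟨x, hx⟩ := MulAction.exists_smul_eq ↥H ((n • P).subtype hnP) (P.subtype hPH)
  refine ⟨(x : G)⁻¹, inv_mem x.2, ?_⟩
  rw [inv_inv]
  refine Sylow.smul_eq_iff_mem_normalizer.1 ?_
  rw [mul_smul]
  apply Sylow.subtype_injective (N := H) (hP := ?_) (hQ := hPH)
  · rw [← hx, Sylow.smul_subtype]; rfl

/-- Pronormality is invariant under conjugation. -/
theorem isPronormal_map {G' : Type*} [Group G'] (e : G ≃* G') {H : Subgroup G} (h : Cfsg.IsPronormal H) :
    Cfsg.IsPronormal (H.map e.toMonoidHom) := by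
  intro g
  obtain ⟨y, hy, hyg⟩ := h (e.symm g)
  have key : ∀ z : G, (H.map (MulAut.conj z).toMonoidHom).map e.toMonoidHom =
      (H.map e.toMonoidHom).map (MulAut.conj (e z)).toMonoidHom := fun z => by
    rw [Subgroup.map_map, Subgroup.map_map]; congr 1; ext x; simp
  refine ⟨e y, ?_, ?_⟩
  · have := Subgroup.mem_map_of_mem e.toMonoidHom hy
    rw [Subgroup.map_sup, key, e.apply_symm_apply] at this
    exact this
  · rw [← key y, ← hyg, key, e.apply_symm_apply]

/-- If the overgroups of one Sylow subgroup are pronormal, so are those of all Sylow subgroups. -/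
theorem isPronormal_of_one_sylow (P Q : Sylow p G)
    (hP : ∀ H : Subgroup G, (P : Subgroup G) ≤ H → Cfsg.IsPronormal H) {H : Subgroup G}
    (hH : (Q : Subgroup G) ≤ H) : Cfsg.IsPronormal H := by
  obtain ⟨g, rfl⟩ := MulAction.exists_smul_eq G P Q
  rw [Sylow.coe_subgroup_smul] at hH
  have h := isPronormal_map (MulAut.conj g)
    (hP (H.map (MulAut.conj g).symm.toMonoidHom) fun x hx => ⟨g * x * g⁻¹, hH ⟨x, hx, rfl⟩, by simp [mul_assoc]⟩)
  have e : (H.map (MulAut.conj g).symm.toMonoidHom).map (MulAut.conj g).toMonoidHom = H := by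
    rw [Subgroup.map_map]
    convert Subgroup.map_id H using 2
    ext x; simp [mul_assoc]
  rwa [e] at h

variable {ι : Type*} [Fintype ι] [DecidableEq ι] {X : ι → Type*} [∀ i, Group (X i)] [∀ i, Finite (X i)]

/-- The product of Sylow subgroups. -/
theorem exists_sylow_pi (S : ∀ i, Sylow p (X i)) :
    ∃ P : Sylow p (∀ i, X i), ∀ x, x ∈ (P : Subgroup (∀ i, X i)) ↔ ∀ i, x i ∈ (S i : Subgroup (X i)) := by
  set S₀ : Subgroup (∀ i, X i) := Subgroup.pi Set.univ fun i => (S i : Subgroup (X i))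
  have hmem : ∀ x, x ∈ S₀ ↔ ∀ i, x i ∈ (S i : Subgroup (X i)) := fun x => by
    simp [S₀, Subgroup.mem_pi]
  have hcard : Nat.card S₀ = p ^ (Nat.card (∀ i, X i)).factorization p := by
    have e : S₀ ≃ ∀ i, ↥(S i : Subgroup (X i)) :=
      { toFun := fun x i => ⟨x.1 i, (hmem _).1 x.2 i⟩
        invFun := fun f => ⟨fun i => f i, (hmem _).2 fun i => (f i).2⟩
        left_inv := fun x => rfl
        right_inv := fun f => rfl }
    rw [Nat.card_congr e, Nat.card_pi, Nat.card_pi]
    simp only [Sylow.card_eq_multiplicity]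
    rw [Finset.prod_pow_eq_pow_sum, Nat.factorization_prod (fun i _ => Nat.card_pos.ne'), Finsupp.finsetSum_apply]
  exact ⟨Sylow.ofCard S₀ hcard, hmem⟩

theorem pi_normalizer {P : Subgroup (∀ i, X i)} {S : ∀ i, Sylow p (X i)}
    (hP : ∀ x, x ∈ P ↔ ∀ i, x i ∈ (S i : Subgroup (X i))) {z : ∀ i, X i}
    (hz : z ∈ Subgroup.normalizer (P : Set (∀ i, X i))) (i : ι) :
    z i ∈ Subgroup.normalizer ((S i : Subgroup (X i)) : Set (X i)) := by
  rw [Subgroup.mem_normalizer_iff]
  have hsingle : ∀ y, y ∈ (S i : Subgroup (X i)) ↔ Pi.mulSingle i y ∈ P := fun y => by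
    rw [hP]
    refine ⟨fun hy j => ?_, fun h => by simpa using h i⟩
    rcases eq_or_ne j i with rfl | hj
    · simpa using hy
    · simp [Pi.mulSingle_eq_of_ne hj]
  intro y
  rw [hsingle, hsingle, Subgroup.mem_normalizer_iff.1 hz (Pi.mulSingle i y)]
  have e : z * Pi.mulSingle i y * z⁻¹ = Pi.mulSingle i (z i * y * (z i)⁻¹) := funext fun j => by
    rcases eq_or_ne j i with rfl | hj
    · simp
    · simp [Pi.mulSingle_eq_of_ne hj]
  rw [e]

/-- Direct products. -/
theorem isPronormal_pi (S : ∀ i, Sylow p (X i))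
    (hab : ∀ i, ∀ a ∈ Subgroup.normalizer ((S i : Subgroup (X i)) : Set (X i)),
      ∀ b ∈ Subgroup.normalizer ((S i : Subgroup (X i)) : Set (X i)), a * b * a⁻¹ * b⁻¹ ∈ (S i : Subgroup (X i)))
    (hpro : ∀ i, ∀ H : Subgroup (X i), (S i : Subgroup (X i)) ≤ H → Cfsg.IsPronormal H)
    (Q : Sylow p (∀ i, X i)) {H : Subgroup (∀ i, X i)} (hQH : (Q : Subgroup (∀ i, X i)) ≤ H) :
    Cfsg.IsPronormal H := by
  obtain ⟨P, hP⟩ := exists_sylow_pi S
  refine isPronormal_of_one_sylow P Q (fun H hPH => ?_) hQH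
  refine PronormalPSL.isPronormal_of_sylow P hPH fun z hz => ?_
  set K := H ⊔ H.map (MulAut.conj z).toMonoidHom with hK
  let C : ∀ i, Subgroup (X i) := fun i => H.comap (MonoidHom.mulSingle X i)
  have hSC : ∀ i, (S i : Subgroup (X i)) ≤ C i := fun i y hy => hPH ((hP _).2 fun j => by
    rcases eq_or_ne j i with rfl | hj
    · simpa using hy
    · simp [Pi.mulSingle_eq_of_ne hj])
  have hCH : ∀ a : ∀ i, X i, (∀ i, a i ∈ C i) → a ∈ H := fun a ha =>
    Subgroup.pi_mem_of_mulSingle_mem a fun i => ha i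
  have hstep : ∀ i, ∃ k m : X i, z i = k * m ∧ k ∈ C i ⊔ (C i).map (MulAut.conj (z i)).toMonoidHom ∧
      m ∈ Subgroup.normalizer (C i : Set (X i)) ∧
      m ∈ Subgroup.normalizer ((S i : Subgroup (X i)) : Set (X i)) := fun i => by
    obtain ⟨y, hy, hyz⟩ := hpro i (C i) (hSC i) (z i)
    have hn : y⁻¹ * z i ∈ Subgroup.normalizer (C i : Set (X i)) := mem_normalizer_of_map_eq (by
      rw [map_conj_mul, hyz, ← map_conj_mul, inv_mul_cancel]
      exact PronormalPSL.map_conj_eq_of_mem_normalizer (one_mem _))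
    obtain ⟨h, hh, hm⟩ := frattini (S i) (hSC i) hn
    exact ⟨y * h, h⁻¹ * (y⁻¹ * z i), by group, mul_mem hy (Subgroup.mem_sup_left hh),
      mul_mem (inv_mem (Subgroup.le_normalizer hh)) hn, hm⟩
  choose k m hkm hk hmC hmS using hstep
  have hkK : k ∈ K := Subgroup.pi_mem_of_mulSingle_mem k fun i => by
    have hle : C i ⊔ (C i).map (MulAut.conj (z i)).toMonoidHom ≤ K.comap (MonoidHom.mulSingle X i) := by
      refine sup_le (fun y hy => Subgroup.mem_sup_left hy) ?_
      rintro _ ⟨y, hy, rfl⟩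
      refine Subgroup.mem_sup_right ⟨Pi.mulSingle i y, hy, ?_⟩
      show z * Pi.mulSingle i y * z⁻¹ = Pi.mulSingle i (z i * y * (z i)⁻¹)
      funext j
      rcases eq_or_ne j i with rfl | hj
      · simp
      · simp [Pi.mulSingle_eq_of_ne hj]
    exact hle (hk i)
  have hmH : ∀ h ∈ H, m * h * m⁻¹ ∈ H := by
    intro h hh
    have hN : ∀ i, h i ∈ Subgroup.normalizer (C i : Set (X i)) := fun i => by
      refine Subgroup.mem_normalizer_iff.2 fun y => ?_
      have e : Pi.mulSingle i (h i * y * (h i)⁻¹) = h * Pi.mulSingle i y * h⁻¹ := funext fun j => by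
        rcases eq_or_ne j i with rfl | hj
        · simp
        · simp [Pi.mulSingle_eq_of_ne hj]
      show Pi.mulSingle i y ∈ H ↔ Pi.mulSingle i (h i * y * (h i)⁻¹) ∈ H
      rw [e]
      refine ⟨fun hy => mul_mem (mul_mem hh hy) (inv_mem hh), fun hy => ?_⟩
      simpa [mul_assoc] using mul_mem (mul_mem (inv_mem hh) hy) hh
    choose a ha hb using fun i => frattini (S i) (hSC i) (hN i)
    have hbH : a⁻¹ * h ∈ H := mul_mem (inv_mem (hCH a ha)) hh
    have e : m * h * m⁻¹ = (m * a * m⁻¹) * ((m * (a⁻¹ * h) * m⁻¹ * (a⁻¹ * h)⁻¹) * (a⁻¹ * h)) := by group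
    rw [e]
    refine mul_mem (hCH _ fun i => ?_) (mul_mem (hCH _ fun i => hSC i (hab i _ (hmS i) _ (hb i))) hbH)
    exact (Subgroup.mem_normalizer_iff.1 (hmC i) _).1 (ha i)
  have hmHN : m ∈ Subgroup.normalizer (H : Set (∀ i, X i)) := PronormalPSL.mem_normalizer_of_conj hmH
  refine ⟨k, hkK, ?_⟩
  rw [show z = k * m from funext hkm, map_conj_mul, PronormalPSL.map_conj_eq_of_mem_normalizer hmHN]

end CfsgLib.PronormalPSp
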