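import Mathlib
import Cfsg.Agent.Lib.PronormalPSp.Descent
import Cfsg.Agent.Lib.SympSylow.Main
import Cfsg.Agent.Lib.KnownSimple51.TreeSylow

/-!
The monomial Sylow 2-subgroup of `Sp(2^(k+1), q)`, `q` odd, and its normaliser.
-/

set_option autoImplicit false
set_option linter.unusedSectionVars false

namespace CfsgLib.PronormalPSp

open Matrix Equiv CfsgLib.SympSylow

universe u

/-- Self-normalisation passes to all Sylow subgroups. -/
theorem sylow_normalizer_of_one {G : Type*} [Group G] [Finite G] {p : ℕ} [Fact p.Prime] (S T : Sylow p G)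
    (h : ∀ x ∈ Subgroup.normalizer ((S : Subgroup G) : Set G), x ∈ (S : Subgroup G)) {x : G}
    (hx : x ∈ Subgroup.normalizer ((T : Subgroup G) : Set G)) : x ∈ (T : Subgroup G) := by
  obtain ⟨g, rfl⟩ := MulAction.exists_smul_eq G S T
  have hfix : (g⁻¹ * x * g) • S = S := by
    have h1 := Sylow.smul_eq_iff_mem_normalizer.2 hx
    rw [mul_assoc, mul_smul, mul_smul, h1, inv_smul_smul]
  rw [Sylow.coe_subgroup_smul]
  exact ⟨g⁻¹ * x * g, h _ (Sylow.smul_eq_iff_mem_normalizer.1 hfix), by simp [mul_assoc]⟩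

/-- Sylow 2-subgroups of symmetric groups of two-power degree are self-normalising. -/
theorem perm_normalizer (k : ℕ) (T : Sylow 2 (Perm (Fin (2 ^ k)))) {σ : Perm (Fin (2 ^ k))}
    (hσ : σ ∈ Subgroup.normalizer (T.toSubgroup : Set (Perm (Fin (2 ^ k))))) : σ ∈ T.toSubgroup := by
  have : Fact (Nat.Prime 2) := ⟨Nat.prime_two⟩
  by_cases hk : 3 ≤ k
  · have h6 : 6 ≤ 2 ^ k := le_trans (by norm_num) (Nat.pow_le_pow_right two_pos hk)
    have hN := CfsgLib.KnownSimple51.TreeSylow.treeGroup_normalizer h6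
    obtain ⟨S, hS⟩ := CfsgLib.KnownSimple51.TreeSylow.exists_sylow_eq
      (CfsgLib.KnownSimple51.TreeSylow.isPGroup_treeGroup _) hN
    exact sylow_normalizer_of_one S T (fun x hx => by rw [hS, hN] at hx; rwa [hS]) hσ
  have hk3 : k = 0 ∨ k = 1 ∨ k = 2 := by omega
  have hcard : Nat.card T.toSubgroup = 2 ^ (Nat.factorial (2 ^ k)).factorization 2 := by
    rw [Sylow.card_eq_multiplicity, Nat.card_perm, Nat.card_fin]
  rcases hk3 with rfl | rfl | rfl
  · have : Subsingleton (Perm (Fin (2 ^ 0))) := inferInstanceAs (Subsingleton (Perm (Fin 1)))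
    rw [Subsingleton.elim σ 1]; exact one_mem _
  · have h2 : T.toSubgroup = ⊤ := by
      refine Subgroup.eq_top_of_card_eq _ ?_
      rw [hcard, Nat.card_perm, Nat.card_fin, show Nat.factorial (2 ^ 1) = 2 ^ 1 by decide, Nat.factorization_pow_self
        Nat.prime_two]
    rw [h2]; trivial
  · have h8 : Nat.card T.toSubgroup = 8 := by
      rw [hcard, show Nat.factorial (2 ^ 2) = 2 ^ 3 * 3 by decide,
        Nat.factorization_mul (by norm_num) (by norm_num), Finsupp.add_apply, Nat.factorization_pow_self Nat.prime_two,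
        Nat.factorization_eq_zero_of_not_dvd (show ¬ 2 ∣ 3 by norm_num)]
      norm_num
    set N := Subgroup.normalizer (T.toSubgroup : Set (Perm (Fin (2 ^ 2))))
    have h24 : Nat.card (Perm (Fin (2 ^ 2))) = 24 := by rw [Nat.card_perm, Nat.card_fin]; decide
    have hd : 8 ∣ Nat.card N := h8 ▸ Subgroup.card_dvd_of_le Subgroup.le_normalizer
    have hd' : Nat.card N ∣ 24 := h24 ▸ Subgroup.card_subgroup_dvd_card N
    obtain ⟨m, hm⟩ := hd
    rw [hm] at hd'
    have hm3 : m = 1 ∨ m = 3 := (Nat.dvd_prime Nat.prime_three).1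
      (Nat.dvd_of_mul_dvd_mul_left (show 0 < 8 by norm_num) hd')
    rcases hm3 with rfl | rfl
    · rw [Subgroup.eq_of_le_of_card_ge (Subgroup.le_normalizer (H := T.toSubgroup)) (by rw [hm, h8])]
      exact hσ
    · exfalso
      have hNtop : N = ⊤ := Subgroup.eq_top_of_card_eq _ (by rw [hm, h24])
      have : T.toSubgroup.Normal := Subgroup.normalizer_eq_top_iff.1 hNtop
      have huniq : Subsingleton (Sylow 2 (Perm (Fin (2 ^ 2)))) := by
        have h := Sylow.unique_of_normal T this
        infer_instance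
      have htop : (⊤ : Subgroup (Perm (Fin (2 ^ 2)))) ≤ T.toSubgroup := by
        rw [← Equiv.Perm.closure_isSwap, Subgroup.closure_le]
        intro τ hτ
        obtain ⟨a, b, hab, rfl⟩ := hτ
        have hp : IsPGroup 2 (Subgroup.zpowers (Equiv.swap a b)) := IsPGroup.of_card (n := 1) (by
          rw [Nat.card_zpowers, pow_one]
          exact orderOf_eq_prime ((pow_two _).trans (Equiv.swap_mul_self a b)) (fun e => hab (by
            have h := congrArg (fun p : Perm (Fin (2 ^ 2)) => p a) e
            simpa using h.symm)))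
        obtain ⟨R, hR⟩ := hp.exists_le_sylow
        rw [Subsingleton.elim T R]
        exact hR (Subgroup.mem_zpowers _)
      have := Subgroup.card_le_of_le htop
      rw [Subgroup.card_top, h24, h8] at this
      omega

/-- Sylow 2-subgroups of symmetric groups of two-power degree are transitive. -/
theorem perm_transitive (k : ℕ) (T : Sylow 2 (Perm (Fin (2 ^ k)))) (x y : Fin (2 ^ k)) :
    ∃ σ ∈ T.toSubgroup, σ x = y := by
  have : Fact (Nat.Prime 2) := ⟨Nat.prime_two⟩
  set S := MulAction.stabilizer (Perm (Fin (2 ^ k))) x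
  have hidx : S.index = 2 ^ k := by
    rw [MulAction.index_stabilizer_of_transitive, Nat.card_fin]
  have hcardP := Subgroup.card_mul_index S
  rw [hidx] at hcardP
  set O := MulAction.orbit T.toSubgroup x
  have horb : O = Set.univ := by
    refine Set.eq_univ_of_univ_subset ?_
    have hS : S.subgroupOf T.toSubgroup = MulAction.stabilizer T.toSubgroup x := by ext; rfl
    have hTx : Nat.card (MulAction.stabilizer T.toSubgroup x) * O.ncard = Nat.card T.toSubgroup := by
      rw [← MulAction.index_stabilizer, Subgroup.card_mul_index]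
    obtain ⟨t, ht⟩ := IsPGroup.iff_card.1 T.isPGroup'
    obtain ⟨s, hs, hs'⟩ := (Nat.dvd_prime_pow Nat.prime_two).1
      (ht ▸ Dvd.intro_left _ hTx : O.ncard ∣ 2 ^ t)
    have hsk : k ≤ s := by
      by_contra hlt
      -- the point stabiliser in `T` would be too large
      have hcS : Nat.card (MulAction.stabilizer T.toSubgroup x) ∣ Nat.card S :=
        Subgroup.card_dvd_of_injective
          ({ toFun := fun σ => ⟨((σ : T.toSubgroup) : Perm (Fin (2 ^ k))), σ.2⟩
             map_one' := rfl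
             map_mul' := fun _ _ => rfl } : MulAction.stabilizer T.toSubgroup x →* S)
          fun a b e => Subtype.ext (Subtype.ext (congrArg (fun z : S => (z : Perm (Fin (2 ^ k)))) e))
      have hd : 2 ^ (t + 1) ∣ Nat.card (Perm (Fin (2 ^ k))) := by
        rw [← hcardP]
        refine dvd_trans ?_ (Nat.mul_dvd_mul_right hcS _)
        refine dvd_trans (pow_dvd_pow 2 (show t + 1 ≤ t + (k - s) by omega)) (dvd_of_eq ?_)
        rw [pow_add, ← ht, ← hTx, hs', mul_assoc, ← pow_add, show s + (k - s) = k by omega]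
      have := T.pow_dvd_card_of_pow_dvd_card hd
      rw [ht] at this
      exact absurd ((Nat.pow_dvd_pow_iff_le_right (by norm_num)).1 this) (by omega)
    have hle : (Set.univ : Set (Fin (2 ^ k))).ncard ≤ O.ncard := by
      rw [Set.ncard_univ, Nat.card_fin, hs']
      exact Nat.pow_le_pow_right two_pos hsk
    rw [Set.eq_of_subset_of_ncard_le (Set.subset_univ O) hle]
  obtain ⟨⟨σ, hσ⟩, h⟩ : y ∈ O := horb ▸ Set.mem_univ y
  exact ⟨σ, hσ, h⟩

variable {F : Type u} [Field F] {α : Type} [Fintype α] [DecidableEq α]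

local notation "M2" => Matrix (Fin 2) (Fin 2) F
local notation "SL2" => Matrix.SpecialLinearGroup (Fin 2) F

/-- A unitary matrix with one block in every column is monomial. -/
theorem exists_mon_of_columns (g : USp α F) (h : ∀ y, ∃ x, ∀ a, a ≠ x → mat g a y = 0) :
    ∃ v, mon v = g := by
  choose f hf using h
  have hd : ∀ y, (mat g (f y) y).det = 1 := fun y => (conj_sgl_of_supported g (hf y)).1
  have hinj : Function.Injective f := fun y y' e => by
    by_contra hne
    have h := congrFun (congrFun (dag_mul_self g) y) y'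
    rw [Matrix.mul_apply, Finset.sum_eq_single (f y) (fun a _ ha => by
      rw [dag_apply, hf y a ha, adjugate_zero, zero_mul]) (by simp), Matrix.one_apply_ne hne, dag_apply] at h
    have h0 : mat g (f y) y' = 0 := by
      have h' := congrArg (fun M => mat g (f y) y * M) h
      simp only [← mul_assoc, mul_adj, hd, one_smul, one_mul, mul_zero] at h'
      exact h'
    have := hd y'
    rw [← e, h0, det_zero] at this
    exact zero_ne_one this
  let σ : Perm α := Equiv.ofBijective f (Finite.injective_iff_bijective.1 hinj)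
  let p : α → SL2 := fun x => ⟨mat g x (σ⁻¹ x), by
    have := hd (σ⁻¹ x)
    rwa [show f (σ⁻¹ x) = x from σ.apply_symm_apply x] at this⟩
  refine ⟨⟨p, σ⟩, mat_inj (Matrix.ext fun a b => ?_)⟩
  rw [mat_mon_apply]
  show (if σ⁻¹ a = b then (p a : M2) else 0) = mat g a b
  rcases eq_or_ne (σ⁻¹ a) b with rfl | hne
  · rw [if_pos rfl]
  · rw [if_neg hne, hf b a fun e => hne (by rw [e]; exact σ.symm_apply_apply b)]

section

variable [Fintype F] (hq : Odd (Fintype.card F)) (k : ℕ)
  (Q : Sylow 2 (Matrix.SpecialLinearGroup (Fin 2) F)) (T : Sylow 2 (Perm (Fin (2 ^ k))))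

/-- The monomial 2-subgroup. -/
abbrev monW : Subgroup (USp (Fin (2 ^ k)) F) :=
  (monSub (α := Fin (2 ^ k)) Q.toSubgroup T.toSubgroup).map mon

/-- The diagonal embedding. -/
def dia (α : Type) [Fintype α] [DecidableEq α] : Matrix.SpecialLinearGroup (Fin 2) F →* USp α F :=
  mon.comp (SemidirectProduct.inl.comp (MonoidHom.pi fun _ => MonoidHom.id _))

theorem mem_monW {v : Mon (Matrix.SpecialLinearGroup (Fin 2) F) (Fin (2 ^ k))} :
    mon v ∈ monW k Q T ↔ (∀ x, v.left x ∈ Q.toSubgroup) ∧ v.right ∈ T.toSubgroup := by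
  rw [Subgroup.mem_map_iff_mem mon_injective]; rfl

theorem sgl_mem_monW (x : Fin (2 ^ k)) {a : Matrix.SpecialLinearGroup (Fin 2) F} (ha : a ∈ Q.toSubgroup) :
    sgl x a ∈ monW k Q T := by
  show mon _ ∈ _
  refine (mem_monW k Q T).2 ⟨fun y => ?_, one_mem _⟩
  show Pi.mulSingle (M := fun _ : Fin (2 ^ k) => SL2) x a y ∈ _
  rcases eq_or_ne y x with rfl | hy
  · simpa using ha
  · rw [Pi.mulSingle_eq_of_ne hy]; exact one_mem _

include hq

/-- It is a Sylow 2-subgroup. -/
theorem exists_sylow_monW : ∃ S : Sylow 2 (USp (Fin (2 ^ k)) F), S.toSubgroup = monW k Q T := by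
  have : Fact (Nat.Prime 2) := ⟨Nat.prime_two⟩
  have hq1 : 1 < Fintype.card F := Fintype.one_lt_card
  have hcard : Nat.card (monW k Q T) = 2 ^ (Nat.card (USp (Fin (2 ^ k)) F)).factorization 2 := by
    rw [Nat.card_congr (Subgroup.equivMapOfInjective _ mon mon_injective).toEquiv.symm, card_monSub,
      Q.card_eq_multiplicity, T.card_eq_multiplicity, Fintype.card_fin, ← pow_mul, ← pow_add,
      Nat.card_congr (spEquiv (F := F) (α := Fin (2 ^ k))).toEquiv.symm,
      CfsgLib.SpecLin.SLTwo.card_sl_two, Sp.card_symplecticGroup rfl, Nat.card_perm, Nat.card_fin]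
    congr 1
    obtain ⟨hp, hp0⟩ := padic_prod hq hq1 (2 ^ k)
    have h2q : padicValNat 2 (Fintype.card F) = 0 :=
      padicValNat.eq_zero_of_not_dvd (by obtain ⟨c, hc⟩ := hq; omega)
    have hsq : Fintype.card F ^ 2 - 1 ≠ 0 := by
      have := Nat.pow_le_pow_left (show 2 ≤ Fintype.card F by omega) 2
      omega
    rw [Nat.factorization_def _ Nat.prime_two, Nat.factorization_def _ Nat.prime_two,
      Nat.factorization_def _ Nat.prime_two, padicValNat.mul (by omega) hsq, h2q, zero_add,
      padicValNat.mul (pow_ne_zero _ (by omega)) hp0, padicValNat.pow, h2q, mul_zero, zero_add, hp,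
      mul_comm]
  exact ⟨Sylow.ofCard _ hcard, rfl⟩

/-- The normaliser of the monomial Sylow subgroup. -/
theorem normalizer_monW {g : USp (Fin (2 ^ k)) F}
    (hg : g ∈ Subgroup.normalizer (monW k Q T : Set (USp (Fin (2 ^ k)) F))) :
    ∃ w ∈ monW k Q T, ∃ u ∈ Subgroup.normalizer (Q.toSubgroup : Set (Matrix.SpecialLinearGroup (Fin 2) F)),
      g = w * dia (Fin (2 ^ k)) u := by
  obtain ⟨P, hPi, hPj⟩ := exists_qpair hq Q
  have h2 := PronormalPSL.two_ne_zero_of_odd_card hq
  have hconj : ∀ w ∈ monW k Q T, g * w * g⁻¹ ∈ monW k Q T := fun w hw => (Subgroup.mem_normalizer_iff.1 hg w).1 hw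
  have hz2 : (P.z : M2) - 1 = (-2 : F) • (1 : M2) := by rw [P.z_val, neg_smul, two_smul]; abel
  have hcols : ∀ y, ∃ x, ∀ a, a ≠ x → mat g a y = 0 := by
    intro y
    obtain ⟨v, -, hv⟩ := hconj _ (sgl_mem_monW k Q T y hPi)
    set w := v * v with hwdef
    have hw : mon w = g * sgl y P.z * g⁻¹ := by
      rw [hwdef, map_mul, hv, show P.z = P.i * P.i from rfl, map_mul]; group
    have hentry : ∀ a b, (if w.right⁻¹ a = b then (w.left a : M2) else 0) =
        (1 : BM (Fin (2 ^ k)) F) a b + (-2 : F) • (mat g a y * adjugate (mat g b y)) := fun a b => by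
      rw [← mat_mon_apply, hw, mat_conj_sgl, hz2, mul_smul_comm, mul_one, smul_mul_assoc]
    have hne2 : (-2 : F) ≠ 0 := neg_ne_zero.2 h2
    have hzero : ∀ a b, a ≠ b → w.right⁻¹ a ≠ b → (mat g a y).det ≠ 0 → mat g b y = 0 := fun a b hab hb hd => by
      have h := hentry a b
      rw [if_neg hb, Matrix.one_apply_ne hab, zero_add, eq_comm, smul_eq_zero] at h
      have h' := congrArg (fun M => adjugate (mat g a y) * M) (h.resolve_left hne2)
      simp only [← mul_assoc, adj_mul, smul_mul_assoc, one_mul, mul_zero, smul_eq_zero] at h'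
      rw [← adj_adj (mat g b y), h'.resolve_left hd, adjugate_zero]
    have hmoved : ∀ a, w.right⁻¹ a ≠ a → (mat g a y).det ≠ 0 := fun a ha hd => by
      have h := hentry a a
      rw [if_neg ha, Matrix.one_apply_eq, mul_adj, hd, zero_smul, smul_zero, add_zero] at h
      exact one_ne_zero h.symm
    have hσ1 : w.right = 1 := by
      by_contra hne
      obtain ⟨a, ha⟩ : ∃ a, w.right⁻¹ a ≠ a := by
        by_contra hall
        push Not at hall
        exact hne (inv_eq_one.1 (Equiv.ext hall))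
      set b := w.right⁻¹ a
      have hfix : ∀ c, c ≠ a → c ≠ b → w.right⁻¹ c = c := fun c hca hcb => by
        by_contra hc
        have h0 := hmoved c hc
        rw [hzero a c (Ne.symm hca) (Ne.symm hcb) (hmoved a ha), det_zero] at h0
        exact h0 rfl
      have hswap : w.right⁻¹ = Equiv.swap a b := by
        refine Equiv.ext fun c => ?_
        rcases eq_or_ne c a with rfl | hca
        · rw [Equiv.swap_apply_left]
        rcases eq_or_ne c b with rfl | hcb
        · rw [Equiv.swap_apply_right]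
          by_contra h
          rcases eq_or_ne (w.right⁻¹ b) b with e | e
          · exact hca ((w.right⁻¹).injective (e.trans rfl))
          · exact e (w.right⁻¹.injective (hfix _ h e))
        · rw [Equiv.swap_apply_of_ne_of_ne hca hcb, hfix c hca hcb]
      have hs := congrArg Perm.sign hswap
      rw [map_inv, hwdef, SemidirectProduct.mul_right, map_mul, Int.units_mul_self, inv_one,
        Perm.sign_swap (Ne.symm ha)] at hs
      exact absurd hs (by decide)
    obtain ⟨x, hx⟩ : ∃ x, (mat g x y).det ≠ 0 := by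
      by_contra hall
      push Not at hall
      exact zero_ne_one ((Finset.sum_eq_zero fun a _ => hall a).symm.trans (sum_det g y))
    exact ⟨x, fun a ha => hzero x a (Ne.symm ha) (by rw [hσ1, inv_one, Perm.one_apply]; exact Ne.symm ha) hx⟩
  obtain ⟨⟨p, τ⟩, rfl⟩ := exists_mon_of_columns g hcols
  have hmem : ∀ v ∈ monSub (α := Fin (2 ^ k)) Q.toSubgroup T.toSubgroup,
      (⟨p, τ⟩ : Mon SL2 (Fin (2 ^ k))) * v * (⟨p, τ⟩ : Mon SL2 (Fin (2 ^ k)))⁻¹ ∈
        monSub (α := Fin (2 ^ k)) Q.toSubgroup T.toSubgroup := fun v hv => by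
    have h := hconj _ (Subgroup.mem_map_of_mem mon hv)
    rw [← map_inv, ← map_mul, ← map_mul] at h
    exact (Subgroup.mem_map_iff_mem mon_injective).1 h
  have hτ : τ ∈ T.toSubgroup := perm_normalizer k T (PronormalPSL.mem_normalizer_of_conj fun t ht => by
    have h := (hmem ⟨1, t⟩ ⟨fun _ => one_mem _, ht⟩).2
    simpa using h)
  set r : Mon SL2 (Fin (2 ^ k)) := ⟨p, 1⟩ with hr
  have hpτ : (⟨p, τ⟩ : Mon SL2 (Fin (2 ^ k))) = r * ⟨1, τ⟩ :=
    SemidirectProduct.ext (funext fun x => by simp [hr, mul_left_apply]) (by simp [hr])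
  have hr' : ∀ v ∈ monSub (α := Fin (2 ^ k)) Q.toSubgroup T.toSubgroup,
      r * v * r⁻¹ ∈ monSub (α := Fin (2 ^ k)) Q.toSubgroup T.toSubgroup := fun v hv => by
    have ht : (⟨1, τ⟩ : Mon SL2 (Fin (2 ^ k))) ∈ monSub (α := Fin (2 ^ k)) Q.toSubgroup T.toSubgroup :=
      ⟨fun _ => one_mem _, hτ⟩
    have := hmem _ (mul_mem (mul_mem (inv_mem ht) hv) ht)
    rw [hpτ] at this
    simpa [mul_assoc] using this
  have hpN : ∀ x, p x ∈ Subgroup.normalizer (Q.toSubgroup : Set SL2) := fun x =>
    PronormalPSL.mem_normalizer_of_conj fun q hq' => by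
      have h := (hr' (SemidirectProduct.inl fun _ => q) ⟨fun _ => hq', one_mem _⟩).1 x
      simpa [hr, mul_left_apply] using h
  have hrel : ∀ t ∈ T.toSubgroup, ∀ x, p x * (p (t⁻¹ x))⁻¹ ∈ Q.toSubgroup := fun t ht x => by
    have h := (hr' ⟨1, t⟩ ⟨fun _ => one_mem _, ht⟩).1 x
    simpa [hr, mul_left_apply] using h
  set x₀ : Fin (2 ^ k) := ⟨0, by positivity⟩
  refine ⟨mon ⟨fun x => p x * (p x₀)⁻¹, τ⟩, (mem_monW k Q T).2 ⟨fun x => ?_, hτ⟩, p x₀, hpN x₀, ?_⟩
  · obtain ⟨t, ht, htx⟩ := perm_transitive k T x₀ x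
    have h := hrel t ht x
    rwa [show t⁻¹ x = x₀ by rw [← htx]; simp] at h
  · show _ = mon _ * mon _
    rw [← map_mul]
    congr 1
    exact SemidirectProduct.ext (funext fun x => by simp [mul_left_apply]) (by simp)

end

end CfsgLib.PronormalPSp
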