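import Mathlib
import Cfsg.Agent.Lib.PronormalPSp.Sylow
import Cfsg.Agent.Lib.PronormalPSp.Product
import Cfsg.Prelude.Def_Classical

/-!
Overgroups of a Sylow 2-subgroup of `PSp(2^(k+1), q)`, `q` odd, are pronormal, and the normaliser of a
Sylow 2-subgroup is abelian modulo it.
-/

set_option autoImplicit false
set_option linter.unusedSectionVars false

namespace CfsgLib.PronormalPSp

open Matrix Equiv CfsgLib.SympSylow

universe u

/-- Commutators of elements differing by `W` from commuting elements modulo `W`. -/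
theorem commutator_mem {G : Type*} [Group G] (W : Subgroup G) {w₁ w₂ e₁ e₂ : G} (h1 : w₁ ∈ W) (h2 : w₂ ∈ W)
    (he1 : e₁ ∈ Subgroup.normalizer (W : Set G)) (he2 : e₂ ∈ Subgroup.normalizer (W : Set G))
    (hc : e₁ * e₂ * e₁⁻¹ * e₂⁻¹ ∈ W) :
    w₁ * e₁ * (w₂ * e₂) * (w₁ * e₁)⁻¹ * (w₂ * e₂)⁻¹ ∈ W := by
  rw [show w₁ * e₁ * (w₂ * e₂) * (w₁ * e₁)⁻¹ * (w₂ * e₂)⁻¹ =
    w₁ * (e₁ * w₂ * e₁⁻¹) * (e₁ * e₂ * e₁⁻¹ * e₂⁻¹) * (e₂ * w₁⁻¹ * e₂⁻¹) * w₂⁻¹ by group]
  exact mul_mem (mul_mem (mul_mem (mul_mem h1 ((Subgroup.mem_normalizer_iff.1 he1 _).1 h2)) hc)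
    ((Subgroup.mem_normalizer_iff.1 he2 _).1 (inv_mem h1))) (inv_mem h2)

variable {F : Type u} [Field F] [Fintype F] (hq : Odd (Fintype.card F))

local notation "M2" => Matrix (Fin 2) (Fin 2) F
local notation "SL2" => Matrix.SpecialLinearGroup (Fin 2) F

include hq

/-- Everything known about the normaliser of a Sylow 2-subgroup of `SL₂`. -/
theorem normalizer_structure (Q : Sylow 2 (Matrix.SpecialLinearGroup (Fin 2) F)) :
    (∀ x ∈ Subgroup.normalizer (Q.toSubgroup : Set SL2), x ∈ Q.toSubgroup) ∨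
      (Nat.card Q.toSubgroup = 8 ∧ ∃ (P : QPair F) (w : SL2), P.i ∈ Q.toSubgroup ∧ P.j ∈ Q.toSubgroup ∧
        w * w * w = 1 ∧ (w : M2) = (2⁻¹ : F) • (-1 + (P.i : M2) + P.j + (P.i : M2) * P.j) ∧
        w ∈ Subgroup.normalizer (Q.toSubgroup : Set SL2) ∧
        ∀ x ∈ Subgroup.normalizer (Q.toSubgroup : Set SL2), ∃ t : ℕ, ∃ a ∈ Q.toSubgroup, x = w ^ t * a) := by
  by_cases h8 : Nat.card Q.toSubgroup = 8
  · obtain ⟨P, hPi, hPj⟩ := exists_qpair hq Q
    obtain ⟨w, h3, -, hw, hwN, hN⟩ := P.normalizer_eight hq Q hPi hPj h8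
    exact Or.inr ⟨h8, P, w, hPi, hPj, h3, hw, hwN, hN⟩
  · exact Or.inl fun x hx => normalizer_eq_of_ne_eight hq Q h8 hx

/-- The normaliser is abelian modulo the Sylow subgroup. -/
theorem commutator_mem_sylow (Q : Sylow 2 (Matrix.SpecialLinearGroup (Fin 2) F)) {x y : SL2}
    (hx : x ∈ Subgroup.normalizer (Q.toSubgroup : Set SL2)) (hy : y ∈ Subgroup.normalizer (Q.toSubgroup : Set SL2)) :
    x * y * x⁻¹ * y⁻¹ ∈ Q.toSubgroup := by
  rcases normalizer_structure hq Q with h | ⟨-, P, w, -, -, -, -, hwN, hN⟩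
  · exact mul_mem (mul_mem (mul_mem (h x hx) (h y hy)) (inv_mem (h x hx))) (inv_mem (h y hy))
  · obtain ⟨s, a, ha, rfl⟩ := hN x hx
    obtain ⟨t, b, hb, rfl⟩ := hN y hy
    have hpow : ∀ n : ℕ, w ^ n ∈ Subgroup.normalizer (Q.toSubgroup : Set SL2) := fun n => pow_mem hwN n
    have e : ∀ (n : ℕ) (c : SL2), c ∈ Q.toSubgroup → w ^ n * c = (w ^ n * c * (w ^ n)⁻¹) * w ^ n := fun n c _ => by
      group
    rw [e s a ha, e t b hb]
    refine commutator_mem _ ((Subgroup.mem_normalizer_iff.1 (hpow s) a).1 ha)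
      ((Subgroup.mem_normalizer_iff.1 (hpow t) b).1 hb) (hpow s) (hpow t) ?_
    rw [← pow_add, add_comm s t, pow_add, mul_inv_cancel_right, mul_inv_cancel]
    exact one_mem _

/-- `PSL₂` with small Sylow subgroup gives the dichotomy for overgroups. -/
theorem normalizer_or_mem_join (Q : Sylow 2 (Matrix.SpecialLinearGroup (Fin 2) F))
    (h8 : Nat.card Q.toSubgroup = 8) {P : QPair F} (hPi : P.i ∈ Q.toSubgroup) {w : SL2} (hw3 : w * w * w = 1)
    (hwN : w ∈ Subgroup.normalizer (Q.toSubgroup : Set SL2))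
    (hN : ∀ x ∈ Subgroup.normalizer (Q.toSubgroup : Set SL2), ∃ t : ℕ, ∃ a ∈ Q.toSubgroup, x = w ^ t * a)
    {A : Subgroup SL2} (hA : Q.toSubgroup ≤ A) {v : SL2}
    (hv : v ∈ Subgroup.normalizer (Q.toSubgroup : Set SL2)) :
    v ∈ Subgroup.normalizer (A : Set SL2) ∨ v ∈ A ⊔ A.map (MulAut.conj v).toMonoidHom := by
  by_cases hvA : v ∈ Subgroup.normalizer (A : Set SL2)
  · exact Or.inl hvA
  refine Or.inr ?_
  have : Fact (Nat.Prime 2) := ⟨Nat.prime_two⟩
  have hnot : ¬ 8 ∣ Nat.card (Matrix.ProjectiveSpecialLinearGroup (Fin 2) F) := fun h => by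
    have h16 : 2 ^ 4 ∣ Nat.card SL2 := by
      have h' := CfsgLib.PSL2.card_psl (F := F)
      rw [CfsgLib.PSL2.gcd_eq_two hq] at h'
      rw [CfsgLib.SpecLin.SLTwo.card_sl_two, PronormalPSL.sq_sub_one_eq]
      obtain ⟨c, hc⟩ := h
      rw [hc] at h'
      refine ⟨c, ?_⟩
      calc _ = (Fintype.card F + 1) * (Fintype.card F * (Fintype.card F - 1)) := by ring
        _ = 2 * (8 * c) := h'.symm
        _ = 2 ^ 4 * c := by ring
    have h' := Q.pow_dvd_card_of_pow_dvd_card h16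
    rw [h8] at h'
    omega
  let π := QuotientGroup.mk' (Subgroup.center SL2)
  let R : Sylow 2 (Matrix.ProjectiveSpecialLinearGroup (Fin 2) F) := Q.mapSurjective (QuotientGroup.mk'_surjective _)
  have hpro := PronormalPSL.isPronormal_klein hq hnot R (H := A.map π) (Subgroup.map_mono hA)
  have hcA : ∀ c ∈ Subgroup.center SL2, c ∈ A := fun c hc => by
    obtain ⟨r, hr2, hr⟩ := PronormalPSL.scalar_eq_of_mem_center hc
    rcases sq_eq_one hq (x := c) (sl_ext (by
      rw [sl_val_mul, hr, smul_mul_smul_comm, one_mul, ← pow_two, hr2, one_smul]; rfl)) with h | h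
    · rw [h]; exact one_mem _
    · rw [show c = P.z from sl_ext (h.trans P.z_val.symm)]
      exact hA (mul_mem hPi hPi)
  have hmap : ∀ x : SL2, (A.map π).map (MulAut.conj (π x)).toMonoidHom = (A.map (MulAut.conj x).toMonoidHom).map π :=
    fun x => by rw [Subgroup.map_map, Subgroup.map_map]; congr 1
  obtain ⟨y', hy', he⟩ := hpro (π v)
  rw [hmap, ← Subgroup.map_sup] at hy'
  obtain ⟨y, hy, rfl⟩ := hy'
  rw [hmap, hmap] at he
  have hback : ∀ x : SL2, ((A.map (MulAut.conj x).toMonoidHom).map π).comap π = A.map (MulAut.conj x).toMonoidHom :=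
    fun x => Subgroup.comap_map_eq_self (by
      rw [QuotientGroup.ker_mk']
      intro c hc
      refine ⟨c, hcA c hc, ?_⟩
      show x * c * x⁻¹ = c
      rw [Subgroup.mem_center_iff.1 hc x, mul_inv_cancel_right])
  have heq : A.map (MulAut.conj v).toMonoidHom = A.map (MulAut.conj y).toMonoidHom := by
    rw [← hback v, he, hback]
  have hn : y⁻¹ * v ∈ Subgroup.normalizer (A : Set SL2) := mem_normalizer_of_map_eq (by
    rw [map_conj_mul, heq, ← map_conj_mul, inv_mul_cancel]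
    exact PronormalPSL.map_conj_eq_of_mem_normalizer (one_mem _))
  obtain ⟨a, ha, hr⟩ := frattini Q hA hn
  set r := a⁻¹ * (y⁻¹ * v)
  have hrA : r ∈ Subgroup.normalizer (A : Set SL2) := mul_mem (inv_mem (Subgroup.le_normalizer ha)) hn
  have hrQ : r ∈ Q.toSubgroup := by
    obtain ⟨t, b, hb, hrt⟩ := hN r hr
    have hw3' : w ^ 3 = 1 := by rw [pow_three, ← mul_assoc]; exact hw3
    have hwt : w ^ t = w ^ (t % 3) := by
      conv_lhs => rw [← Nat.div_add_mod t 3, pow_add, pow_mul, hw3', one_pow, one_mul]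
    by_cases ht : t % 3 = 0
    · rw [hrt, hwt, ht, pow_zero, one_mul]; exact hb
    exfalso
    have hwA' : w ^ (t % 3) ∈ Subgroup.normalizer (A : Set SL2) := by
      rw [← hwt, show w ^ t = r * b⁻¹ by rw [hrt, mul_inv_cancel_right]]
      exact mul_mem hrA (inv_mem (Subgroup.le_normalizer (hA hb)))
    have hwA : w ∈ Subgroup.normalizer (A : Set SL2) := by
      rcases (show t % 3 = 1 ∨ t % 3 = 2 by omega) with h | h <;> rw [h] at hwA'
      · rwa [pow_one] at hwA'
      · have := mul_mem hwA' hwA'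
        rwa [← pow_add, show 2 + 2 = 3 + 1 from rfl, pow_succ, hw3', one_mul] at this
    obtain ⟨s, c, hc, rfl⟩ := hN v hv
    exact hvA (mul_mem (pow_mem hwA s) (Subgroup.le_normalizer (hA hc)))
  have hv' : v = y * (a * r) := by simp only [r]; group
  rw [hv'] at hy ⊢
  exact mul_mem hy (Subgroup.mem_sup_left (mul_mem ha (hA hrQ)))

variable {k : ℕ}

/-- The key property of overgroups of the monomial Sylow subgroup. -/
theorem exists_join_conj (Q : Sylow 2 (Matrix.SpecialLinearGroup (Fin 2) F)) (T : Sylow 2 (Perm (Fin (2 ^ k))))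
    {H : Subgroup (USp (Fin (2 ^ k)) F)} (hW : monW k Q T ≤ H) {v : Matrix.SpecialLinearGroup (Fin 2) F}
    (hv : v ∈ Subgroup.normalizer (Q.toSubgroup : Set (Matrix.SpecialLinearGroup (Fin 2) F))) :
    ∃ y ∈ H ⊔ H.map (MulAut.conj (dia (Fin (2 ^ k)) v)).toMonoidHom,
      H.map (MulAut.conj y).toMonoidHom = H.map (MulAut.conj (dia (Fin (2 ^ k)) v)).toMonoidHom := by
  set e := dia (Fin (2 ^ k)) v with he
  have hsglQ : ∀ x, ∀ a ∈ Q.toSubgroup, sgl x a ∈ H := fun x a ha => hW (sgl_mem_monW k Q T x ha)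
  have hdiaQ : ∀ a ∈ Q.toSubgroup, dia (Fin (2 ^ k)) a ∈ H := fun a ha =>
    hW ((mem_monW k Q T).2 ⟨fun _ => ha, one_mem _⟩)
  rcases normalizer_structure hq Q with h | ⟨h8, P, w, hPi, hPj, hw3, hwval, hwN, hN⟩
  · exact ⟨e, Subgroup.mem_sup_left (hdiaQ v (h v hv)), rfl⟩
  have hT : ∀ σ ∈ T.toSubgroup, mon ⟨1, σ⟩ ∈ H := fun σ hσ => hW ((mem_monW k Q T).2 ⟨fun _ => one_mem _, hσ⟩)
  have hconjT : ∀ σ ∈ T.toSubgroup, ∀ x a, sgl x a ∈ H → sgl (σ x) a ∈ H := fun σ hσ x a hxa => by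
    have h := mul_mem (mul_mem (hT σ hσ) hxa) (inv_mem (hT σ hσ))
    rw [mon_conj_sgl] at h
    simpa using h
  by_cases hspread : ∃ h ∈ H, ∃ y, 1 < (colSupp h y).card
  · -- the diagonal element of order three lies in `H`
    obtain ⟨x, j, hxj, hpair⟩ := exists_pair_mem hq P Q hPi hPj hsglQ hspread w hw3 hwval hwN hN
    have hw3' : w ^ 3 = 1 := by rw [pow_three, ← mul_assoc]; exact hw3
    let φ : Multiplicative (ZMod 3) →* SL2 := MonoidHom.mk' (fun n => w ^ (Multiplicative.toAdd n).val) fun a b => by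
      rw [toAdd_mul, ZMod.val_add, ← pow_add, ← pow_eq_pow_mod _ hw3']
    let Φ : (Fin (2 ^ k) → Multiplicative (ZMod 3)) →* USp (Fin (2 ^ k)) F :=
      mon.comp (SemidirectProduct.inl.comp (φ.compLeft _))
    set g : Multiplicative (ZMod 3) := Multiplicative.ofAdd 1
    have hφg : φ g = w := by
      show w ^ (1 : ZMod 3).val = w
      rw [ZMod.val_one, pow_one]
    have hΦ : ∀ z, Φ (Pi.mulSingle z g) = sgl z w := fun z => by
      show mon (SemidirectProduct.inl (φ ∘ Pi.mulSingle z g)) = _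
      refine congrArg (fun q => mon (SemidirectProduct.inl q)) (funext fun y => ?_)
      show φ (Pi.mulSingle (M := fun _ : Fin (2 ^ k) => Multiplicative (ZMod 3)) z g y) =
        Pi.mulSingle (M := fun _ : Fin (2 ^ k) => SL2) z w y
      rcases eq_or_ne y z with rfl | hy
      · simp [hφg]
      · simp [Pi.mulSingle_eq_of_ne hy, map_one]
    classical
    set Γ := H.comap Φ
    have hσ : ∀ σ : T.toSubgroup, Pi.mulSingle ((σ : Perm (Fin (2 ^ k))) x) g *
        Pi.mulSingle ((σ : Perm (Fin (2 ^ k))) j) g ∈ Γ := fun σ => by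
      show Φ _ ∈ H
      rw [map_mul, hΦ, hΦ]
      have h := mul_mem (mul_mem (hT σ σ.2) hpair) (inv_mem (hT σ σ.2))
      rw [← mul_assoc (mon _), ← inv_mul_cancel_left (mon (⟨1, (σ : Perm (Fin (2 ^ k)))⟩ :
        Mon SL2 (Fin (2 ^ k)))) (sgl j w), ← mul_assoc (_ * sgl x w), mon_conj_sgl] at h
      rw [mul_assoc _ (mon _ * sgl j w), mon_conj_sgl] at h
      simpa using h
    let T' := T.toSubgroup
    have := Fintype.ofFinite T'
    have hprod : ∏ σ : T', (Pi.mulSingle ((σ : Perm (Fin (2 ^ k))) x) g *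
        Pi.mulSingle ((σ : Perm (Fin (2 ^ k))) j) g) ∈ Γ := Subgroup.prod_mem _ fun σ _ => hσ σ
    set c := Nat.card (MulAction.stabilizer T' x)
    have hcount : ∀ y z : Fin (2 ^ k), (∏ σ : T', (Pi.mulSingle ((σ : Perm (Fin (2 ^ k))) y) g :
        Fin (2 ^ k) → Multiplicative (ZMod 3))) z = g ^ c := by
      intro y z
      rw [Finset.prod_apply]
      have : ∀ σ : T', (Pi.mulSingle ((σ : Perm (Fin (2 ^ k))) y) g : Fin (2 ^ k) → Multiplicative (ZMod 3)) z =
          if (σ : Perm (Fin (2 ^ k))) y = z then g else 1 := fun σ => by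
        rw [Pi.mulSingle_apply]; simp only [eq_comm]
      rw [Finset.prod_congr rfl fun σ _ => this σ, Finset.prod_ite, Finset.prod_const, Finset.prod_const_one, mul_one]
      congr 1
      obtain ⟨a, ha, hay⟩ := perm_transitive k T y x
      obtain ⟨b, hb, hbz⟩ := perm_transitive k T x z
      rw [← Fintype.card_subtype, ← Nat.card_eq_fintype_card]
      refine Nat.card_congr ⟨fun σ => ⟨⟨b, hb⟩⁻¹ * σ.1 * ⟨a, ha⟩⁻¹, ?_⟩, fun τ => ⟨⟨b, hb⟩ * τ.1 * ⟨a, ha⟩, ?_⟩,
        fun σ => Subtype.ext (by simp [mul_assoc]), fun τ => Subtype.ext (by simp [mul_assoc])⟩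
      · show (b⁻¹ * (σ.1 : Perm (Fin (2 ^ k))) * a⁻¹) x = x
        rw [Perm.mul_apply, Perm.mul_apply, show a⁻¹ x = y by rw [← hay]; simp, σ.2, ← hbz]
        simp
      · show (b * (τ.1 : Perm (Fin (2 ^ k))) * a) y = z
        rw [Perm.mul_apply, Perm.mul_apply, hay, show (τ.1 : Perm (Fin (2 ^ k))) x = x from τ.2, hbz]
    have hconst : (fun _ => g) ^ (2 * c) ∈ Γ := by
      convert hprod using 1
      rw [Finset.prod_mul_distrib]
      funext z
      rw [Pi.mul_apply, hcount, hcount, Pi.pow_apply, two_mul, pow_add]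
    have hc3 : (2 * c).Coprime 3 := by
      obtain ⟨t, ht⟩ := IsPGroup.iff_card.1 (T.isPGroup'.to_subgroup (MulAction.stabilizer T' x))
      rw [show c = 2 ^ t from ht, ← pow_succ']
      exact Nat.Coprime.pow_left _ (by norm_num)
    have hg3 : (fun _ : Fin (2 ^ k) => g) ^ 3 = 1 := funext fun _ => show g ^ 3 = 1 by decide
    have hgΓ : (fun _ : Fin (2 ^ k) => g) ∈ Γ := by
      obtain ⟨u, -, hu⟩ := Nat.exists_mul_mod_eq_one_of_coprime hc3 (by norm_num)
      have h := pow_mem hconst u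
      rwa [← pow_mul, pow_eq_pow_mod _ hg3, hu, pow_one] at h
    have hwH : dia (Fin (2 ^ k)) w ∈ H := by
      have h : Φ (fun _ => g) ∈ H := hgΓ
      have e : Φ (fun _ => g) = dia (Fin (2 ^ k)) w := by
        show mon (SemidirectProduct.inl (φ ∘ fun _ => g)) = mon _
        rw [Function.comp_def]; simp [hφg, dia]
        rfl
      rwa [e] at h
    obtain ⟨s, a, ha, rfl⟩ := hN v hv
    refine ⟨e, Subgroup.mem_sup_left ?_, rfl⟩
    rw [he, map_mul, map_pow]
    exact mul_mem (pow_mem hwH s) (hdiaQ a ha)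
  · -- `H` permutes the blocks
    have hmon : ∀ h ∈ H, ∃ u, mon u = h := fun h hh => exists_mon_of_columns h fun y => by
      by_contra hne
      push Not at hne
      obtain ⟨a, -, ha⟩ := hne ⟨0, by positivity⟩
      obtain ⟨b, hab, hb⟩ := hne a
      exact hspread ⟨h, hh, y, Finset.one_lt_card.2 ⟨a, mem_colSupp.2 ha, b, mem_colSupp.2 hb, Ne.symm hab⟩⟩
    set x₀ : Fin (2 ^ k) := ⟨0, by positivity⟩
    set A := H.comap (sgl x₀)
    have hAall : ∀ x a, sgl x a ∈ H ↔ a ∈ A := fun x a => by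
      obtain ⟨σ, hσ, hσx⟩ := perm_transitive k T x x₀
      exact ⟨fun h => show sgl x₀ a ∈ H from hσx ▸ hconjT σ hσ x a h, fun h => by
        have := hconjT σ⁻¹ (inv_mem hσ) x₀ a h
        rwa [show σ⁻¹ x₀ = x by rw [← hσx]; simp] at this⟩
    have hQA : Q.toSubgroup ≤ A := fun a ha => hsglQ x₀ a ha
    rcases normalizer_or_mem_join hq Q h8 hPi hw3 hwN hN hQA hv with hvA | hvJ
    · refine ⟨1, one_mem _, ?_⟩
      rw [PronormalPSL.map_conj_eq_of_mem_normalizer (one_mem _)]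
      refine (PronormalPSL.map_conj_eq_of_mem_normalizer (PronormalPSL.mem_normalizer_of_conj fun h hh => ?_)).symm
      obtain ⟨⟨p, σ⟩, rfl⟩ := hmon h hh
      have hpA : ∀ x, p x ∈ Subgroup.normalizer (A : Set SL2) := fun x => PronormalPSL.mem_normalizer_of_conj
        fun a ha => by
          have h1 := mul_mem (mul_mem hh ((hAall (σ⁻¹ x) a).2 ha)) (inv_mem hh)
          rw [mon_conj_sgl] at h1
          have h2 := (hAall _ _).1 h1
          simpa using h2
      have hcomm : ∀ x, v * p x * v⁻¹ * (p x)⁻¹ ∈ A := fun x => by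
        obtain ⟨a, ha, hr⟩ := frattini Q hQA (hpA x)
        set r := a⁻¹ * p x
        rw [show v * p x * v⁻¹ * (p x)⁻¹ = (v * a * v⁻¹) * (v * r * v⁻¹ * r⁻¹) * a⁻¹ by simp only [r]; group]
        exact mul_mem (mul_mem ((Subgroup.mem_normalizer_iff.1 hvA a).1 ha) (hQA (commutator_mem_sylow hq Q hv hr)))
          (inv_mem ha)
      set u : Mon SL2 (Fin (2 ^ k)) := SemidirectProduct.inl (fun x => v * p x * v⁻¹ * (p x)⁻¹) with hu
      have huH : mon u ∈ H := by
        have hle : ∀ x, v * p x * v⁻¹ * (p x)⁻¹ ∈ A := hcomm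
        exact Subgroup.pi_mem_of_mulSingle_mem (H := H.comap (mon.comp SemidirectProduct.inl))
          _ fun x => (hAall x _).2 (hle x)
      have key : e * mon ⟨p, σ⟩ * e⁻¹ = mon u * mon ⟨p, σ⟩ := by
        rw [he, dia]
        simp only [MonoidHom.comp_apply, ← map_inv, ← map_mul]
        congr 1
        exact SemidirectProduct.ext (funext fun x => by simp [hu, mul_left_apply]) (by simp [hu])
      rw [key]
      exact mul_mem huH hh
    · refine ⟨e, ?_, rfl⟩
      set K := H ⊔ H.map (MulAut.conj e).toMonoidHom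
      refine Subgroup.pi_mem_of_mulSingle_mem (H := K.comap (mon.comp SemidirectProduct.inl)) _ fun x => ?_
      show sgl x v ∈ K
      have hle : A ⊔ A.map (MulAut.conj v).toMonoidHom ≤ K.comap (sgl x) := by
        refine sup_le (fun a ha => Subgroup.mem_sup_left ((hAall x a).2 ha)) ?_
        rintro _ ⟨a, ha, rfl⟩
        refine Subgroup.mem_sup_right ⟨sgl x a, (hAall x a).2 ha, ?_⟩
        show e * sgl x a * e⁻¹ = sgl x (v * a * v⁻¹)
        rw [he, dia, MonoidHom.comp_apply, mon_conj_sgl]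
        simp
      exact hle hvJ

/-- Both properties, in the quotient by a central subgroup. -/
theorem exists_good_sylow (k : ℕ) {G : Type*} [Group G] [Finite G] (f : USp (Fin (2 ^ k)) F →* G)
    (hf : Function.Surjective f) (hker : f.ker ≤ Subgroup.center (USp (Fin (2 ^ k)) F)) :
    ∃ S : Sylow 2 G, (∀ a ∈ Subgroup.normalizer (S.toSubgroup : Set G),
      ∀ b ∈ Subgroup.normalizer (S.toSubgroup : Set G), a * b * a⁻¹ * b⁻¹ ∈ S.toSubgroup) ∧
      ∀ H : Subgroup G, S.toSubgroup ≤ H → Cfsg.IsPronormal H := by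
  have : Fact (Nat.Prime 2) := ⟨Nat.prime_two⟩
  obtain ⟨Q⟩ : Nonempty (Sylow 2 (Matrix.SpecialLinearGroup (Fin 2) F)) := inferInstance
  obtain ⟨T⟩ : Nonempty (Sylow 2 (Perm (Fin (2 ^ k)))) := inferInstance
  obtain ⟨S, hS⟩ := exists_sylow_monW hq k Q T
  have hdia : ∀ u ∈ Subgroup.normalizer (Q.toSubgroup : Set SL2),
      dia (Fin (2 ^ k)) u ∈ Subgroup.normalizer (monW k Q T : Set (USp (Fin (2 ^ k)) F)) := fun u hu =>
    PronormalPSL.mem_normalizer_of_conj fun x hx => by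
      obtain ⟨⟨p, σ⟩, hm, rfl⟩ := hx
      rw [dia, MonoidHom.comp_apply, ← map_inv, ← map_mul, ← map_mul]
      refine (mem_monW k Q T).2 ⟨fun y => ?_, by simpa using hm.2⟩
      have := (Subgroup.mem_normalizer_iff.1 hu (p y)).1 (hm.1 y)
      simpa [mul_left_apply] using this
  have hnorm : ∀ g ∈ Subgroup.normalizer ((S.mapSurjective hf).toSubgroup : Set G), ∃ g' ∈
      Subgroup.normalizer (monW k Q T : Set (USp (Fin (2 ^ k)) F)), f g' = g := by
    intro g hg
    obtain ⟨g', rfl⟩ := hf g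
    have hsub : ((g' • S : Sylow 2 (USp (Fin (2 ^ k)) F))).toSubgroup ≤ S.toSubgroup ⊔ f.ker := by
      rw [Sylow.coe_subgroup_smul]
      rintro _ ⟨s, hs, rfl⟩
      rw [← Subgroup.comap_map_eq]
      show f (g' * s * g'⁻¹) ∈ S.toSubgroup.map f
      rw [map_mul, map_mul, map_inv]
      exact (Subgroup.mem_normalizer_iff.1 hg (f s)).1 ⟨s, hs, rfl⟩
    refine ⟨g', ?_, rfl⟩
    rw [← hS]
    have hnS : S.toSubgroup ⊔ f.ker ≤ Subgroup.normalizer (S.toSubgroup : Set (USp (Fin (2 ^ k)) F)) :=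
      sup_le Subgroup.le_normalizer fun z hz => PronormalPSL.mem_normalizer_of_conj fun s hs => by
        rwa [← Subgroup.mem_center_iff.1 (hker hz) s, mul_inv_cancel_right]
    have hgp : IsPGroup 2 ((g' • S : Sylow 2 (USp (Fin (2 ^ k)) F)).toSubgroup ⊔ S.toSubgroup :
        Subgroup (USp (Fin (2 ^ k)) F)) :=
      (g' • S).isPGroup'.to_sup_of_normal_right' S.isPGroup' (hsub.trans hnS)
    have e1 := S.is_maximal' hgp le_sup_right
    have e2 := (g' • S).is_maximal' hgp le_sup_left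
    exact Sylow.smul_eq_iff_mem_normalizer.1 (Sylow.ext (e2.symm.trans e1))
  refine ⟨S.mapSurjective hf, fun a ha b hb => ?_, fun H hH => ?_⟩
  · obtain ⟨a', ha', rfl⟩ := hnorm a ha
    obtain ⟨b', hb', rfl⟩ := hnorm b hb
    obtain ⟨w₁, hw1, u₁, hu1, rfl⟩ := normalizer_monW hq k Q T ha'
    obtain ⟨w₂, hw2, u₂, hu2, rfl⟩ := normalizer_monW hq k Q T hb'
    rw [← map_inv, ← map_inv, ← map_mul, ← map_mul, ← map_mul]
    refine Subgroup.mem_map_of_mem f ?_
    rw [hS]
    refine commutator_mem _ hw1 hw2 (hdia u₁ hu1) (hdia u₂ hu2) ?_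
    rw [← map_inv, ← map_inv, ← map_mul, ← map_mul, ← map_mul]
    exact (mem_monW k Q T).2 ⟨fun _ => commutator_mem_sylow hq Q hu1 hu2, one_mem _⟩
  · refine PronormalPSL.isPronormal_of_sylow (S.mapSurjective hf) hH fun z hz => ?_
    obtain ⟨z', hz', rfl⟩ := hnorm z hz
    obtain ⟨w, hw, u, hu, rfl⟩ := normalizer_monW hq k Q T hz'
    have hWH : monW k Q T ≤ H.comap f := fun x hx => hH ⟨x, hS ▸ hx, rfl⟩
    obtain ⟨y, hy, hyz⟩ := exists_join_conj hq Q T hWH hu
    have hmap : ∀ g, ((H.comap f).map (MulAut.conj g).toMonoidHom).map f = H.map (MulAut.conj (f g)).toMonoidHom := by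
      intro g
      conv_rhs => rw [← Subgroup.map_comap_eq_self_of_surjective hf H]
      rw [Subgroup.map_map, Subgroup.map_map]
      congr 1
      ext x; simp
    have hy' : f y ∈ H ⊔ H.map (MulAut.conj (f (dia (Fin (2 ^ k)) u))).toMonoidHom := by
      have h := Subgroup.mem_map_of_mem f hy
      rwa [Subgroup.map_sup, hmap, Subgroup.map_comap_eq_self_of_surjective hf] at h
    have hw' : f w ∈ H := hWH hw
    have hyz' : H.map (MulAut.conj (f (w * y))).toMonoidHom = H.map (MulAut.conj (f (w * dia (Fin (2 ^ k)) u))).toMonoidHom := by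
      rw [map_mul f w y, map_mul f w (dia (Fin (2 ^ k)) u), map_conj_mul, map_conj_mul, ← hmap y, hyz, hmap]
    refine ⟨f (w * y), ?_, hyz'⟩
    rw [map_mul f w, map_mul f w]
    refine mul_mem (Subgroup.mem_sup_left hw') ?_
    have hle : H ⊔ H.map (MulAut.conj (f (dia (Fin (2 ^ k)) u))).toMonoidHom ≤
        H ⊔ H.map (MulAut.conj (f w * f (dia (Fin (2 ^ k)) u))).toMonoidHom := by
      refine sup_le le_sup_left ?_
      rintro _ ⟨h, hh, rfl⟩
      have h1 : f w * f (dia (Fin (2 ^ k)) u) * h * (f w * f (dia (Fin (2 ^ k)) u))⁻¹ ∈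
          H ⊔ H.map (MulAut.conj (f w * f (dia (Fin (2 ^ k)) u))).toMonoidHom :=
        Subgroup.mem_sup_right ⟨h, hh, rfl⟩
      have h2 := mul_mem (mul_mem (Subgroup.mem_sup_left (inv_mem hw')) h1) (Subgroup.mem_sup_left hw')
      simpa [mul_assoc] using h2
    exact hle hy'

/-- The result for `PSp`. -/
theorem exists_good_sylow_psp {m : ℕ} (hm : ∃ k, m = 2 ^ k) :
    ∃ S : Sylow 2 (Cfsg.PSp m F), (∀ a ∈ Subgroup.normalizer (S.toSubgroup : Set (Cfsg.PSp m F)),
      ∀ b ∈ Subgroup.normalizer (S.toSubgroup : Set (Cfsg.PSp m F)), a * b * a⁻¹ * b⁻¹ ∈ S.toSubgroup) ∧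
      ∀ H : Subgroup (Cfsg.PSp m F), S.toSubgroup ≤ H → Cfsg.IsPronormal H := by
  obtain ⟨k, rfl⟩ := hm
  refine exists_good_sylow hq k ((QuotientGroup.mk' _).comp (spEquiv (F := F) (α := Fin (2 ^ k))).symm.toMonoidHom)
    ((QuotientGroup.mk'_surjective _).comp (spEquiv (F := F) (α := Fin (2 ^ k))).symm.surjective) fun z hz => ?_
  rw [← MonoidHom.comap_ker, QuotientGroup.ker_mk'] at hz
  rw [Subgroup.mem_center_iff]
  intro g
  exact (spEquiv (F := F) (α := Fin (2 ^ k))).symm.injective (by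
    rw [map_mul, map_mul]; exact Subgroup.mem_center_iff.1 hz _)

end CfsgLib.PronormalPSp
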